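import Groth.Agent.Lib.Modules.TensorAffine
import Groth.Agent.Lib.AssPt.Basic
import Groth.Agent.Lib.Ideal.Prime
import Groth.Agent.Lib.ClSub.Quot
import Groth.Agent.Lib.ClSub.Cartier

/-!
# Stalks of `idealMod I`, `quotMod I`, and of `s ⊗ id : L ⊗ N ⟶ N` for `s : L ⟶ O`
-/

set_option autoImplicit false
set_option linter.style.haveILetI false
universe u

open CategoryTheory CategoryTheory.Limits AlgebraicGeometry Opposite TopologicalSpace
  MonoidalCategory
open scoped TensorProduct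

namespace Groth.Agent.Lib.SurfInt.Stalk

open Groth.Agent.Lib Groth.Agent.Lib.TensorMod Groth.Agent.Lib.TensorMod.Basic
open Groth.Agent.Lib.Modules
open Groth.Agent.Lib.Ideal.Prime (stalkIdeal stalkIdeal_eq)

noncomputable section

variable {X : Scheme.{u}}

/-- The stalk of the structure module. -/
def oStalk (x : X) : (Coh.structureModule X).presheaf.stalk x ≃ₗ[X.presheaf.stalk x]
    X.presheaf.stalk x :=
  (AssPt.Basic.unitStalkEquiv x).symm

lemma oStalk_germ {U : X.Opens} {x : X} (hx : x ∈ U) (r : Γ(X, U)) :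
    oStalk x ((Coh.structureModule X).presheaf.germ U x hx r) = X.presheaf.germ U x hx r := by
  rw [oStalk, LinearEquiv.symm_apply_eq]
  change _ = X.presheaf.germ U x hx r •
    (Coh.structureModule X).presheaf.germ ⊤ x trivial (1 : Γ(X, ⊤))
  rw [← AssPt.Basic.unitStalk_germ_smul_one x hx r]
  refine congrArg _ (Eq.trans (congrArg _ ?_) (TopCat.Presheaf.germ_res_apply
      (Coh.structureModule X).presheaf (homOfLE (le_top : U ≤ ⊤)) x hx (1 : Γ(X, ⊤))))
  exact (map_one (X.presheaf.map (homOfLE (le_top : U ≤ ⊤)).op).hom).symm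

theorem leftUnit_tens (M : X.Modules) {U : X.Opens} (r : Γ(X, U)) (m : Γ(M, U)) :
    (leftUnit M).hom.app U (TensorSec.tens (M := Coh.structureModule X) r m) = r • m := by
  refine (TensorSec.app_tens _ _ _).trans ?_
  have h : (adj X).homEquiv _ M (leftUnit M).hom =
      ((fgtStructureIso X ⊗ᵢ Iso.refl _) ≪≫ λ_ _).hom := by
    apply ((adj X).homEquiv _ _).symm.injective
    refine (Equiv.symm_apply_apply _ _).trans
      (Eq.trans ?_ (((adj X).homEquiv_counit _ _ _)).symm)
    rfl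
  exact (congrArg (fun t => Whisker.pair (M := (fgt X).obj (Coh.structureModule X))
    (P := (fgt X).obj M) (H := (fgt X).obj M) (X := op U) t
    (show ((fgt X).obj (Coh.structureModule X)).obj (op U) from r) m) h).trans rfl

/-- `s ⊗ id : L ⊗ N ⟶ O ⊗ N ≅ N`. -/
def act {L : X.Modules} (s : L ⟶ Coh.structureModule X) (N : X.Modules) :
    CohB1.tensorMod L N ⟶ N :=
  tmap s (𝟙 N) ≫ (leftUnit N).hom

theorem act_tens {L : X.Modules} (s : L ⟶ Coh.structureModule X) {N : X.Modules} {U : X.Opens}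
    (m : Γ(L, U)) (n : Γ(N, U)) :
    (act s N).app U (TensorSec.tens m n) = (show Γ(X, U) from s.app U m) • n := by
  change (leftUnit N).hom.app U ((tmap s (𝟙 N)).app U (TensorSec.tens m n)) = _
  rw [TensorSec.tmap_tens]
  exact leftUnit_tens N _ n

theorem act_stalk {L : X.Modules} (s : L ⟶ Coh.structureModule X) (N : X.Modules) (x : X)
    (a : L.presheaf.stalk x) (v : N.presheaf.stalk x) :
    StalkModule.stalkMapₗ (act s N) x ((DerivedOX.TensorSheaf.tensorStalk x L N).symm (a ⊗ₜ v)) =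
      oStalk x (StalkModule.stalkMapₗ s x a) • v := by
  obtain ⟨Ua, ha, m₀, rfl⟩ := TopCat.Presheaf.exists_germ_eq L.presheaf a
  obtain ⟨Uv, hv, n₀, rfl⟩ := TopCat.Presheaf.exists_germ_eq N.presheaf v
  have hx : x ∈ Ua ⊓ Uv := ⟨ha, hv⟩
  rw [← TopCat.Presheaf.germ_res_apply L.presheaf (homOfLE inf_le_left) x hx m₀,
    ← TopCat.Presheaf.germ_res_apply N.presheaf (homOfLE inf_le_right) x hx n₀,
    ← TensorAffine.tensorStalk_germ_tens hx, StalkModule.stalkMapₗ_germ, oStalk_germ]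
  erw [LinearEquiv.symm_apply_apply, StalkModule.stalkMapₗ_germ, act_tens, StalkModule.germ_smul]

/-- `O_{X,x} ⟶ (O_X/I)_x`. -/
def quotStalk (I : X.IdealSheafData) (x : X) :
    X.presheaf.stalk x →ₗ[X.presheaf.stalk x] (_root_.ClSub.quotMod I).presheaf.stalk x :=
  StalkModule.stalkMapₗ (_root_.ClSub.toSubscheme I) x ∘ₗ (oStalk x).symm.toLinearMap

theorem quotStalk_surjective (I : X.IdealSheafData) (x : X) :
    Function.Surjective (quotStalk I x) := by
  haveI := ClSub.Quot.epi_toSubscheme I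
  exact ((StalkModule.epi_iff_stalkMapₗ_surjective _).mp inferInstance x).comp
    (oStalk x).symm.surjective

/-- The stalk of the ideal sheaf inside the local ring. -/
def idealStalk (I : X.IdealSheafData) (x : X) :
    (_root_.ClSub.idealMod I).presheaf.stalk x →ₗ[X.presheaf.stalk x] X.presheaf.stalk x :=
  (oStalk x).toLinearMap ∘ₗ StalkModule.stalkMapₗ (_root_.ClSub.idealModι I) x

theorem idealStalk_injective (I : X.IdealSheafData) (x : X) :
    Function.Injective (idealStalk I x) :=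
  (oStalk x).injective.comp
    ((StalkModule.mono_iff_stalkMapₗ_injective _).mp (ClSub.Quot.mono_idealModι I) x)

theorem range_idealStalk (I : X.IdealSheafData) (x : X) :
    LinearMap.range (idealStalk I x) = stalkIdeal I x := by
  apply le_antisymm
  · rintro _ ⟨a, rfl⟩
    obtain ⟨W, hxW, m, rfl⟩ := TopCat.Presheaf.exists_germ_eq
      (_root_.ClSub.idealMod I).presheaf a
    obtain ⟨U, hU, hxU, hUW⟩ := exists_isAffineOpen_mem_and_subset hxW
    rw [← TopCat.Presheaf.germ_res_apply (_root_.ClSub.idealMod I).presheaf (homOfLE hUW) x hxU m,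
      stalkIdeal_eq I ⟨U, hU⟩ hxU]
    change oStalk x (StalkModule.stalkMapₗ _ x _) ∈ _
    rw [StalkModule.stalkMapₗ_germ, oStalk_germ]
    exact Ideal.mem_map_of_mem _
      ((ClSub.Sections.mem_range_idealModι_app_affine_iff I ⟨U, hU⟩ _).mp ⟨_, rfl⟩)
  · obtain ⟨U, hU, hxU, -⟩ := exists_isAffineOpen_mem_and_subset
      (show x ∈ (⊤ : X.Opens) from trivial)
    rw [stalkIdeal_eq I ⟨U, hU⟩ hxU, Ideal.map, Ideal.span_le]
    rintro _ ⟨s, hs, rfl⟩
    obtain ⟨m, hm⟩ := (ClSub.Sections.mem_range_idealModι_app_affine_iff I ⟨U, hU⟩ s).mpr hs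
    refine ⟨(_root_.ClSub.idealMod I).presheaf.germ U x hxU m, ?_⟩
    change oStalk x (StalkModule.stalkMapₗ _ x _) = _
    rw [StalkModule.stalkMapₗ_germ, oStalk_germ, ← hm]

theorem ker_quotStalk (I : X.IdealSheafData) (x : X) :
    LinearMap.ker (quotStalk I x) = stalkIdeal I x := by
  rw [← range_idealStalk]
  have hex := (Stalk.exact_iff_stalk (ClSub.Quot.idealSeq I)).mp
    (ClSub.Quot.idealSeq_shortExact I).exact x
  rw [ShortComplex.ab_exact_iff_function_exact] at hex
  ext r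
  rw [LinearMap.mem_ker, LinearMap.mem_range]
  refine (hex ((oStalk x).symm r)).trans ⟨fun ⟨a, ha⟩ => ⟨a, ?_⟩, fun ⟨a, ha⟩ => ⟨a, ?_⟩⟩
  · change oStalk x (StalkModule.stalkMapₗ _ x a) = r
    exact (LinearEquiv.eq_symm_apply _).mp ha
  · exact (LinearEquiv.eq_symm_apply _).mpr ha

theorem stalkIdeal_sup (I J : X.IdealSheafData) (x : X) :
    stalkIdeal (I ⊔ J) x = stalkIdeal I x ⊔ stalkIdeal J x := by
  obtain ⟨U, hU, hxU, -⟩ := exists_isAffineOpen_mem_and_subset
    (show x ∈ (⊤ : X.Opens) from trivial)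
  rw [stalkIdeal_eq (I ⊔ J) ⟨U, hU⟩ hxU, stalkIdeal_eq I ⟨U, hU⟩ hxU, stalkIdeal_eq J ⟨U, hU⟩ hxU,
    ← Ideal.map_sup, Scheme.IdealSheafData.ideal_sup]
  rfl

end

end Groth.Agent.Lib.SurfInt.Stalk
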