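import Groth.Agent.Lib.SurfInt.Seq
import Groth.Agent.Lib.Snapper.Twist

/-!
# `0 ⟶ I_C ⊗ O/(E : C) ⟶ O/E ⟶ O/(C + E) ⟶ 0`
-/

set_option autoImplicit false
set_option linter.style.haveILetI false
universe u

open CategoryTheory CategoryTheory.Limits AlgebraicGeometry TopologicalSpace
open scoped TensorProduct

namespace Groth.Agent.Lib.SurfInt.ColonSeq

open Groth.Agent.Lib Groth.Agent.Lib.Modules Groth.Agent.Lib.SurfInt.Stalk
open Groth.Agent.Lib.SurfInt.Seq
open Groth.Agent.Lib.Ideal.Prime (stalkIdeal)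
open Groth.Agent.Lib.TensorMod.Basic (tmap)

noncomputable section

variable {X : Scheme.{u}}

/-- `1 ⊗ φ` on pure tensors in the stalk. -/
theorem stalk_tmap {P N N' : X.Modules} (φ : N ⟶ N') (x : X) (a : P.presheaf.stalk x)
    (v : N.presheaf.stalk x) :
    StalkModule.stalkMapₗ (tmap (𝟙 P) φ) x
      ((DerivedOX.TensorSheaf.tensorStalk x P N).symm (a ⊗ₜ v)) =
      (DerivedOX.TensorSheaf.tensorStalk x P N').symm (a ⊗ₜ StalkModule.stalkMapₗ φ x v) := by
  have e : (DCoh.tensorBi.map (𝟙 P)).app N ≫ (DCoh.tensorBi.obj P).map φ = tmap (𝟙 P) φ := by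
    rw [CategoryTheory.Functor.map_id, NatTrans.id_app, Category.id_comp]
    rfl
  have h := DerivedOX.TensorSheaf.tensorStalk_natural x (𝟙 P) φ
    ((DerivedOX.TensorSheaf.tensorStalk x P N).symm (a ⊗ₜ v))
  rw [LinearEquiv.apply_symm_apply, TensorProduct.map_tmul, StalkModule.stalkMapₗ_id,
    LinearMap.id_apply] at h
  apply (DerivedOX.TensorSheaf.tensorStalk x P N').injective
  refine Eq.trans ?_ (h.trans (LinearEquiv.apply_symm_apply _ _).symm)
  rw [e]
  rfl

/-- With a principal stalk `I_x = (c)`, every element of `(I ⊗ N)_x` is a pure tensor. -/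
theorem exists_pure (C : X.IdealSheafData) (x : X) (c : X.presheaf.stalk x)
    (he : stalkIdeal C x = _root_.Ideal.span {c}) :
    ∃ a₀, idealStalk C x a₀ = c ∧ ∀ (N : X.Modules)
      (z : (CohB1.tensorMod (_root_.ClSub.idealMod C) N).presheaf.stalk x),
      ∃ v, z = (DerivedOX.TensorSheaf.tensorStalk x (_root_.ClSub.idealMod C) N).symm
        (a₀ ⊗ₜ v) := by
  let P := _root_.ClSub.idealMod C
  obtain ⟨a₀, ha₀⟩ : c ∈ LinearMap.range (idealStalk C x) := by
    rw [range_idealStalk, he]; exact _root_.Ideal.mem_span_singleton_self c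
  refine ⟨a₀, ha₀, fun N z => ?_⟩
  have hgen : ∀ t : P.presheaf.stalk x ⊗[X.presheaf.stalk x] N.presheaf.stalk x,
      ∃ v, t = a₀ ⊗ₜ[X.presheaf.stalk x] v := by
    intro t
    induction t using TensorProduct.induction_on with
    | zero => exact ⟨0, (TensorProduct.tmul_zero _ _).symm⟩
    | tmul a v =>
      have hmem : idealStalk C x a ∈ _root_.Ideal.span {c} :=
        he ▸ range_idealStalk C x ▸ LinearMap.mem_range_self _ a
      obtain ⟨r, hr⟩ := _root_.Ideal.mem_span_singleton'.mp hmem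
      refine ⟨r • v, ?_⟩
      rw [← TensorProduct.smul_tmul]
      congr 1
      refine idealStalk_injective C x ?_
      rw [map_smul, ha₀, smul_eq_mul, hr]
    | add t t' h h' =>
      obtain ⟨v, rfl⟩ := h
      obtain ⟨v', rfl⟩ := h'
      exact ⟨v + v', (TensorProduct.tmul_add _ _ _).symm⟩
  obtain ⟨v, hv⟩ := hgen (DerivedOX.TensorSheaf.tensorStalk x P N z)
  exact ⟨v, by rw [← hv]; exact (LinearEquiv.symm_apply_apply _ z).symm⟩

theorem act_quot_stalk (C E : X.IdealSheafData) (x : X)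
    (a : (_root_.ClSub.idealMod C).presheaf.stalk x)
    (v : (Coh.structureModule X).presheaf.stalk x) :
    StalkModule.stalkMapₗ
      (act (_root_.ClSub.idealModι C) (Coh.structureModule X) ≫ _root_.ClSub.toSubscheme E) x
      ((DerivedOX.TensorSheaf.tensorStalk x (_root_.ClSub.idealMod C) (Coh.structureModule X)).symm
        (a ⊗ₜ v)) = quotStalk E x (idealStalk C x a * oStalk x v) := by
  rw [StalkModule.stalkMapₗ_comp, LinearMap.comp_apply,
    show StalkModule.stalkMapₗ (act (_root_.ClSub.idealModι C) (Coh.structureModule X)) x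
      ((DerivedOX.TensorSheaf.tensorStalk x (_root_.ClSub.idealMod C)
        (Coh.structureModule X)).symm (a ⊗ₜ v)) = idealStalk C x a • v from
      act_stalk _ _ x a v, map_smul, quotStalk, LinearMap.comp_apply, ← smul_eq_mul, map_smul]
  simp

theorem exists_desc (C D E : X.IdealSheafData)
    (hC : PicF.IsInvertible (_root_.ClSub.idealMod C))
    (hreg : ∀ x : X, ∃ c : X.presheaf.stalk x, stalkIdeal C x = _root_.Ideal.span {c} ∧
      ∀ a, c * a ∈ stalkIdeal E x ↔ a ∈ stalkIdeal D x) :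
    ∃ f : CohB1.tensorMod (_root_.ClSub.idealMod C) (_root_.ClSub.quotMod D) ⟶
        _root_.ClSub.quotMod E,
      tmap (𝟙 (_root_.ClSub.idealMod C)) (_root_.ClSub.toSubscheme D) ≫ f =
        act (_root_.ClSub.idealModι C) (Coh.structureModule X) ≫ _root_.ClSub.toSubscheme E := by
  have hS := Snapper.Twist.twistSeq_shortExact hC (ClSub.Quot.idealSeq_shortExact D)
  have w₀ : tmap (𝟙 (_root_.ClSub.idealMod C)) (_root_.ClSub.idealModι D) ≫
      (act (_root_.ClSub.idealModι C) (Coh.structureModule X) ≫ _root_.ClSub.toSubscheme E) = 0 := by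
    refine StalkModule.hom_ext_stalkMapₗ fun x => LinearMap.ext fun z => ?_
    obtain ⟨c, he, hc⟩ := hreg x
    obtain ⟨a₀, ha₀, hgen⟩ := exists_pure C x c he
    obtain ⟨v, hz⟩ := hgen _ z
    subst hz
    rw [StalkModule.stalkMapₗ_comp, LinearMap.comp_apply, StalkModule.stalkMapₗ_zero,
      LinearMap.zero_apply]
    refine (congrArg _ (stalk_tmap (_root_.ClSub.idealModι D) x a₀ v)).trans
      ((act_quot_stalk C E x a₀ _).trans ?_)
    refine LinearMap.mem_ker.mp ?_
    rw [ker_quotStalk, ha₀, hc]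
    exact range_idealStalk D x ▸ LinearMap.mem_range_self (idealStalk D x) v
  obtain ⟨f, hf⟩ := CokernelCofork.IsColimit.desc' hS.gIsCokernel _ w₀
  exact ⟨f, hf⟩

theorem exists_colonSeq (C D E : X.IdealSheafData)
    (hC : PicF.IsInvertible (_root_.ClSub.idealMod C))
    (hreg : ∀ x : X, ∃ c : X.presheaf.stalk x, stalkIdeal C x = _root_.Ideal.span {c} ∧
      ∀ a, c * a ∈ stalkIdeal E x ↔ a ∈ stalkIdeal D x) :
    ∃ (f : CohB1.tensorMod (_root_.ClSub.idealMod C) (_root_.ClSub.quotMod D) ⟶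
        _root_.ClSub.quotMod E)
      (g : _root_.ClSub.quotMod E ⟶ _root_.ClSub.quotMod (C ⊔ E)) (w : f ≫ g = 0),
      (ShortComplex.mk f g w).ShortExact := by
  obtain ⟨f, hf⟩ := exists_desc C D E hC hreg
  obtain ⟨π, hπ⟩ := exists_descend (le_sup_right : E ≤ C ⊔ E)
  have hfval : ∀ (x : X) (a : (_root_.ClSub.idealMod C).presheaf.stalk x) (r : X.presheaf.stalk x),
      StalkModule.stalkMapₗ f x ((DerivedOX.TensorSheaf.tensorStalk x (_root_.ClSub.idealMod C) (_root_.ClSub.quotMod D)).symm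
        (a ⊗ₜ quotStalk D x r)) = quotStalk E x (idealStalk C x a * r) := by
    intro x a r
    have h := act_quot_stalk C E x a ((oStalk x).symm r)
    rw [LinearEquiv.apply_symm_apply, ← hf, StalkModule.stalkMapₗ_comp, LinearMap.comp_apply] at h
    refine Eq.trans (congrArg (StalkModule.stalkMapₗ f x) ?_) h
    exact (stalk_tmap (_root_.ClSub.toSubscheme D) x a ((oStalk x).symm r)).symm
  have w : f ≫ π = 0 := by
    refine StalkModule.hom_ext_stalkMapₗ fun x => LinearMap.ext fun z => ?_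
    obtain ⟨c, he, hc⟩ := hreg x
    obtain ⟨a₀, ha₀, hgen⟩ := exists_pure C x c he
    obtain ⟨v, hz⟩ := hgen _ z
    subst hz
    obtain ⟨r, rfl⟩ := quotStalk_surjective D x v
    rw [StalkModule.stalkMapₗ_comp, StalkModule.stalkMapₗ_zero, LinearMap.zero_apply,
      LinearMap.comp_apply, hfval, stalkMapₗ_descend hπ, ha₀]
    refine LinearMap.mem_ker.mp ?_
    rw [ker_quotStalk, stalkIdeal_sup, he]
    exact Submodule.mem_sup_left
      (_root_.Ideal.mul_mem_right _ _ (_root_.Ideal.mem_span_singleton_self c))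
  refine ⟨f, π, w, ?_⟩
  haveI : Mono f := by
    rw [StalkModule.mono_iff_stalkMapₗ_injective]
    intro x
    obtain ⟨c, he, hc⟩ := hreg x
    obtain ⟨a₀, ha₀, hgen⟩ := exists_pure C x c he
    rw [injective_iff_map_eq_zero]
    intro z hz
    obtain ⟨v, hz'⟩ := hgen _ z
    subst hz'
    obtain ⟨r, rfl⟩ := quotStalk_surjective D x v
    rw [hfval, ha₀, ← LinearMap.mem_ker, ker_quotStalk, hc, ← ker_quotStalk,
      LinearMap.mem_ker] at hz
    rw [hz, TensorProduct.tmul_zero]
    exact map_zero _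
  haveI : Epi π := by
    haveI := ClSub.Quot.epi_toSubscheme (C ⊔ E)
    exact epi_of_epi_fac hπ
  refine { exact := (Modules.Stalk.exact_iff_stalk _).mpr fun x => ?_ }
  rw [ShortComplex.ab_exact_iff_function_exact]
  intro y
  change StalkModule.stalkMapₗ π x y = 0 ↔ ∃ z, StalkModule.stalkMapₗ f x z = y
  constructor
  · intro hy
    obtain ⟨r, rfl⟩ := quotStalk_surjective E x y
    obtain ⟨c, he, -⟩ := hreg x
    obtain ⟨a₀, ha₀, -⟩ := exists_pure C x c he
    rw [stalkMapₗ_descend hπ, ← LinearMap.mem_ker, ker_quotStalk, stalkIdeal_sup, he,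
      Submodule.mem_sup] at hy
    obtain ⟨p, hp, q, hq, rfl⟩ := hy
    obtain ⟨s, rfl⟩ := _root_.Ideal.mem_span_singleton'.mp hp
    refine ⟨_, (hfval x a₀ s).trans ?_⟩
    rw [← ker_quotStalk, LinearMap.mem_ker] at hq
    rw [ha₀, map_add, hq, add_zero, mul_comm]
  · rintro ⟨z, rfl⟩
    have := LinearMap.congr_fun (congrArg (fun φ => StalkModule.stalkMapₗ φ x) w) z
    simpa [StalkModule.stalkMapₗ_comp, StalkModule.stalkMapₗ_zero] using this

end

end Groth.Agent.Lib.SurfInt.ColonSeq
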