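import Groth.Agent.Lib.SurfInt.NegDef
import Groth.Agent.Lib.SurfInt.ColonSeq

/-!
# Lengths of `O/(I₁ + I₂)^n` for two curves meeting at finitely many points

`2 χ(O/J^n) = n (n+1) (F₁·F₂)`.
-/

set_option autoImplicit false
set_option linter.style.haveILetI false
universe u

open CategoryTheory CategoryTheory.Limits AlgebraicGeometry TopologicalSpace

namespace Groth.Agent.Lib.SurfInt.JPow

open Groth.Agent.Lib Groth.Agent.Lib.Snapper
open Groth.Agent.Lib.Ideal.Prime (stalkIdeal stalkIdeal_eq)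

section Algebra

variable {R : Type u} [CommRing R]

theorem sup_pow_le (A B : _root_.Ideal R) : ∀ n : ℕ,
    (A ⊔ B) ^ (n + 1) ≤ A ^ (n + 1) ⊔ B * (A ⊔ B) ^ n
  | 0 => by simp
  | n + 1 => by
    calc (A ⊔ B) ^ (n + 2) = (A ⊔ B) * (A ⊔ B) ^ (n + 1) := pow_succ' _ _
      _ ≤ A * (A ⊔ B) ^ (n + 1) ⊔ B * (A ⊔ B) ^ (n + 1) := (_root_.Ideal.sup_mul _ _ _).le
      _ ≤ A * (A ^ (n + 1) ⊔ B * (A ⊔ B) ^ n) ⊔ B * (A ⊔ B) ^ (n + 1) :=
        sup_le_sup_right (_root_.Ideal.mul_mono_right (sup_pow_le A B n)) _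
      _ ≤ A ^ (n + 2) ⊔ B * (A ⊔ B) ^ (n + 1) := by
        rw [_root_.Ideal.mul_sup, ← pow_succ', sup_assoc]
        refine sup_le_sup_left (sup_le ?_ le_rfl) _
        rw [mul_left_comm, pow_succ']
        exact _root_.Ideal.mul_mono_right (_root_.Ideal.mul_mono_left le_sup_left)

/-- `a` regular modulo `c` gives `a ^ n` regular modulo `c`. -/
theorem pow_mul_mem_span {a c : R}
    (h : ∀ t, a * t ∈ _root_.Ideal.span {c} → t ∈ _root_.Ideal.span {c}) :
    ∀ (n : ℕ) (t : R), a ^ n * t ∈ _root_.Ideal.span {c} → t ∈ _root_.Ideal.span {c}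
  | 0, t, ht => by simpa using ht
  | n + 1, t, ht => by
    rw [pow_succ, mul_assoc] at ht
    exact h t (pow_mul_mem_span h n _ ht)

theorem mul_mem_pow_iff {a c : R} (hc : c ∈ nonZeroDivisors R)
    (h : ∀ t, a * t ∈ _root_.Ideal.span {c} → t ∈ _root_.Ideal.span {c}) (n : ℕ) (g : R) :
    c * g ∈ (_root_.Ideal.span {a} ⊔ _root_.Ideal.span {c}) ^ (n + 1) ↔
      g ∈ (_root_.Ideal.span {a} ⊔ _root_.Ideal.span {c}) ^ n := by
  constructor
  · intro hg
    obtain ⟨p, hp, q, hq, hpq⟩ := Submodule.mem_sup.mp (sup_pow_le _ _ n hg)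
    rw [_root_.Ideal.span_singleton_pow, _root_.Ideal.mem_span_singleton'] at hp
    obtain ⟨s, rfl⟩ := hp
    obtain ⟨q', hq', rfl⟩ := _root_.Ideal.mem_span_singleton_mul.mp hq
    have hs : a ^ (n + 1) * s ∈ _root_.Ideal.span {c} :=
      _root_.Ideal.mem_span_singleton'.mpr ⟨g - q', by linear_combination -hpq⟩
    obtain ⟨b, rfl⟩ := _root_.Ideal.mem_span_singleton'.mp (pow_mul_mem_span h _ _ hs)
    have : g = b * a ^ (n + 1) + q' :=
      (mul_cancel_left_mem_nonZeroDivisors hc).mp (by linear_combination -hpq)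
    rw [this]
    refine add_mem (_root_.Ideal.mul_mem_left _ _ ?_) hq'
    rw [pow_succ]
    exact _root_.Ideal.mul_mem_right _ _ (_root_.Ideal.pow_mem_pow
      (Submodule.mem_sup_left (_root_.Ideal.mem_span_singleton_self a)) n)
  · intro hg
    rw [pow_succ']
    exact _root_.Ideal.mul_mem_mul
      (Submodule.mem_sup_right (_root_.Ideal.mem_span_singleton_self c)) hg

theorem sup_sup_pow (A B : _root_.Ideal R) (n : ℕ) :
    B ⊔ (A ⊔ B) ^ (n + 1) = A ^ (n + 1) ⊔ B := by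
  refine le_antisymm (sup_le le_sup_right ((sup_pow_le A B n).trans
    (sup_le_sup_left _root_.Ideal.mul_le_left _))) (sup_le ?_ le_sup_left)
  exact le_sup_of_le_right (_root_.Ideal.pow_right_mono le_sup_left _)

end Algebra

variable {X : Scheme.{u}}

theorem stalkIdeal_pow (I : X.IdealSheafData) (x : X) : ∀ n : ℕ,
    stalkIdeal (I ^ (n + 1)) x = stalkIdeal I x ^ (n + 1)
  | 0 => by simp
  | n + 1 => by rw [pow_succ, Mul.stalkIdeal_mul, stalkIdeal_pow I x n, ← pow_succ]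

theorem sup_pow_eq (F₁ F₂ : X.IdealSheafData) (n : ℕ) :
    F₂ ⊔ (F₁ ⊔ F₂) ^ (n + 1) = F₁ ^ (n + 1) ⊔ F₂ := by
  refine Scheme.IdealSheafData.ext (funext fun U => ?_)
  rw [Scheme.IdealSheafData.ideal_sup, Scheme.IdealSheafData.ideal_sup, Pi.sup_apply,
    Pi.sup_apply, Scheme.IdealSheafData.ideal_pow, Scheme.IdealSheafData.ideal_pow, Pi.pow_apply,
    Pi.pow_apply, Scheme.IdealSheafData.ideal_sup, Pi.sup_apply]
  exact sup_sup_pow _ _ n

/-- The equations of `F₁, F₂` form regular sequences in both orders. -/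
def RegPair (F₁ F₂ : X.IdealSheafData) : Prop :=
  ∀ x : X, ∃ a c : X.presheaf.stalk x, a ∈ nonZeroDivisors (X.presheaf.stalk x) ∧
    c ∈ nonZeroDivisors (X.presheaf.stalk x) ∧
    stalkIdeal F₁ x = _root_.Ideal.span {a} ∧ stalkIdeal F₂ x = _root_.Ideal.span {c} ∧
    ∀ t, a * t ∈ _root_.Ideal.span {c} → t ∈ _root_.Ideal.span {c}

theorem regPair {k : Type u} [Field k] (f : X ⟶ Spec (CommRingCat.of k))
    [LocallyOfFiniteType f] [IsIntegral X] (hdim : topologicalKrullDim X = 2)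
    (hreg : ∀ x : X, IsRegularLocalRing (X.presheaf.stalk x))
    {F₁ F₂ : X.IdealSheafData} (h₁ : BlowUp.IsEffCartierIdeal F₁)
    (h₂ : BlowUp.IsEffCartierIdeal F₂) (hfin : ((F₁ ⊔ F₂).support : Set X).Finite) :
    RegPair F₁ F₂ := by
  intro x
  obtain ⟨a, ha, heA, hr⟩ := Transversal.exists_regular_eq f (Surface.forall_component hdim)
    (fun y => haveI := hreg y; JacCrit.FlatRegular.isCohenMacaulayLocalRing _) h₁ h₂ hfin x
  obtain ⟨U, hxU, e, he, hIe⟩ := h₂ x
  have heC : stalkIdeal F₂ x = _root_.Ideal.span {X.presheaf.germ U.1 x hxU e} := by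
    rw [stalkIdeal_eq F₂ U hxU, hIe, _root_.Ideal.map_span, Set.image_singleton]
  exact ⟨a, _, ha, Ideal.EffCartier.germ_mem_nonZeroDivisors U.2 he x hxU, heA, heC,
    heC ▸ hr⟩

variable {k : Type u} [Field k] [X.Over (Spec (CommRingCat.of k))]
variable [IsNoetherian X] [IsIntegral X] [IsProper (X ↘ Spec (CommRingCat.of k))]
  (hfin : Chi.CohFinite k X) (hdim : topologicalKrullDim X = 2)

include hfin hdim

omit [IsProper (X ↘ Spec (CommRingCat.of k))] in
/-- Twisting does not change the Euler characteristic of a module with finite support. -/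
theorem chi_twist_of_finite [LocallyOfFiniteType (X ↘ Spec (CommRingCat.of k))]
    (I : X.IdealSheafData) (hI : (I.support : Set X).Finite) {M : X.Modules}
    (hM : PicF.IsInvertible M) :
    FGA.eulerCharLE k X (CohB1.tensorMod M (_root_.ClSub.quotMod I)) 2 =
      FGA.eulerCharLE k X (_root_.ClSub.quotMod I) 2 := by
  have h := Vanish.sym_eq_zero hfin (d := 2) hdim.le [M] (by simpa using hM)
    (_root_.ClSub.quotMod I) (Effective.isCoh_quotMod I) (by
      rw [Groth.Agent.Lib.ClSub.Quot.support_quotMod, ← Surface.dim_subscheme I]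
      refine lt_of_le_of_lt (Push.dim_subscheme_le_zero k I hI) ?_
      simp)
  simp only [Vanish.sym_cons, show ∀ F, Vanish.sym k X 2 [] F = FGA.eulerCharLE k X F 2 from
    fun _ => rfl] at h
  linarith

theorem intNum_pow {F : X.IdealSheafData} (hF : BlowUp.IsEffCartierIdeal F) {M : X.Modules}
    (hM : PicF.IsInvertible M) : ∀ n : ℕ,
    FGA.intNum k X 2 ![_root_.ClSub.idealMod (F ^ (n + 1)), M] (Coh.structureModule X) =
      ((n + 1 : ℕ) : ℤ) *
        FGA.intNum k X 2 ![_root_.ClSub.idealMod F, M] (Coh.structureModule X)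
  | 0 => by simp
  | n + 1 => by
    rw [pow_succ, NegDef.intNum_mul hfin hdim (Ideal.EffCartier.isEffCartier_pow hF _) hF hM,
      intNum_pow hF hM n]
    push_cast
    ring

/-- `2 χ(O/J^n) = n(n+1) (F₁·F₂)` for `J = F₁ + F₂`. -/
theorem two_mul_chi {F₁ F₂ : X.IdealSheafData} (h₁ : BlowUp.IsEffCartierIdeal F₁)
    (h₂ : BlowUp.IsEffCartierIdeal F₂) (hreg : RegPair F₁ F₂)
    (hJ : ((F₁ ⊔ F₂).support : Set X).Finite) : ∀ n : ℕ,
    2 * FGA.eulerCharLE k X (_root_.ClSub.quotMod ((F₁ ⊔ F₂) ^ (n + 1))) 2 =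
      ((n + 1 : ℕ) : ℤ) * ((n + 2 : ℕ) : ℤ) *
        FGA.intNum k X 2 ![_root_.ClSub.idealMod F₁, _root_.ClSub.idealMod F₂]
          (Coh.structureModule X) := by
  have hI₁ := Effective.isInvertible_idealMod h₁
  have hI₂ := Effective.isInvertible_idealMod h₂
  have hmix : ∀ n : ℕ, FGA.eulerCharLE k X (_root_.ClSub.quotMod (F₁ ^ (n + 1) ⊔ F₂)) 2 =
      ((n + 1 : ℕ) : ℤ) * FGA.intNum k X 2
        ![_root_.ClSub.idealMod F₁, _root_.ClSub.idealMod F₂] (Coh.structureModule X) := by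
    intro n
    have hsupp : ((F₁ ^ (n + 1) ⊔ F₂).support : Set X).Finite := by
      refine hJ.subset (le_of_eq ?_)
      rw [Scheme.IdealSheafData.support_sup, Scheme.IdealSheafData.support_sup,
        Scheme.IdealSheafData.support_pow_succ]
    rw [← intNum_pow hfin hdim h₁ hI₂ n, Effective.intNum_ideals hfin hdim.le
      (Effective.isInvertible_idealMod (Ideal.EffCartier.isEffCartier_pow h₁ _)) hI₂
      (fun x => by
        obtain ⟨a, c, ha, -, heA, heC, hr⟩ := hreg x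
        refine ⟨a ^ (n + 1), pow_mem ha _,
          by rw [stalkIdeal_pow, heA, _root_.Ideal.span_singleton_pow], fun t ht => ?_⟩
        rw [heC] at ht ⊢
        exact pow_mul_mem_span hr _ t ht) hsupp]
    exact Push.eulerCharLE_quotMod_of_finite (k := k) _ hsupp 2
  intro n
  induction n with
  | zero =>
    have h := hmix 0
    simp only [zero_add, pow_one] at h ⊢
    rw [h]
    push_cast
    ring
  | succ n ih =>
    obtain ⟨f, g, w, hS⟩ := ColonSeq.exists_colonSeq F₂ ((F₁ ⊔ F₂) ^ (n + 1))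
      ((F₁ ⊔ F₂) ^ (n + 2)) hI₂ fun x => by
        obtain ⟨a, c, -, hc, heA, heC, hr⟩ := hreg x
        refine ⟨c, heC, fun t => ?_⟩
        rw [show n + 2 = (n + 1) + 1 from rfl, stalkIdeal_pow _ x (n + 1), stalkIdeal_pow _ x n,
          Stalk.stalkIdeal_sup, heA, heC]
        exact mul_mem_pow_iff hc hr (n + 1) t
    have h : FGA.eulerCharLE k X (_root_.ClSub.quotMod ((F₁ ⊔ F₂) ^ (n + 2))) 2 =
        FGA.eulerCharLE k X (CohB1.tensorMod (_root_.ClSub.idealMod F₂)
          (_root_.ClSub.quotMod ((F₁ ⊔ F₂) ^ (n + 1)))) 2 +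
        FGA.eulerCharLE k X (_root_.ClSub.quotMod (F₂ ⊔ (F₁ ⊔ F₂) ^ (n + 2))) 2 :=
      Effective.chi_ses hfin hdim.le hS rfl rfl rfl
      (Twist.isCoh_twist hI₂ (Effective.isCoh_quotMod _)) (Effective.isCoh_quotMod _)
      (Effective.isCoh_quotMod _)
    rw [sup_pow_eq, hmix (n + 1), chi_twist_of_finite hfin hdim _
      (by rw [Scheme.IdealSheafData.support_pow_succ]; exact hJ) hI₂] at h
    rw [h]
    push_cast at ih ⊢
    linarith

end Groth.Agent.Lib.SurfInt.JPow
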