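import Groth.Prelude.Def_ClSub2
import Groth.Agent.Lib.Snapper.Chi
import Groth.Agent.Lib.ZarCoh.Linear
import Groth.Agent.Lib.TensorMod.QCohInv
import Mathlib.AlgebraicGeometry.Morphisms.FiniteType
import Mathlib.Topology.JacobsonSpace
import Mathlib.Topology.KrullDimension

/-!
# Euler characteristics and direct images; quotients with finite support
-/

set_option autoImplicit false
set_option linter.style.haveILetI false
universe u

open CategoryTheory CategoryTheory.Limits AlgebraicGeometry TopologicalSpace

namespace Groth.Agent.Lib.SurfInt.Push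

open Groth.Agent.Lib

variable {k : Type u} [Field k] {X Z : Scheme.{u}} [X.Over (Spec (CommRingCat.of k))]
  [Z.Over (Spec (CommRingCat.of k))] (i : Z ⟶ X) [IsAffineHom i]
  (hi : i ≫ (X ↘ Spec (CommRingCat.of k)) = Z ↘ Spec (CommRingCat.of k))

include hi

theorem finrank_push (M : Z.Modules) [M.IsQuasicoherent] (n : ℕ) :
    Module.finrank k (Coh.HH X ((Coh.push i).obj M) n) = Module.finrank k (Coh.HH Z M n) :=
  (ZarCoh.Linear.affineLinearEquiv i hi M n).finrank_eq

theorem finite_push (M : Z.Modules) [M.IsQuasicoherent] (n : ℕ)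
    [Module.Finite k (Coh.HH Z M n)] : Module.Finite k (Coh.HH X ((Coh.push i).obj M) n) :=
  Module.Finite.equiv (ZarCoh.Linear.affineLinearEquiv i hi M n).symm

theorem euler_push (M : Z.Modules) [M.IsQuasicoherent] :
    Curv2.euler k X ((Coh.push i).obj M) = Curv2.euler k Z M := by
  unfold Curv2.euler
  simp only [finrank_push i hi M]

theorem eulerCharLE_push (M : Z.Modules) [M.IsQuasicoherent] (d : ℕ) :
    FGA.eulerCharLE k X ((Coh.push i).obj M) d = FGA.eulerCharLE k Z M d := by
  unfold FGA.eulerCharLE
  simp only [finrank_push i hi M]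

omit hi

variable (k) in

theorem dim_subscheme_le_zero [LocallyOfFiniteType (X ↘ Spec (CommRingCat.of k))]
    (I : X.IdealSheafData) (hfin : (I.support : Set X).Finite) :
    topologicalKrullDim I.subscheme ≤ 0 := by
  haveI : Finite I.subscheme := by
    haveI := (I.range_subschemeι ▸ hfin : (Set.range I.subschemeι).Finite).to_subtype
    exact Finite.of_injective (Set.rangeFactorization I.subschemeι)
      fun a b h => I.subschemeι.isClosedEmbedding.injective (congrArg Subtype.val h :)
  haveI : JacobsonSpace I.subscheme :=
    LocallyOfFiniteType.jacobsonSpace (I.subschemeι ≫ (X ↘ Spec (CommRingCat.of k)))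
  exact topologicalKrullDim_zero_of_discreteTopology _

variable [IsNoetherian X]

variable (k) in
/-- A quotient of `O_X` with finite support has no higher cohomology. -/
theorem subsingleton_HH_quotMod [LocallyOfFiniteType (X ↘ Spec (CommRingCat.of k))] (I : X.IdealSheafData) (hfin : (I.support : Set X).Finite)
    {n : ℕ} (hn : 0 < n) : Subsingleton (Coh.HH X (ClSub.quotMod I) n) := by
  haveI : IsLocallyNoetherian I.subscheme :=
    LocallyOfFiniteType.isLocallyNoetherian I.subschemeι
  haveI : CompactSpace I.subscheme := QuasiCompact.compactSpace_of_compactSpace I.subschemeι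
  haveI : IsNoetherian I.subscheme := ⟨⟩
  haveI := TensorMod.QCohInv.isQCoh_structureModule I.subscheme
  haveI := Snapper.Chi.subsingleton_HH_of_lt (d := 0)
    (by exact_mod_cast dim_subscheme_le_zero k I hfin)
    (Coh.structureModule I.subscheme) hn
  exact (ZarCoh.Morph.affineEquiv I.subschemeι (Coh.structureModule I.subscheme) n).toEquiv.subsingleton

theorem eulerCharLE_quotMod_of_finite [LocallyOfFiniteType (X ↘ Spec (CommRingCat.of k))]
    (I : X.IdealSheafData) (hfin : (I.support : Set X).Finite)
    (d : ℕ) :
    FGA.eulerCharLE k X (ClSub.quotMod I) d =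
      (Module.finrank k (Coh.HH X (ClSub.quotMod I) 0) : ℤ) := by
  unfold FGA.eulerCharLE
  rw [Finset.sum_eq_single 0]
  · simp
  · intro i _ hi
    haveI := subsingleton_HH_quotMod k I hfin (Nat.pos_of_ne_zero hi)
    simp [Module.finrank_zero_of_subsingleton]
  · simp

end Groth.Agent.Lib.SurfInt.Push
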