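import Mathlib.Algebra.BigOperators.Group.Finset.Basic
import Mathlib.Algebra.Order.BigOperators.Group.Finset
import Mathlib.Algebra.BigOperators.Ring.Finset
import Mathlib.Data.Fintype.BigOperators
import Mathlib.Data.Fintype.Powerset
import Mathlib.Data.Finite.Defs
import Mathlib.Algebra.Order.Ring.Abs
import Mathlib.Tactic

/-!
# Growing a configuration with a positive combination

`G` is the intersection matrix of finitely many curves, `a` a combination meeting each of them
positively.  If the weighted degree is above the weighted thresholds, every component can be added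
arbitrarily often, each time above its threshold.
-/

set_option autoImplicit false

namespace Groth.Agent.Lib.SurfInt.Grow

open Finset

variable {ι : Type*} [Fintype ι] [DecidableEq ι] (G : ι → ι → ℤ) (a : ι → ℤ)

/-- The index criterion makes the configuration connected. -/
theorem exists_link (hoff : ∀ i j, i ≠ j → 0 ≤ G i j) (hsym : ∀ i j, G i j = G j i)
    (ha : ∀ i, 0 < a i) (hh : ∀ i, 0 < ∑ j, G i j * a j)
    (hodge : ∀ x : ι → ℤ, ∑ i, x i * ∑ j, G i j * a j = 0 →
      ∑ i, x i * ∑ j, G i j * x j ≤ 0)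
    {K : Finset ι} (hne : K.Nonempty) (hK : K ≠ univ) :
    ∃ i ∉ K, ∃ j ∈ K, 0 < G i j := by
  by_contra hc
  push Not at hc
  have hz : ∀ i ∉ K, ∀ j ∈ K, G i j = 0 := fun i hi j hj =>
    le_antisymm (hc i hi j hj) (hoff i j fun e => hi (e ▸ hj))
  set h : ι → ℤ := fun i => ∑ j, G i j * a j
  set u := ∑ i ∈ K, a i * h i
  set v := ∑ i ∈ Kᶜ, a i * h i
  have hu : 0 < u := Finset.sum_pos (fun i _ => mul_pos (ha i) (hh i)) hne
  have hv : 0 < v := by
    refine Finset.sum_pos (fun i _ => mul_pos (ha i) (hh i)) ?_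
    rwa [Finset.nonempty_iff_ne_empty, ne_eq, Finset.compl_eq_empty_iff]
  let x : ι → ℤ := fun i => if i ∈ K then v * a i else -u * a i
  have h0 : ∑ i, x i * h i = 0 := by
    rw [← Finset.sum_add_sum_compl K,
      Finset.sum_congr rfl (fun i hi => (show x i * h i = v * (a i * h i) by
        simp only [x, if_pos hi]; ring)),
      Finset.sum_congr rfl (fun i hi => (show x i * h i = -u * (a i * h i) by
        simp only [x, if_neg (Finset.mem_compl.mp hi)]; ring)),
      ← Finset.mul_sum, ← Finset.mul_sum]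
    ring
  have hq : ∀ i, ∑ j, G i j * x j = (if i ∈ K then v else -u) * h i := by
    intro i
    rw [Finset.mul_sum]
    refine Finset.sum_congr rfl fun j _ => ?_
    by_cases hi : i ∈ K <;> by_cases hj : j ∈ K
    · simp only [x, if_pos hi, if_pos hj]; ring
    · rw [hsym, hz j hj i hi]; ring
    · rw [hz i hi j hj]; ring
    · simp only [x, if_neg hi, if_neg hj]; ring
  have h1 := hodge x h0
  rw [Finset.sum_congr rfl (fun i _ => congrArg (x i * ·) (hq i)),
    ← Finset.sum_add_sum_compl K,
    Finset.sum_congr rfl (fun i hi => (show x i * ((if i ∈ K then v else -u) * h i) =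
      v * v * (a i * h i) by simp only [x, if_pos hi]; ring)),
    Finset.sum_congr rfl (fun i hi => (show x i * ((if i ∈ K then v else -u) * h i) =
      u * u * (a i * h i) by
        simp only [x, if_neg (Finset.mem_compl.mp hi)]; ring)),
    ← Finset.mul_sum, ← Finset.mul_sum] at h1
  nlinarith [mul_pos (mul_pos hv hv) hu, mul_pos (mul_pos hu hu) hv]

/-- The counts can be made arbitrarily large. -/
theorem exists_large (hoff : ∀ i j, i ≠ j → 0 ≤ G i j) (hsym : ∀ i j, G i j = G j i)
    (ha : ∀ i, 0 < a i) (hh : ∀ i, 0 < ∑ j, G i j * a j)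
    (hodge : ∀ x : ι → ℤ, ∑ i, x i * ∑ j, G i j * a j = 0 →
      ∑ i, x i * ∑ j, G i j * x j ≤ 0)
    (w b : ι → ℤ) (hw : ∑ i, a i * (b i - G i i) < ∑ i, a i * w i)
    (P : (ι → ℕ) → Prop) (h0 : P 0)
    (hstep : ∀ n i, P n → b i < w i + ∑ j, G i j * (n j : ℤ) + G i i →
      P (Function.update n i (n i + 1))) :
    ∀ N : ℕ, ∃ n, P n ∧ ∀ i, N ≤ n i := by
  classical
  have helig : ∀ n : ι → ℕ, ∃ i, b i < w i + ∑ j, G i j * (n j : ℤ) + G i i := by
    intro n
    by_contra hc
    push Not at hc
    have h1 : ∑ i, a i * (w i + ∑ j, G i j * (n j : ℤ)) ≤ ∑ i, a i * (b i - G i i) :=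
      Finset.sum_le_sum fun i _ => mul_le_mul_of_nonneg_left (by linarith [hc i]) (ha i).le
    have h2 : 0 ≤ ∑ i, a i * ∑ j, G i j * (n j : ℤ) := by
      simp only [Finset.mul_sum]
      rw [Finset.sum_comm]
      refine Finset.sum_nonneg fun j _ => ?_
      rw [Finset.sum_congr rfl (fun i _ => (show a i * (G i j * (n j : ℤ)) = (n j : ℤ) * (G j i * a i) by
        rw [hsym i j]; ring)), ← Finset.mul_sum]
      exact mul_nonneg (Int.natCast_nonneg _) (hh j).le
    simp only [mul_add, Finset.sum_add_distrib] at h1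
    linarith
  have htot : ∀ T : ℕ, ∃ n, P n ∧ T ≤ ∑ i, n i := by
    intro T
    induction T with
    | zero => exact ⟨0, h0, Nat.zero_le _⟩
    | succ T ih =>
      obtain ⟨n, hn, hT⟩ := ih
      obtain ⟨i, hi⟩ := helig n
      refine ⟨_, hstep n i hn hi, ?_⟩
      rw [Finset.sum_update_of_mem (Finset.mem_univ i), Finset.sdiff_singleton_eq_erase]
      have := Finset.add_sum_erase Finset.univ n (Finset.mem_univ i)
      omega
  -- some component is unbounded
  let U : Finset ι → Prop := fun K => ∀ N : ℕ, ∃ n, P n ∧ ∀ i ∈ K, N ≤ n i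
  have hone : ∃ i, U {i} := by
    by_contra hc
    simp only [U, not_exists, not_forall, Finset.mem_singleton, forall_eq] at hc
    choose B hB using hc
    obtain ⟨n, hn, hT⟩ := htot (∑ i, B i + 1)
    have : ∑ i, n i ≤ ∑ i, B i := Finset.sum_le_sum fun i _ => by
      by_contra h
      exact hB i n ⟨hn, by omega⟩
    omega
  obtain ⟨i₀, hi₀⟩ := hone
  obtain ⟨K, hK, hKmax⟩ := Finset.exists_max_image (Finset.univ.filter fun K : Finset ι => U K)
    Finset.card ⟨{i₀}, by simpa using hi₀⟩
  rw [Finset.mem_filter] at hK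
  suffices K = univ by
    intro N
    obtain ⟨n, hn, h⟩ := hK.2 N
    exact ⟨n, hn, fun i => h i (this ▸ Finset.mem_univ i)⟩
  by_contra hne
  have hKne : K.Nonempty := by
    rw [← Finset.card_pos]
    have h := hKmax {i₀} (by simpa using hi₀)
    rw [Finset.card_singleton] at h
    omega
  obtain ⟨i, hi, j, hj, hij⟩ := exists_link G a hoff hsym ha hh hodge hKne hne
  have hins : U (insert i K) := by
    intro N
    obtain ⟨n, hn, hbig⟩ := hK.2 (N + N * (G i i).natAbs + (w i).natAbs + (b i).natAbs +
      (G i i).natAbs + 1)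
    have hclimb : ∀ c : ℕ, c ≤ N → ∃ m, P m ∧ (∀ l, l ≠ i → m l = n l) ∧ c ≤ m i := by
      intro c
      induction c with
      | zero => exact fun _ => ⟨n, hn, fun _ _ => rfl, Nat.zero_le _⟩
      | succ c ih =>
        intro hc
        obtain ⟨m, hm, hsame, hci⟩ := ih (by omega)
        by_cases hbigi : c + 1 ≤ m i
        · exact ⟨m, hm, hsame, hbigi⟩
        have hmi : m i = c := by omega
        refine ⟨_, hstep m i hm ?_, fun l hl => by rw [Function.update_of_ne hl, hsame l hl],
          by rw [Function.update_self]; omega⟩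
        have hji : j ≠ i := fun e => hi (e ▸ hj)
        have hs : G i i * (m i : ℤ) + G i j * (m j : ℤ) ≤ ∑ l, G i l * (m l : ℤ) := by
          rw [← Finset.sum_pair hji.symm (f := fun l => G i l * (m l : ℤ))]
          refine Finset.sum_le_sum_of_subset_of_nonneg (Finset.subset_univ _) fun l _ hl => ?_
          refine mul_nonneg (hoff i l fun e => hl ?_) (Int.natCast_nonneg _)
          simp [← e]
        have hmj : ((N + N * (G i i).natAbs + (w i).natAbs + (b i).natAbs +
            (G i i).natAbs + 1 : ℕ) : ℤ) ≤ (m j : ℤ) := by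
          rw [hsame j hji]; exact_mod_cast hbig j hj
        push_cast at hmj
        have h1 : (m j : ℤ) ≤ G i j * (m j : ℤ) :=
          le_mul_of_one_le_left (Int.natCast_nonneg _) hij
        have h2 : -(|G i i| * (N : ℤ)) ≤ G i i * (m i : ℤ) := by
          have hcN : (m i : ℤ) ≤ N := by omega
          nlinarith [neg_abs_le (G i i), abs_nonneg (G i i)]
        have h3 := neg_abs_le (G i i)
        have h4 := neg_abs_le (w i)
        have h5 := le_abs_self (b i)
        linarith [mul_comm (|G i i|) (N : ℤ)]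
    obtain ⟨m, hm, hsame, hmi⟩ := hclimb N le_rfl
    refine ⟨m, hm, fun l hl => ?_⟩
    rcases Finset.mem_insert.mp hl with rfl | hlK
    · exact hmi
    · rw [hsame l fun e => hi (e ▸ hlK)]
      have := hbig l hlK
      omega
  have := hKmax (insert i K) (by simpa using hins)
  rw [Finset.card_insert_of_notMem hi] at this
  omega

end Groth.Agent.Lib.SurfInt.Grow
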