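import Groth.Agent.Lib.SurfInt.Hodge
import Groth.Agent.Lib.Snapper.Finite
import Groth.Agent.Lib.HProj.QuasiProj
import Groth.Agent.Lib.Ample.Pullback
import Groth.Agent.Lib.ProjSpace.Basic
import Groth.Prelude.Def_Twist2

/-!
# Projective surfaces over an algebraically closed field
-/

set_option autoImplicit false
set_option linter.style.haveILetI false
set_option linter.unusedSectionVars false
universe u

open CategoryTheory CategoryTheory.Limits AlgebraicGeometry

namespace Groth.Agent.Lib.SurfInt.ProjSurf

open Groth.Agent.Lib Groth.Agent.Lib.Snapper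

variable {k : Type u} [Field k] {X : Scheme.{u}} [X.Over (Spec (CommRingCat.of k))]

theorem isProper {n : ℕ} (ι : X ⟶ CohB1.ProjSpace n k) [IsClosedImmersion ι]
    (hι : ι ≫ CohB1.ProjSpace.toSpec n k = X ↘ Spec (CommRingCat.of k)) :
    IsProper (X ↘ Spec (CommRingCat.of k)) := by
  rw [← hι]; infer_instance

theorem isAmple {n : ℕ} (ι : X ⟶ CohB1.ProjSpace n k) [IsClosedImmersion ι] :
    CohB1.IsAmple ((Scheme.Modules.pullback ι).obj (Twist.twistProjSpace n k 1)) :=
  Ample.Pullback.isAmple_pullback ι (Ample.Pullback.isQuasiAffine_of_isAffineHom ι)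
    (HProj.QuasiProj.isAmple_twist_projSpace n k)

variable [IsNoetherian X] [IsIntegral X] [IsProper (X ↘ Spec (CommRingCat.of k))]
  (hdim : topologicalKrullDim X = 2)

include hdim

/-- Integer multiples of a class. -/
theorem exists_zsmul {L : X.Modules} (hL : PicF.IsInvertible L) (a : ℤ) :
    ∃ N : X.Modules, PicF.IsInvertible N ∧ ∀ P : X.Modules, PicF.IsInvertible P →
      FGA.intNum k X 2 ![N, P] (Coh.structureModule X) =
        a * FGA.intNum k X 2 ![L, P] (Coh.structureModule X) := by
  have hfin := Finite.cohFinite k X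
  have hnat : ∀ (L : X.Modules), PicF.IsInvertible L → ∀ n : ℕ, ∀ P : X.Modules,
      PicF.IsInvertible P → FGA.intNum k X 2 ![CohB1.tensorPow L n, P] (Coh.structureModule X) =
        (n : ℤ) * FGA.intNum k X 2 ![L, P] (Coh.structureModule X) := by
    intro L hL n P hP
    rcases n with _ | n
    · rw [IntNum.intNum_pair, show CohB1.tensorPow L 0 = Coh.structureModule X from rfl,
        IntNum.sym_structure]
      simp
    · exact Hodge.intNum_pow_left hfin hdim hL hP n
  rcases a with n | n
  · exact ⟨_, TensorMod.Invertible.isInvertible_tensorPow hL n, hnat L hL n⟩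
  · have hd := TensorMod.Invertible.isInvertible_dual hL
    refine ⟨_, TensorMod.Invertible.isInvertible_tensorPow hd (n + 1), fun P hP => ?_⟩
    rw [hnat _ hd (n + 1) P hP, IntNum.intNum_pair_inverse hfin hdim.le hL hd
      (TensorMod.Invertible.tensorDualIso hL) hP (Twist.isCoh_structureModule X), Int.negSucc_eq]
    push_cast
    ring

variable [Smooth (X ↘ Spec (CommRingCat.of k))] [Infinite k]

/-- Hodge index, with a class of positive square in place of an ample one. -/
theorem intNum_nonpos_of_pos {H : X.Modules} (hH : CohB1.IsAmple H) {L M : X.Modules}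
    (hL : PicF.IsInvertible L) (hM : PicF.IsInvertible M)
    (hpos : 0 < FGA.intNum k X 2 ![L, L] (Coh.structureModule X))
    (horth : FGA.intNum k X 2 ![L, M] (Coh.structureModule X) = 0) :
    FGA.intNum k X 2 ![M, M] (Coh.structureModule X) ≤ 0 := by
  have hfin := Finite.cohFinite k X
  have hO := Twist.isCoh_structureModule X
  have hodge := fun {L : X.Modules} (hL : PicF.IsInvertible L) =>
    Hodge.intNum_self_nonpos hfin hdim (NegDef.regular_of_smooth (k := k)) hL hH
  set x := FGA.intNum k X 2 ![L, H] (Coh.structureModule X) with hx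
  set y := FGA.intNum k X 2 ![M, H] (Coh.structureModule X) with hy
  have hx0 : x ≠ 0 := fun h => absurd (hodge hL h) (not_le.mpr hpos)
  obtain ⟨A, hA, hAP⟩ := exists_zsmul (k := k) hdim hL (-y)
  obtain ⟨B, hB, hBP⟩ := exists_zsmul (k := k) hdim hM x
  have hN := TensorMod.Invertible.isInvertible_tensorMod hA hB
  have hlin : ∀ P : X.Modules, PicF.IsInvertible P →
      FGA.intNum k X 2 ![CohB1.tensorMod A B, P] (Coh.structureModule X) =
        -y * FGA.intNum k X 2 ![L, P] (Coh.structureModule X) +
          x * FGA.intNum k X 2 ![M, P] (Coh.structureModule X) := fun P hP => by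
    rw [IntNum.intNum_pair_tensor_left hfin hdim.le hA hB hP hO, hAP P hP, hBP P hP]
  have h0 : FGA.intNum k X 2 ![CohB1.tensorMod A B, H] (Coh.structureModule X) = 0 := by
    rw [hlin H hH.1, ← hx, ← hy]; ring
  have h := hodge hN h0
  rw [hlin _ hN, IntNum.intNum_pair_comm L (CohB1.tensorMod A B),
    IntNum.intNum_pair_comm M (CohB1.tensorMod A B), hlin L hL, hlin M hM,
    IntNum.intNum_pair_comm M L, horth] at h
  by_contra hc
  push Not at hc
  nlinarith [mul_nonneg (mul_self_nonneg y) hpos.le, mul_pos (mul_self_pos.mpr hx0) hc]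

/-- A divisor moving in a linear system has positive degree. -/
theorem intNum_pos_of_one_lt {H : X.Modules} (hH : CohB1.IsAmple H) {L : X.Modules}
    (hL : PicF.IsInvertible L) [IsAlgClosed k]
    (hsec : 1 < Module.finrank k (Coh.HH X L 0)) :
    0 < FGA.intNum k X 2 ![L, H] (Coh.structureModule X) := by
  have hfin := Finite.cohFinite k X
  obtain ⟨s, hs⟩ := Bound.exists_hom_of_finrank_ne_zero (k := k) L (by omega)
  obtain ⟨hD, ⟨e⟩, -, -⟩ := Div.divisor_spec hL s hs
  have h := Bound.intNum_zeroScheme hfin hdim hL s hs hH.1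
  by_cases hne : PicF2.zeroScheme L s = ⊤
  · exfalso
    set D := PicF2.zeroScheme L s
    have hS := Twist.twistSeq_shortExact hL (ClSub.Quot.idealSeq_shortExact D)
    have hq := Effective.isCoh_quotMod (X := X) D
    haveI : FiniteDimensional k (Coh.HH X ((Twist.twistSeq L (ClSub.Quot.idealSeq D)).X₂) 0) :=
      hfin _ (Twist.isCoh_twist hL (Twist.isCoh_structureModule X)) 0
    haveI : FiniteDimensional k (Coh.HH X ((Twist.twistSeq L (ClSub.Quot.idealSeq D)).X₁) 0) :=
      hfin _ (Twist.isCoh_twist hL (Ample.GG.isCoh_of_isInvertible (Effective.isInvertible_idealMod hD))) 0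
    haveI : FiniteDimensional k (Coh.HH X ((Twist.twistSeq L (ClSub.Quot.idealSeq D)).X₃) 0) :=
      hfin _ (Twist.isCoh_twist hL hq) 0
    have hle := Bound.finrank_h0_le (k := k) hS
    have hsupp : CohB1.support (CohB1.tensorMod L (_root_.ClSub.quotMod D)) ⊆ (∅ : Set X) := by
      rw [Twist.support_twist hL, ClSub.Quot.support_quotMod, hne, Scheme.IdealSheafData.support_top]
      exact subset_rfl
    have h0 : Module.finrank k (Coh.HH X (CohB1.tensorMod L (_root_.ClSub.quotMod D)) 0) = 0 := by
      have h1 := Bound.eulerCharLE_of_finite (k := k) _ isClosed_empty Set.finite_empty hsupp 2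
      rw [Chi.eulerCharLE_isZero (Modules.Support.support_eq_empty_iff.mp
        (Set.subset_empty_iff.mp hsupp))] at h1
      exact_mod_cast h1.symm
    have e1 : Module.finrank k (Coh.HH X (CohB1.tensorMod L (_root_.ClSub.idealMod D)) 0) = 1 := by
      rw [(Curves.LES.isoK k e 0).finrank_eq, Curves.GlobalSections.finrank_h0_structure]
    have e2 := (Curves.LES.isoK k (TensorMod.Basic.rightUnit L) 0).finrank_eq
    replace hle : Module.finrank k (Coh.HH X (CohB1.tensorMod L (Coh.structureModule X)) 0) ≤
        Module.finrank k (Coh.HH X (CohB1.tensorMod L (_root_.ClSub.idealMod D)) 0) +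
          Module.finrank k (Coh.HH X (CohB1.tensorMod L (_root_.ClSub.quotMod D)) 0) := hle
    omega
  · have := NegDef.intNum_eff_ample_neg hfin hdim (NegDef.regular_of_smooth (k := k)) hH hD hne
    linarith

end Groth.Agent.Lib.SurfInt.ProjSurf
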