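import Groth.Agent.Lib.SurfInt.H2Basic
import Groth.Agent.Lib.SurfInt.Grow
import Groth.Agent.Lib.SurfInt.ProjSurf

/-!
# `H²` of a module of large degree on a surface vanishes
-/

set_option autoImplicit false
set_option linter.style.haveILetI false
set_option linter.unusedSectionVars false
universe u

open CategoryTheory CategoryTheory.Limits AlgebraicGeometry

namespace Groth.Agent.Lib.SurfInt.H2Vanish

open Groth.Agent.Lib Groth.Agent.Lib.Modules Groth.Agent.Lib.Snapper
open Groth.Agent.Lib.TensorMod.Basic (comm assoc tensorIso leftUnit rightUnit)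
open Groth.Agent.Lib.TensorMod.Invertible (isInvertible_tensorPow isInvertible_tensorMod
  isInvertible_dual tensorDualIso)
open Groth.Agent.Lib.Curves.LES (mapK exactK₂ isoK)

section Modules

variable {X : Scheme.{u}}

/-- `L(C₁ + ⋯ + C_r)`. -/
noncomputable def W (L : X.Modules) : List X.IdealSheafData → X.Modules
  | [] => L
  | C :: l => CohB1.tensorMod (W L l) (TensorMod.Dual.dual (_root_.ClSub.idealMod C))

theorem W_append (L : X.Modules) : ∀ l l' : List X.IdealSheafData, W L (l ++ l') = W (W L l') l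
  | [], _ => rfl
  | C :: l, l' => by simp only [List.cons_append, W, W_append L l l']

theorem nonempty_W_iso {L L' : X.Modules} (e : L ≅ L') :
    ∀ l : List X.IdealSheafData, Nonempty (W L l ≅ W L' l)
  | [] => ⟨e⟩
  | _ :: l => (nonempty_W_iso e l).map fun e' => tensorIso e' (Iso.refl _)

theorem nonempty_W_perm (L : X.Modules) {l l' : List X.IdealSheafData} (h : l.Perm l') :
    Nonempty (W L l ≅ W L l') := by
  induction h with
  | nil => exact ⟨Iso.refl _⟩
  | cons C _ ih => exact ih.map fun e => tensorIso e (Iso.refl _)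
  | swap C D l => exact ⟨assoc _ _ _ ≪≫ tensorIso (Iso.refl _) (comm _ _) ≪≫ (assoc _ _ _).symm⟩
  | trans _ _ ih₁ ih₂ => obtain ⟨e₁⟩ := ih₁; obtain ⟨e₂⟩ := ih₂; exact ⟨e₁ ≪≫ e₂⟩

theorem isInvertible_W {L : X.Modules} (hL : PicF.IsInvertible L) :
    ∀ {l : List X.IdealSheafData}, (∀ C ∈ l, PicF.IsInvertible (_root_.ClSub.idealMod C)) →
      PicF.IsInvertible (W L l)
  | [], _ => hL
  | C :: l, h => isInvertible_tensorMod (isInvertible_W hL fun D hD => h D (List.mem_cons_of_mem _ hD))
      (isInvertible_dual (h C List.mem_cons_self))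

/-- `M(C)(-C) ≅ M`. -/
noncomputable def cancelIso (M : X.Modules) {C : X.IdealSheafData}
    (hC : PicF.IsInvertible (_root_.ClSub.idealMod C)) :
    CohB1.tensorMod (CohB1.tensorMod M (TensorMod.Dual.dual (_root_.ClSub.idealMod C)))
      (_root_.ClSub.idealMod C) ≅ M :=
  assoc _ _ _ ≪≫ tensorIso (Iso.refl M) (comm _ _ ≪≫ tensorDualIso hC) ≪≫ rightUnit M

/-- `M(-C)(C) ≅ M`. -/
noncomputable def cancelIso' (M : X.Modules) {C : X.IdealSheafData}
    (hC : PicF.IsInvertible (_root_.ClSub.idealMod C)) :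
    CohB1.tensorMod (CohB1.tensorMod M (_root_.ClSub.idealMod C))
      (TensorMod.Dual.dual (_root_.ClSub.idealMod C)) ≅ M :=
  assoc _ _ _ ≪≫ tensorIso (Iso.refl M) (tensorDualIso hC) ≪≫ rightUnit M

theorem isInvertible_structure : PicF.IsInvertible (Coh.structureModule X) :=
  fun _ => ⟨⊤, trivial, ⟨Scheme.Modules.restrictUnitIso _⟩⟩

theorem nonempty_idealMod_top :
    Nonempty (_root_.ClSub.idealMod (⊤ : X.IdealSheafData) ≅ Coh.structureModule X) := by
  set I := _root_.ClSub.idealMod (⊤ : X.IdealSheafData)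
  have hI : PicF.IsInvertible I := Effective.isInvertible_idealMod Ideal.EffCartier.isEffCartier_top
  have e : (⊤ : X.IdealSheafData) * ⊤ = ⊤ := by
    refine Scheme.IdealSheafData.ext (funext fun U => ?_)
    rw [Scheme.IdealSheafData.ideal_mul, Pi.mul_apply, Scheme.IdealSheafData.ideal_top,
      Pi.top_apply]
    exact _root_.Ideal.mul_top _
  obtain ⟨i⟩ := Mul.nonempty_idealMod_mul (X := X) Ideal.EffCartier.isEffCartier_top ⊤
  rw [e] at i
  exact ⟨(cancelIso' I hI).symm ≪≫ tensorIso i (Iso.refl _) ≪≫ tensorDualIso hI⟩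

end Modules

variable {k : Type u} [Field k] {X : Scheme.{u}} [X.Over (Spec (CommRingCat.of k))]
  [IsIntegral X] [IsNoetherian X] [IsProper (X ↘ Spec (CommRingCat.of k))]
  (hdim : topologicalKrullDim X = 2)

include k hdim

theorem intNum_W {L P : X.Modules} (hL : PicF.IsInvertible L) (hP : PicF.IsInvertible P) :
    ∀ {l : List X.IdealSheafData}, (∀ C ∈ l, PicF.IsInvertible (_root_.ClSub.idealMod C)) →
      FGA.intNum k X 2 ![W L l, P] (Coh.structureModule X) =
        FGA.intNum k X 2 ![L, P] (Coh.structureModule X) -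
          (l.map fun C => FGA.intNum k X 2 ![_root_.ClSub.idealMod C, P]
            (Coh.structureModule X)).sum
  | [], _ => by simp [W]
  | C :: l, h => by
    have hC := h C List.mem_cons_self
    have hl : ∀ D ∈ l, PicF.IsInvertible (_root_.ClSub.idealMod D) :=
      fun D hD => h D (List.mem_cons_of_mem _ hD)
    have hO := Twist.isCoh_structureModule X
    rw [W, IntNum.intNum_pair_tensor_left (Finite.cohFinite k X) hdim.le (isInvertible_W hL hl)
      (isInvertible_dual hC) hP hO, intNum_W hL hP hl,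
      IntNum.intNum_pair_inverse (Finite.cohFinite k X) hdim.le hC (isInvertible_dual hC)
        (tensorDualIso hC) hP hO, List.map_cons, List.sum_cons]
    ring

/-- Monotonicity: `H²(M(-D)) = 0` gives `H²(M) = 0`. -/
theorem subsingleton_h2_of_sub {D : X.IdealSheafData} (hD : BlowUp.IsEffCartierIdeal D)
    {M : X.Modules} (hM : PicF.IsInvertible M)
    (h : Subsingleton (Coh.HH X (CohB1.tensorMod M (_root_.ClSub.idealMod D)) 2)) :
    Subsingleton (Coh.HH X M 2) := by
  have hS := Twist.twistSeq_shortExact hM (ClSub.Quot.idealSeq_shortExact D)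
  haveI : Subsingleton (Coh.HH X (Twist.twistSeq M (ClSub.Quot.idealSeq D)).X₁ 2) := h
  haveI : Subsingleton (Coh.HH X (Twist.twistSeq M (ClSub.Quot.idealSeq D)).X₃ 2) :=
    H2Basic.subsingleton_h2_quot (k := k) hdim hD hM
  have h2 : Subsingleton (Coh.HH X (Twist.twistSeq M (ClSub.Quot.idealSeq D)).X₂ 2) := by
    refine subsingleton_of_forall_eq 0 fun y => ?_
    obtain ⟨x, hx⟩ := (exactK₂ k hS 2 y).mp (Subsingleton.elim _ _)
    rw [← hx, Subsingleton.elim x 0]
    exact map_zero _
  exact @Equiv.subsingleton _ _ (isoK k (rightUnit M) 2).symm.toEquiv h2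

theorem subsingleton_h2_W {L : X.Modules} (hL : PicF.IsInvertible L)
    (h : Subsingleton (Coh.HH X L 2)) :
    ∀ {l : List X.IdealSheafData}, (∀ C ∈ l, BlowUp.IsEffCartierIdeal C) →
      Subsingleton (Coh.HH X (W L l) 2)
  | [], _ => h
  | C :: l, hl => by
    have hC := Effective.isInvertible_idealMod (hl C List.mem_cons_self)
    have hl' : ∀ D ∈ l, BlowUp.IsEffCartierIdeal D := fun D hD => hl D (List.mem_cons_of_mem _ hD)
    have hW := isInvertible_W hL fun D hD => Effective.isInvertible_idealMod (hl' D hD)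
    have ih := subsingleton_h2_W hL h hl'
    refine subsingleton_h2_of_sub (k := k) hdim (hl C List.mem_cons_self)
      (isInvertible_tensorMod hW (isInvertible_dual hC)) ?_
    exact (isoK k (cancelIso (W L l) hC) 2).toEquiv.subsingleton

variable (hreg : ∀ x : X, IsRegularLocalRing (X.presheaf.stalk x))

include hreg

/-- An effective divisor as a list of curves. -/
theorem exists_curves {F : X.IdealSheafData} (hF : BlowUp.IsEffCartierIdeal F) :
    ∃ l : List X.IdealSheafData,
      (∀ C ∈ l, IsIntegral C.subscheme ∧ topologicalKrullDim (C.support : Set X) = 1) ∧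
      ∀ M : X.Modules, Nonempty (W (CohB1.tensorMod M (_root_.ClSub.idealMod F)) l ≅ M) := by
  refine Mul.induction (X ↘ Spec (CommRingCat.of k)) hdim hreg (P := fun F =>
    ∃ l : List X.IdealSheafData,
      (∀ C ∈ l, IsIntegral C.subscheme ∧ topologicalKrullDim (C.support : Set X) = 1) ∧
      ∀ M : X.Modules, Nonempty (W (CohB1.tensorMod M (_root_.ClSub.idealMod F)) l ≅ M))
    ⟨[], by simp, fun M => ?_⟩ ?_ hF
  · obtain ⟨e⟩ := nonempty_idealMod_top (X := X)
    exact ⟨tensorIso (Iso.refl M) e ≪≫ rightUnit M⟩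
  rintro C hint G hCd hG ⟨l, hl, ih⟩
  refine ⟨C :: l, List.forall_mem_cons.mpr ⟨⟨hint, hCd⟩, hl⟩, fun M => ?_⟩
  have hC := Curve.isEffCartier (X ↘ Spec (CommRingCat.of k)) hdim hreg C hCd
  obtain ⟨e⟩ := Mul.nonempty_idealMod_mul hC G
  obtain ⟨e₁⟩ := nonempty_W_iso (tensorIso (Iso.refl M) e.symm ≪≫ (assoc _ _ _).symm) l
  obtain ⟨e₂⟩ := ih (CohB1.tensorMod M (_root_.ClSub.idealMod C))
  exact ⟨tensorIso (e₁ ≪≫ e₂) (Iso.refl _) ≪≫ cancelIso' M (Effective.isInvertible_idealMod hC)⟩

omit hreg in
/-- Integral combinations of classes. -/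
theorem exists_comb {ι : Type*} (s : Finset ι) (N : ι → X.Modules)
    (hN : ∀ i, PicF.IsInvertible (N i)) (x : ι → ℤ) :
    ∃ A : X.Modules, PicF.IsInvertible A ∧ ∀ P : X.Modules, PicF.IsInvertible P →
      FGA.intNum k X 2 ![A, P] (Coh.structureModule X) =
        ∑ i ∈ s, x i * FGA.intNum k X 2 ![N i, P] (Coh.structureModule X) := by
  classical
  induction s using Finset.induction with
  | empty =>
    refine ⟨Coh.structureModule X, isInvertible_structure, fun P _ => ?_⟩
    rw [IntNum.intNum_pair, IntNum.sym_structure, Finset.sum_empty]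
  | insert i s hi ih =>
    obtain ⟨A, hA, hAP⟩ := ih
    obtain ⟨B, hB, hBP⟩ := ProjSurf.exists_zsmul (k := k) hdim (hN i) (x i)
    refine ⟨CohB1.tensorMod B A, isInvertible_tensorMod hB hA, fun P hP => ?_⟩
    rw [IntNum.intNum_pair_tensor_left (Finite.cohFinite k X) hdim.le hB hA hP
      (Twist.isCoh_structureModule X), hBP P hP, hAP P hP, Finset.sum_insert hi]

variable [Infinite k]

/-- **`H²` vanishes in large degree.** -/
theorem exists_bound {H : X.Modules} (hH : CohB1.IsAmple H) :
    ∃ n₀ : ℤ, ∀ L : X.Modules, PicF.IsInvertible L →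
      n₀ < FGA.intNum k X 2 ![L, H] (Coh.structureModule X) →
        Subsingleton (Coh.HH X L 2) := by
  classical
  have hfin := Finite.cohFinite k X
  obtain ⟨m, hm, N, σ, -, hcov⟩ := Ample.GG.exists_common_pow hH
  obtain ⟨i₀, hi₀⟩ := hcov (genericPoint X)
  have hHm := isInvertible_tensorPow hH.1 m
  obtain ⟨hD, ⟨eD⟩, -, -⟩ :=
    Div.divisor_spec hHm (σ i₀) (Pencil.ne_zero_of_mem_genLocus hHm hi₀)
  obtain ⟨l₀, hl₀, hW₀⟩ := exists_curves (k := k) hdim hreg hD
  have hWHm : ∀ M : X.Modules, Nonempty (W M l₀ ≅ CohB1.tensorMod M (CohB1.tensorPow H m)) :=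
    fun M => by
      obtain ⟨e⟩ := hW₀ (CohB1.tensorMod M (CohB1.tensorPow H m))
      obtain ⟨e'⟩ := nonempty_W_iso
        ((rightUnit M).symm ≪≫ tensorIso (Iso.refl M) eD.symm ≪≫ (assoc _ _ _).symm) l₀
      exact ⟨e' ≪≫ e⟩
  let ι := {C : X.IdealSheafData // C ∈ l₀}
  haveI hint : ∀ i : ι, IsIntegral i.1.subscheme := fun i => (hl₀ _ i.2).1
  have hI : ∀ i : ι, PicF.IsInvertible (_root_.ClSub.idealMod i.1) := fun i =>
    Effective.isInvertible_idealMod
      (Curve.isEffCartier (X ↘ Spec (CommRingCat.of k)) hdim hreg i.1 (hl₀ _ i.2).2)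
  have hIv : ∀ l : List ι, ∀ C ∈ l.map Subtype.val, PicF.IsInvertible (_root_.ClSub.idealMod C) :=
    fun l C hC => by obtain ⟨i, -, rfl⟩ := List.mem_map.mp hC; exact hI i
  have hEv : ∀ l : List ι, ∀ C ∈ l.map Subtype.val, BlowUp.IsEffCartierIdeal C :=
    fun l C hC => by
      obtain ⟨i, -, rfl⟩ := List.mem_map.mp hC
      exact Curve.isEffCartier (X ↘ Spec (CommRingCat.of k)) hdim hreg i.1 (hl₀ _ i.2).2
  let num : X.Modules → X.Modules → ℤ := fun A B =>
    FGA.intNum k X 2 ![A, B] (Coh.structureModule X)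
  have hcomm : ∀ A B, num A B = num B A := fun A B => IntNum.intNum_pair_comm A B _
  let G : ι → ι → ℤ := fun i j => num (_root_.ClSub.idealMod i.1) (_root_.ClSub.idealMod j.1)
  let la : List ι := l₀.attach
  let a : ι → ℤ := fun i => (la.count i : ℤ)
  have hla : la.map Subtype.val = l₀ := List.attach_map_subtype_val l₀
  have hsum : ∀ (l : List ι) (f : ι → ℤ),
      (l.map f).sum = ∑ i, (l.count i : ℤ) * f i := by
    intro l f
    induction l with
    | nil => simp
    | cons j l ih =>
      simp [List.count_cons, ih, add_mul, Finset.sum_add_distrib, apply_ite (fun n : ℕ => (n : ℤ))]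
      rw [Finset.sum_eq_single j (fun b _ hb => if_neg hb.symm) (by simp), if_pos rfl]
      ring
  -- intersection numbers with `L(C₁ + ⋯ + C_r)`
  have hnum : ∀ (L P : X.Modules), PicF.IsInvertible L → PicF.IsInvertible P → ∀ l : List ι,
      num (W L (l.map Subtype.val)) P =
        num L P - ∑ i, (l.count i : ℤ) * num (_root_.ClSub.idealMod i.1) P := by
    intro L P hL hP l
    refine (intNum_W hdim hL hP (hIv l)).trans ?_
    rw [← hsum, List.map_map]
    rfl
  have hmH : ∀ P, PicF.IsInvertible P →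
      num (CohB1.tensorPow H m) P = - ∑ i, a i * num (_root_.ClSub.idealMod i.1) P := by
    intro P hP
    have hO := isInvertible_structure (X := X)
    obtain ⟨e⟩ := hWHm (Coh.structureModule X)
    have h := hnum _ P hO hP la
    rw [hla] at h
    simp only [num] at h ⊢
    rw [NegDef.intNum_congr_left (e ≪≫ leftUnit _),
      show FGA.intNum k X 2 ![Coh.structureModule X, P] (Coh.structureModule X) = 0 by
        rw [IntNum.intNum_pair, IntNum.sym_structure]] at h
    linarith
  have hHm' : CohB1.IsAmple (CohB1.tensorPow H m) := (Ample.Pow.isAmple_tensorPow_iff hH.1 hm).mp hH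
  have ha : ∀ i, 0 < a i := fun i =>
    Int.natCast_pos.mpr (List.count_pos_iff.mpr (List.mem_attach l₀ i))
  have hh : ∀ i, 0 < ∑ j, G i j * a j := fun i => by
    have h := Surface.intNum_ample_neg hfin hdim hreg i.1 (hl₀ _ i.2).2 hHm'
    have h' := hmH (_root_.ClSub.idealMod i.1) (hI i)
    rw [hcomm] at h'
    rw [show num (_root_.ClSub.idealMod i.1) (CohB1.tensorPow H m) = _ from rfl] at h'
    simp only [num] at h'
    rw [h', neg_lt_zero] at h
    refine h.trans_eq (Finset.sum_congr rfl fun j _ => ?_)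
    simp only [G, num]
    rw [IntNum.intNum_pair_comm (_root_.ClSub.idealMod i.1)]
    ring
  have hodge : ∀ x : ι → ℤ, ∑ i, x i * ∑ j, G i j * a j = 0 →
      ∑ i, x i * ∑ j, G i j * x j ≤ 0 := by
    intro x hx
    obtain ⟨A, hA, hAP⟩ :=
      exists_comb (k := k) hdim Finset.univ (fun i : ι => _root_.ClSub.idealMod i.1) hI x
    have h0 : num A (CohB1.tensorPow H m) = 0 := by
      rw [hcomm, hmH A hA, neg_eq_zero, ← hx]
      simp only [num] at hcomm ⊢
      simp only [hcomm _ A, hAP _ (hI _), Finset.mul_sum]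
      rw [Finset.sum_comm]
      refine Finset.sum_congr rfl fun i _ => Finset.sum_congr rfl fun j _ => ?_
      simp only [G, num]
      ring
    have h := Hodge.intNum_self_nonpos hfin hdim hreg hA hHm' h0
    rw [hAP A hA] at h
    refine le_trans (le_of_eq (Finset.sum_congr rfl fun i _ => ?_)) h
    simp only [num] at hcomm
    rw [hcomm _ A, hAP _ (hI i)]
    congr 1
    refine Finset.sum_congr rfl fun j _ => ?_
    simp only [G, num]
    rw [IntNum.intNum_pair_comm (_root_.ClSub.idealMod i.1)]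
    ring
  let b : ι → ℤ := fun i => H2Basic.h1Bound k i.1
  refine ⟨|∑ i, a i * (b i - G i i)|, fun L hL hlarge => ?_⟩
  let w : ι → ℤ := fun i => - num (_root_.ClSub.idealMod i.1) L
  have hw : ∑ i, a i * (b i - G i i) < ∑ i, a i * w i := by
    have e : ∑ i, a i * w i = num (CohB1.tensorPow H m) L := by
      rw [hmH L hL, ← Finset.sum_neg_distrib]
      exact Finset.sum_congr rfl fun i _ => by simp only [w]; ring
    rw [e]
    obtain ⟨m, rfl⟩ : ∃ m', m = m' + 1 := ⟨m - 1, by omega⟩
    simp only [num]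
    rw [Hodge.intNum_pow_left hfin hdim hH.1 hL m, IntNum.intNum_pair_comm H L]
    have h1 := le_abs_self (∑ i, a i * (b i - G i i))
    have h2 := abs_nonneg (∑ i, a i * (b i - G i i))
    push_cast
    nlinarith
  let P : (ι → ℕ) → Prop := fun n => ∃ l : List ι, (∀ i, l.count i = n i) ∧
    (Subsingleton (Coh.HH X (W L (l.map Subtype.val)) 2) → Subsingleton (Coh.HH X L 2))
  have hstep : ∀ n i, P n → b i < w i + ∑ j, G i j * (n j : ℤ) + G i i →
      P (Function.update n i (n i + 1)) := by
    rintro n i ⟨l, hcnt, hl⟩ hlt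
    refine ⟨i :: l, fun j => ?_, fun h => hl ?_⟩
    · rcases eq_or_ne j i with rfl | hji
      · rw [List.count_cons_self, Function.update_self, hcnt]
      · rw [List.count_cons_of_ne hji.symm, Function.update_of_ne hji, hcnt]
    have hM := isInvertible_W hL (hIv (i :: l))
    have hb : H2Basic.h1Bound k i.1 < - FGA.intNum k X 2
        ![_root_.ClSub.idealMod i.1, W L ((i :: l).map Subtype.val)] (Coh.structureModule X) := by
      rw [IntNum.intNum_pair_comm,
        show FGA.intNum k X 2 ![W L ((i :: l).map Subtype.val), _root_.ClSub.idealMod i.1]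
          (Coh.structureModule X) = _ from hnum L _ hL (hI i) (i :: l)]
      refine hlt.trans_eq ?_
      have e : ∑ j, ((i :: l).count j : ℤ) * num (_root_.ClSub.idealMod j.1)
          (_root_.ClSub.idealMod i.1) = G i i + ∑ j, G i j * (n j : ℤ) := by
        rw [← hsum, List.map_cons, List.sum_cons, hsum]
        congr 1
        exact Finset.sum_congr rfl fun j _ => by rw [hcnt]; simp only [G]; rw [hcomm]; ring
      rw [e]
      simp only [w]
      rw [hcomm L]
      ring
    have hsub := H2Basic.subsingleton_h2_sub hdim hH i.1 (hl₀ _ i.2).2 (hI i) hM hb h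
    exact @Equiv.subsingleton _ _
      (isoK k (cancelIso (W L (l.map Subtype.val)) (hI i)).symm 2).toEquiv hsub
  obtain ⟨c, hc, d₀, hd₀⟩ := H2Basic.exists_subsingleton_h2_twist (k := k) hdim hH hL
  set t := c * d₀
  obtain ⟨n, ⟨l, hcnt, hl⟩, hn⟩ := Grow.exists_large G a
    (fun i j hij => by
      haveI := hint i
      haveI := hint j
      exact NegDef.intNum_curves_nonneg hfin hdim hreg i.1 j.1 (hl₀ _ i.2).2 (hl₀ _ j.2).2
        fun e => hij (Subtype.ext e))
    (fun i j => hcomm _ _) ha hh hodge w b hw P ⟨[], fun _ => rfl, id⟩ hstep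
    (List.replicate t la).flatten.length
  refine hl ?_
  set lt := (List.replicate t la).flatten
  have hperm : (lt ++ l.diff lt).Perm l :=
    List.subperm_append_diff_self_of_count_le fun i _ =>
      List.count_le_length.trans ((hn i).trans (hcnt i).ge)
  obtain ⟨e₁⟩ := nonempty_W_perm L ((List.perm_append_comm.trans hperm).map Subtype.val)
  rw [List.map_append, W_append] at e₁
  have hpow : ∀ (s : ℕ), Nonempty (W L ((List.replicate s la).flatten.map Subtype.val) ≅
      CohB1.tensorMod L (CohB1.tensorPow (CohB1.tensorPow H m) s)) := by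
    intro s
    induction s with
    | zero => exact ⟨(rightUnit L).symm⟩
    | succ s ih =>
      rw [List.replicate_succ, List.flatten_cons, List.map_append, W_append, hla]
      obtain ⟨e⟩ := ih
      obtain ⟨e₂⟩ := nonempty_W_iso e l₀
      obtain ⟨e₃⟩ := hWHm (CohB1.tensorMod L (CohB1.tensorPow (CohB1.tensorPow H m) s))
      exact ⟨e₂ ≪≫ e₃ ≪≫ assoc _ _ _⟩
  obtain ⟨e₂⟩ := hpow t
  haveI : Subsingleton (Coh.HH X (W L (lt.map Subtype.val)) 2) := by
    haveI := hd₀ (m * d₀) (Nat.le_mul_of_pos_left d₀ hm)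
    exact (isoK k (e₂ ≪≫ tensorIso (Iso.refl L) (Ample.Pow.powMul H m t ≪≫
      Ample.Pow.powCongr H (Nat.mul_left_comm m c d₀))) 2).toEquiv.subsingleton
  haveI := subsingleton_h2_W (k := k) hdim (isInvertible_W hL (hIv lt)) inferInstance
    (hEv (l.diff lt))
  exact (isoK k e₁ 2).symm.toEquiv.subsingleton

end Groth.Agent.Lib.SurfInt.H2Vanish
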