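import Groth.Agent.Lib.VarDim.Basic
import Groth.Agent.Lib.Ideal.Prime
import Groth.Agent.Lib.Devissage.Dim
import Groth.Agent.Lib.Regular.UFD
import Groth.Agent.H4.CartierUFD
import Mathlib.AlgebraicGeometry.FunctionField
import Mathlib.AlgebraicGeometry.Morphisms.FiniteType
import Mathlib.AlgebraicGeometry.Noetherian

/-!
# Integral curves on a regular surface
-/

set_option autoImplicit false
set_option linter.style.haveILetI false
universe u

open CategoryTheory AlgebraicGeometry TopologicalSpace

namespace Groth.Agent.Lib.SurfInt.Curve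

open Groth.Agent.Lib
open Groth.Agent.Lib.Ideal.Prime (stalkIdeal stalkIdeal_eq gen gen_mem gen_specializes)
open Groth.Agent.Lib.VarDim.Basic (pdim)

variable {k : Type u} [Field k] {X : Scheme.{u}} (f : X ⟶ Spec (CommRingCat.of k))
  [LocallyOfFiniteType f]

include f

theorem pdim_gen (I : X.IdealSheafData) [IsIntegral I.subscheme]
    (hd : topologicalKrullDim (I.support : Set X) = 1) : pdim f (gen I) = 1 := by
  have hg : IsGenericPoint (gen I) (I.support : Set X) :=
    Set.Subset.antisymm
      (closure_minimal (Set.singleton_subset_iff.mpr (gen_mem I)) I.support.isClosed)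
      fun y hy => (gen_specializes I hy).mem_closure
  have := VarDim.Basic.topologicalKrullDim_isGenericPoint f hg
  rw [hd] at this
  exact_mod_cast this.symm

theorem eq_genericPoint_of_two_le [IrreducibleSpace X] (hdim : topologicalKrullDim X = 2) {y : X}
    (hy : 2 ≤ pdim f y) : y = genericPoint X := by
  refine (VarDim.Basic.eq_of_pdim_le f ((genericPoint_spec X).specializes (Set.mem_univ y)) ?_).symm
  have h := VarDim.Basic.topologicalKrullDim_irreducibleSpace f
  rw [hdim] at h
  have h2 : pdim f (genericPoint X) = 2 := by exact_mod_cast h.symm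
  omega

/-- An integral curve on a regular integral surface is an effective Cartier divisor. -/
theorem isEffCartier [IsIntegral X] (hdim : topologicalKrullDim X = 2)
    (hreg : ∀ x : X, IsRegularLocalRing (X.presheaf.stalk x)) (I : X.IdealSheafData)
    [IsIntegral I.subscheme] (hd : topologicalKrullDim (I.support : Set X) = 1) :
    BlowUp.IsEffCartierIdeal I := by
  haveI : IsLocallyNoetherian X := LocallyOfFiniteType.isLocallyNoetherian f
  refine H4.CartierUFD.isEffCartier_of_stalks I fun x => ?_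
  by_cases hx : x ∈ I.support
  swap
  · exact ⟨1, one_mem _, by
      rw [H4.CartierUFD.stalkIdeal_eq_top hx, _root_.Ideal.span_singleton_one]⟩
  obtain ⟨U, hU, hxU, -⟩ := exists_isAffineOpen_mem_and_subset
    (show x ∈ (⊤ : X.Opens) from trivial)
  have hgU : gen I ∈ U := (gen_specializes I hx).mem_open U.isOpen hxU
  letI algx := X.presheaf.algebra_section_stalk ⟨x, hxU⟩
  haveI := hU.isLocalization_stalk ⟨x, hxU⟩
  haveI := hreg x
  haveI := Regular.UFD.uniqueFactorizationMonoid (X.presheaf.stalk x)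
  let p := (hU.primeIdealOf ⟨x, hxU⟩).asIdeal
  haveI hq : (I.ideal ⟨U, hU⟩).IsPrime := Ideal.Prime.isPrime_ideal I ⟨U, hU⟩ ⟨x, hx, hxU⟩
  have hqp : I.ideal ⟨U, hU⟩ ≤ p := (Ideal.Prime.mem_support_iff_le_prime I ⟨U, hU⟩ hxU).mp hx
  have hdisj : Disjoint (p.primeCompl : Set Γ(X, U)) (I.ideal ⟨U, hU⟩) :=
    Set.disjoint_left.mpr fun a ha haI => ha (hqp haI)
  have hJ : stalkIdeal I x = (I.ideal ⟨U, hU⟩).map (algebraMap Γ(X, U) (X.presheaf.stalk x)) :=
    stalkIdeal_eq I ⟨U, hU⟩ hxU
  haveI hJp : (stalkIdeal I x).IsPrime :=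
    hJ ▸ IsLocalization.isPrime_of_isPrime_disjoint p.primeCompl _ _ hq hdisj
  have hgen := pdim_gen f I hd
  have hη : gen I ≠ genericPoint X := fun h => by
    have h2 := VarDim.Basic.topologicalKrullDim_irreducibleSpace f
    rw [hdim, ← h, hgen] at h2
    exact absurd h2 (by decide)
  -- points of `U` with a given prime
  have hpt : ∀ P : _root_.Ideal (X.presheaf.stalk x), P.IsPrime → ∃ y, ∃ hy : y ∈ U,
      (hU.primeIdealOf ⟨y, hy⟩).asIdeal = P.comap (algebraMap Γ(X, U) (X.presheaf.stalk x)) :=
    fun P hP => AssPt.Basic.exists_point_of_prime hU _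
  have hbot : (⊥ : _root_.Ideal (X.presheaf.stalk x)).comap
      (algebraMap Γ(X, U) (X.presheaf.stalk x)) =
      (hU.primeIdealOf ⟨genericPoint X, (genericPoint_spec X).specializes
        (Set.mem_univ x) |>.mem_open U.isOpen hxU⟩).asIdeal := by
    obtain ⟨y, hyU, hy⟩ := hpt ⊥ _root_.Ideal.isPrime_bot
    rw [← hy]
    have hy' : genericPoint X ⤳ y := (genericPoint_spec X).specializes (Set.mem_univ y)
    refine le_antisymm ?_ ((AssPt.Basic.specializes_iff_primeIdealOf hU hyU _).mp hy')
    rw [hy]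
    intro a ha
    rw [_root_.Ideal.mem_comap, _root_.Ideal.mem_bot, ← map_zero (algebraMap Γ(X, U)
      (X.presheaf.stalk x)), IsLocalization.eq_iff_exists p.primeCompl] at ha
    obtain ⟨⟨t, ht⟩, h0⟩ := ha
    rw [mul_zero] at h0
    refine ((hU.primeIdealOf ⟨genericPoint X, _⟩).2.mem_or_mem (h0 ▸ zero_mem _)).resolve_left
      fun h => ht ?_
    exact (AssPt.Basic.specializes_iff_primeIdealOf hU hxU _).mp
      ((genericPoint_spec X).specializes (Set.mem_univ x)) h
  have hq0 : stalkIdeal I x ≠ ⊥ := fun h0 => hη <| by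
    have e : I.ideal ⟨U, hU⟩ = (hU.primeIdealOf ⟨genericPoint X, (genericPoint_spec X).specializes
        (Set.mem_univ x) |>.mem_open U.isOpen hxU⟩).asIdeal := by
      rw [← hbot, ← h0, hJ]
      exact (IsLocalization.under_map_of_isPrime_disjoint p.primeCompl _ hq hdisj).symm
    rw [← Ideal.Prime.primeIdealOf_gen I ⟨U, hU⟩ hgU] at e
    have := congrArg hU.fromSpec (PrimeSpectrum.ext e)
    rwa [hU.fromSpec_primeIdealOf, hU.fromSpec_primeIdealOf] at this
  obtain ⟨π, hπJ, hπ⟩ := hJp.exists_mem_prime_of_ne_bot hq0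
  refine ⟨π, mem_nonZeroDivisors_of_ne_zero hπ.ne_zero, ?_⟩
  have hle : _root_.Ideal.span {π} ≤ stalkIdeal I x :=
    (_root_.Ideal.span_singleton_le_iff_mem _).mpr hπJ
  haveI hπp : (_root_.Ideal.span {π}).IsPrime :=
    (_root_.Ideal.span_singleton_prime hπ.ne_zero).mpr hπ
  obtain ⟨y, hyU, hy⟩ := hpt _ hπp
  have hyq : (hU.primeIdealOf ⟨y, hyU⟩).asIdeal ≤ I.ideal ⟨U, hU⟩ := by
    rw [hy]
    refine (_root_.Ideal.comap_mono hle).trans ?_
    rw [hJ]
    exact (IsLocalization.under_map_of_isPrime_disjoint p.primeCompl _ hq hdisj).le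
  have hyg : y ⤳ gen I := by
    rw [AssPt.Basic.specializes_iff_primeIdealOf hU hgU hyU,
      Ideal.Prime.primeIdealOf_gen I ⟨U, hU⟩ hgU]
    exact hyq
  have hye : y = gen I := by
    by_contra hne
    have h1 := VarDim.Basic.pdim_lt f hyg hne
    rw [hgen] at h1
    have hyη := eq_genericPoint_of_two_le f hdim (Nat.succ_le_of_lt h1)
    subst hyη
    have e : (_root_.Ideal.span {π}) = ⊥ := by
      rw [← IsLocalization.map_under p.primeCompl (X.presheaf.stalk x) (_root_.Ideal.span {π}),
        ← IsLocalization.map_under p.primeCompl (X.presheaf.stalk x)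
          (⊥ : _root_.Ideal (X.presheaf.stalk x))]
      exact congrArg _ (hy.symm.trans hbot.symm)
    exact hπ.ne_zero (_root_.Ideal.span_singleton_eq_bot.mp e)
  subst hye
  rw [Ideal.Prime.primeIdealOf_gen I ⟨U, hU⟩ hgU] at hy
  rw [hJ, hy]
  exact IsLocalization.map_under p.primeCompl _ _

/-- A closed subset of a curve not containing it is finite. -/
theorem finite_of_gen_notMem [IsNoetherian X] (I : X.IdealSheafData) [IsIntegral I.subscheme]
    (hd : topologicalKrullDim (I.support : Set X) = 1) {T : Set X} (hT : IsClosed T)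
    (hTI : T ⊆ (I.support : Set X)) (hg : gen I ∉ T) : T.Finite := by
  refine (Devissage.Dim.finite_maximal (X := X) hT).subset fun x hx => ⟨hx, fun z hz hzx => ?_⟩
  by_contra hne
  have hgen := pdim_gen f I hd
  have h1 : pdim f z < 1 := hgen ▸ VarDim.Basic.pdim_lt f (gen_specializes I (hTI hz))
    (fun h => hg (h ▸ hz))
  have h2 := VarDim.Basic.pdim_lt f hzx hne
  omega

omit [LocallyOfFiniteType f] f in
/-- An integral closed subscheme is determined by its generic point. -/
theorem eq_of_gen_eq (I J : X.IdealSheafData) [IsIntegral I.subscheme] [IsIntegral J.subscheme]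
    (h : gen I = gen J) : I = J := by
  have hs : (I.support : Set X) = (J.support : Set X) := by
    ext x
    exact ⟨fun hx => (gen_specializes I hx).mem_closed J.support.isClosed (h ▸ gen_mem J),
      fun hx => (gen_specializes J hx).mem_closed I.support.isClosed (h ▸ gen_mem I)⟩
  refine Scheme.IdealSheafData.ext (funext fun U => ?_)
  by_cases hU : ∃ x ∈ I.support, x ∈ U.1
  · obtain ⟨x, hx, hxU⟩ := hU
    have h1 : gen I ∈ U.1 := (gen_specializes I hx).mem_open U.1.isOpen hxU
    have h2 : gen J ∈ U.1 := h ▸ h1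
    rw [← Ideal.Prime.primeIdealOf_gen I U h1, ← Ideal.Prime.primeIdealOf_gen J U h2]
    simp only [h]
  · have htop : ∀ K : X.IdealSheafData, (K.support : Set X) = (I.support : Set X) →
        K.ideal U = ⊤ := fun K hK => by
      by_contra hne
      obtain ⟨m, hm, hle⟩ := _root_.Ideal.exists_le_maximal _ hne
      obtain ⟨y, hy, hym⟩ := AssPt.Basic.exists_point_of_prime U.2 m
      refine hU ⟨y, ?_, hy⟩
      rw [← SetLike.mem_coe, ← hK, SetLike.mem_coe,
        Ideal.Prime.mem_support_iff_le_prime K U hy, hym]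
      exact hle
    rw [htop I rfl, htop J hs.symm]

end Groth.Agent.Lib.SurfInt.Curve
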