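import Groth.Agent.Lib.Curves.Degree
import Groth.Agent.Lib.Ample.GenLocus
import Groth.Agent.Lib.Ample.Pullback
import Mathlib.AlgebraicGeometry.Morphisms.Proper
import Mathlib.AlgebraicGeometry.Artinian
import Mathlib.AlgebraicGeometry.Morphisms.QuasiFinite

/-!
# Ample invertible modules on an integral proper curve have positive degree
-/

set_option autoImplicit false
set_option linter.style.haveILetI false
universe u

open CategoryTheory CategoryTheory.Limits AlgebraicGeometry TopologicalSpace

namespace Groth.Agent.Lib.SurfInt.CurvePos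

open Groth.Agent.Lib Groth.Agent.Lib.TensorMod

variable {k : Type u} [Field k] {C : Scheme.{u}} [C.Over (Spec (CommRingCat.of k))]
  [IsProper (C ↘ Spec (CommRingCat.of k))] [IsIntegral C]

theorem deg_tensorPow (hdim : topologicalKrullDim C ≤ 1) {L : C.Modules}
    (hL : PicF.IsInvertible L) : ∀ n : ℕ,
    Curv2.deg k C (CohB1.tensorPow L n) 1 = n * Curv2.deg k C L 1
  | 0 => by
    rw [Nat.cast_zero, zero_mul]
    exact Curves.Degree.deg_structureModule
  | n + 1 => by
    change Curv2.deg k C (CohB1.tensorMod (CohB1.tensorPow L n) L) 1 = _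
    rw [Curves.Degree.deg_tensor hdim (Invertible.isInvertible_tensorPow hL n) hL,
      deg_tensorPow hdim hL n]
    push_cast
    ring

theorem deg_pos_of_isAmple (hdim : topologicalKrullDim C = 1) {L : C.Modules}
    (hL : CohB1.IsAmple L) : 0 < Curv2.deg k C L 1 := by
  haveI := Curves.GlobalSections.noetherianSpace_of_proper k C
  obtain ⟨hinv, -, hx⟩ := hL
  obtain ⟨n, s, hs, haff⟩ := hx (genericPoint C)
  have hd1 : topologicalKrullDim C ≤ 1 := hdim.le
  have hO := PicLoc.isInvertible_structureModule C
  have hP : PicF.IsInvertible (CohB1.tensorPow L (n + 1)) :=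
    Invertible.isInvertible_tensorPow hinv (n + 1)
  have hs0 : s ≠ 0 := by
    intro h0
    obtain ⟨U, hU, hg⟩ := (Ample.GenLocus.mem_genLocus_iff s).mp hs
    haveI : Nonempty U := ⟨⟨_, hU⟩⟩
    have hz : Ample.GenLocus.sv s U = 0 := by rw [h0]; rfl
    rw [hz] at hg
    refine one_ne_zero ((hg U le_rfl).1 (a₁ := (1 : Γ(C, U))) (a₂ := 0) ?_)
    simp [TensorMod.Dual.rs]
  have gO := Curves.Degree.isGood_structureModule (k := k) (X := C) hd1
  have gP := Curves.Degree.isGood (k := k) hd1 hP
  have hle := Curves.Positivity.deg_le_of_ne_zero hd1 hO hP gO gP hs0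
  rw [Curves.Degree.deg_structureModule, deg_tensorPow hd1 hinv] at hle
  by_contra hneg
  have h0 : Curv2.deg k C L 1 = 0 := by
    have : (0 : ℤ) ≤ Curv2.deg k C L 1 :=
      (mul_nonneg_iff_of_pos_left (by positivity)).mp hle
    omega
  haveI : IsIso s := Curves.Positivity.isIso_of_deg_eq (k := k) hd1 hO hP gO gP hs0 (by
    rw [Curves.Degree.deg_structureModule, deg_tensorPow hd1 hinv, h0, mul_zero])
  have htop : CohB1.genLocus _ s = ⊤ := by
    rw [show s = 𝟙 _ ≫ (asIso s).hom by simp, Ample.GenLocus.genLocus_comp_iso,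
      Ample.GenLocus.genLocus_id]
  rw [htop] at haff
  haveI : IsAffine (⊤ : C.Opens) := haff
  haveI : IsAffine C := .of_isIso (Scheme.topIso C).inv
  haveI : IsFinite (C ↘ Spec (CommRingCat.of k)) :=
    IsFinite.iff_isProper_and_isAffineHom.mpr ⟨inferInstance, inferInstance⟩
  haveI : Finite C := by
    have h := IsFinite.finite_preimage_singleton (C ↘ Spec (CommRingCat.of k))
      (IsLocalRing.closedPoint k : Spec (CommRingCat.of k))
    exact Set.finite_univ_iff.mp (h.subset fun x _ => Subsingleton.elim (α := PrimeSpectrum k) _ _)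
  haveI : JacobsonSpace C := LocallyOfFiniteType.jacobsonSpace (C ↘ Spec (CommRingCat.of k))
  have h := topologicalKrullDim_zero_of_discreteTopology C
  rw [hdim] at h
  exact absurd h (by decide)

end Groth.Agent.Lib.SurfInt.CurvePos
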