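import Groth.Agent.Lib.SurfInt.Effective
import Groth.Agent.Lib.SurfInt.Curve
import Groth.Agent.Lib.SurfInt.CurvePos
import Groth.Agent.Lib.Modules.ProjFormula
import Groth.Agent.Lib.JacCrit.FlatRegular
import Groth.Agent.Lib.Ample.Pullback

/-!
# Curves on a regular surface: nonnegativity and positivity of intersection numbers
-/

set_option autoImplicit false
set_option linter.style.haveILetI false
universe u

open CategoryTheory CategoryTheory.Limits AlgebraicGeometry TopologicalSpace

namespace Groth.Agent.Lib.SurfInt.Surface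

open Groth.Agent.Lib Groth.Agent.Lib.TensorMod.Basic
open Groth.Agent.Lib.Snapper
open Groth.Agent.Lib.Ideal.Prime (gen gen_mem gen_specializes)

variable {k : Type u} [Field k] {X : Scheme.{u}} [X.Over (Spec (CommRingCat.of k))]

/-- The structure over `k` of a closed subscheme. -/
@[reducible]
noncomputable def overSub (I : X.IdealSheafData) : I.subscheme.Over (Spec (CommRingCat.of k)) :=
  ⟨I.subschemeι ≫ (X ↘ Spec (CommRingCat.of k))⟩

theorem dim_subscheme (I : X.IdealSheafData) :
    topologicalKrullDim I.subscheme = topologicalKrullDim (I.support : Set X) :=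
  IsHomeomorph.topologicalKrullDim_eq _
    (I.subschemeι.isClosedEmbedding.toHomeomorph.trans
      (Homeomorph.setCongr I.range_subschemeι)).isHomeomorph

/-- `χ(M ⊗ O/I) = χ_Z(M|_Z)`. -/
theorem euler_twist_quot (I : X.IdealSheafData) {M : X.Modules} (hM : PicF.IsInvertible M) :
    letI := overSub (k := k) I
    Curv2.euler k X (CohB1.tensorMod M (_root_.ClSub.quotMod I)) =
      Curv2.euler k I.subscheme ((Scheme.Modules.pullback I.subschemeι).obj M) := by
  letI := overSub (k := k) I
  have hE := Modules.DualBasis.hasDBases_of_isFinLocFree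
    (TensorMod.LocFree.of_rank (TensorMod.LocFree.of_isInvertible hM))
  let P := (Scheme.Modules.pullback I.subschemeι).obj M
  have e : CohB1.tensorMod M (_root_.ClSub.quotMod I) ≅ (Coh.push I.subschemeι).obj P :=
    (Modules.ProjFormula.projIso I.subschemeι hE).app (Coh.structureModule I.subscheme) ≪≫
      (Coh.push I.subschemeι).mapIso (rightUnit P)
  haveI : P.IsQuasicoherent :=
    TensorMod.QCohInv.isQCoh_of_isInvertible (PicLoc.isInvertible_pullback I.subschemeι hM)
  rw [Curves.Euler.euler_eq_of_iso e]
  exact Push.euler_push I.subschemeι rfl P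

theorem euler_quot (I : X.IdealSheafData) :
    letI := overSub (k := k) I
    Curv2.euler k X (_root_.ClSub.quotMod I) =
      Curv2.euler k I.subscheme (Coh.structureModule I.subscheme) := by
  letI := overSub (k := k) I
  haveI := TensorMod.QCohInv.isQCoh_structureModule I.subscheme
  exact Push.euler_push I.subschemeι rfl (Coh.structureModule I.subscheme)

variable [IsNoetherian X] (hfin : Chi.CohFinite k X) {d : ℕ} (hd : topologicalKrullDim X ≤ d)

include hfin hd

/-- `(O(-D)·M) = -deg(M|_D)`. -/
theorem intNum_ideal_eq_neg_deg {I : X.IdealSheafData}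
    (hI : PicF.IsInvertible (_root_.ClSub.idealMod I)) {M : X.Modules} (hM : PicF.IsInvertible M) :
    letI := overSub (k := k) I
    FGA.intNum k X d ![_root_.ClSub.idealMod I, M] (Coh.structureModule X) =
      - Curv2.deg k I.subscheme ((Scheme.Modules.pullback I.subschemeι).obj M) 1 := by
  rw [Effective.intNum_ideal hfin hd hI hM, ← Chi.euler_eq_eulerCharLE hd,
    ← Chi.euler_eq_eulerCharLE hd, euler_twist_quot I hM, euler_quot I]
  simp [Curv2.deg]

omit hfin hd
variable [IsIntegral X] [LocallyOfFiniteType (X ↘ Spec (CommRingCat.of k))]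

omit [AlgebraicGeometry.IsNoetherian X] [X.Over (Spec (CommRingCat.of k))]
  [LocallyOfFiniteType (X ↘ Spec (CommRingCat.of k))] in
theorem forall_component (hdim : topologicalKrullDim X = 2) :
    ∀ Z ∈ irreducibleComponents (X : Type u), topologicalKrullDim Z = 2 := by
  intro Z hZ
  rw [irreducibleComponents_eq_singleton, Set.mem_singleton_iff] at hZ
  subst hZ
  rw [← hdim]
  exact IsHomeomorph.topologicalKrullDim_eq _ (Homeomorph.Set.univ X).isHomeomorph

omit [X.Over (Spec (CommRingCat.of k))] [IsIntegral X]
  [LocallyOfFiniteType (X ↘ Spec (CommRingCat.of k))] in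
theorem finite_sup (f : X ⟶ Spec (CommRingCat.of k)) [LocallyOfFiniteType f] (C : X.IdealSheafData) [IsIntegral C.subscheme]
    (hCd : topologicalKrullDim (C.support : Set X) = 1) (F : X.IdealSheafData)
    (h : ¬ (C.support : Set X) ⊆ (F.support : Set X)) : ((C ⊔ F).support : Set X).Finite := by
  refine Curve.finite_of_gen_notMem f C hCd (C ⊔ F).support.isClosed
    (Scheme.IdealSheafData.support_antitone le_sup_left) fun hg => h fun y hy => ?_
  exact (gen_specializes C hy).mem_closed F.support.isClosed
    (Scheme.IdealSheafData.support_antitone (le_sup_right : F ≤ C ⊔ F) hg)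

include hfin

/-- A curve meets a divisor not containing it nonnegatively. -/
theorem intNum_nonneg (hdim : topologicalKrullDim X = 2)
    (hreg : ∀ x : X, IsRegularLocalRing (X.presheaf.stalk x))
    (C : X.IdealSheafData) [IsIntegral C.subscheme]
    (hCd : topologicalKrullDim (C.support : Set X) = 1) {F : X.IdealSheafData}
    (hF : FGA.IsEffCartier F) (h : ¬ (C.support : Set X) ⊆ (F.support : Set X)) :
    0 ≤ FGA.intNum k X 2 ![_root_.ClSub.idealMod C, _root_.ClSub.idealMod F]
      (Coh.structureModule X) := by
  rw [Effective.intNum_ideals_of_finite hfin hdim.le (forall_component hdim)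
    (fun x => haveI := hreg x; JacCrit.FlatRegular.isCohenMacaulayLocalRing _)
    (Curve.isEffCartier (X ↘ Spec (CommRingCat.of k)) hdim hreg C hCd) hF
    (finite_sup (X ↘ Spec (CommRingCat.of k)) C hCd F h)]
  exact Int.natCast_nonneg _

/-- An ample invertible module has positive degree on every curve. -/
theorem intNum_ample_neg [IsProper (X ↘ Spec (CommRingCat.of k))]
    (hdim : topologicalKrullDim X = 2) (hreg : ∀ x : X, IsRegularLocalRing (X.presheaf.stalk x))
    (C : X.IdealSheafData) [IsIntegral C.subscheme]
    (hCd : topologicalKrullDim (C.support : Set X) = 1) {H : X.Modules} (hH : CohB1.IsAmple H) :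
    FGA.intNum k X 2 ![_root_.ClSub.idealMod C, H] (Coh.structureModule X) < 0 := by
  letI := overSub (k := k) C
  haveI : IsProper (C.subscheme ↘ Spec (CommRingCat.of k)) :=
    inferInstanceAs (IsProper (C.subschemeι ≫ (X ↘ Spec (CommRingCat.of k))))
  rw [intNum_ideal_eq_neg_deg hfin hdim.le
    (Effective.isInvertible_idealMod
      (Curve.isEffCartier (X ↘ Spec (CommRingCat.of k)) hdim hreg C hCd)) hH.1]
  have := CurvePos.deg_pos_of_isAmple (k := k) ((dim_subscheme C).trans hCd)
    (Ample.Pullback.isAmple_pullback C.subschemeι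
      (Ample.Pullback.isQuasiAffine_of_isAffineHom _) hH)
  linarith

end Groth.Agent.Lib.SurfInt.Surface
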