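import Groth.Agent.Lib.SurfInt.Seq
import Groth.Agent.Lib.SurfInt.Curve
import Groth.Agent.Lib.RelDiv.Diff
import Groth.Agent.Lib.FinCond.Noetherian
import Groth.Agent.Lib.SurfInt.Surface
import Groth.Agent.Lib.Devissage.Closure
import Groth.Agent.H75.RedSub

/-!
# `I_{C+D} ≅ I_C ⊗ I_D`, residual divisors, induction over effective divisors
-/

set_option autoImplicit false
set_option linter.style.haveILetI false
universe u

open CategoryTheory CategoryTheory.Limits AlgebraicGeometry TopologicalSpace
open scoped TensorProduct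

namespace Groth.Agent.Lib.SurfInt.Mul

open Groth.Agent.Lib Groth.Agent.Lib.Modules Groth.Agent.Lib.SurfInt.Stalk
open Groth.Agent.Lib.Ideal.Prime (stalkIdeal stalkIdeal_eq gen gen_mem gen_specializes)

noncomputable section

variable {X : Scheme.{u}}

theorem stalkIdeal_mul (I J : X.IdealSheafData) (x : X) :
    stalkIdeal (I * J) x = stalkIdeal I x * stalkIdeal J x := by
  obtain ⟨U, hU, hxU, -⟩ := exists_isAffineOpen_mem_and_subset
    (show x ∈ (⊤ : X.Opens) from trivial)
  rw [stalkIdeal_eq (I * J) ⟨U, hU⟩ hxU, stalkIdeal_eq I ⟨U, hU⟩ hxU, stalkIdeal_eq J ⟨U, hU⟩ hxU,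
    ← _root_.Ideal.map_mul, Scheme.IdealSheafData.ideal_mul, Pi.mul_apply]

/-- The ideal module of a sum of divisors. -/
theorem nonempty_idealMod_mul {I : X.IdealSheafData} (hI : BlowUp.IsEffCartierIdeal I)
    (J : X.IdealSheafData) :
    Nonempty (CohB1.tensorMod (_root_.ClSub.idealMod I) (_root_.ClSub.idealMod J) ≅
      _root_.ClSub.idealMod (I * J)) := by
  let f : CohB1.tensorMod (_root_.ClSub.idealMod I) (_root_.ClSub.idealMod J) ⟶
      _root_.ClSub.idealMod J := act (_root_.ClSub.idealModι I) _
  let g := f ≫ _root_.ClSub.idealModι J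
  have hc : ∀ x : X, ∃ c ∈ nonZeroDivisors (X.presheaf.stalk x),
      stalkIdeal I x = _root_.Ideal.span {c} := fun x => by
    obtain ⟨U, hxU, e, he, hIe⟩ := hI x
    exact ⟨_, Ideal.EffCartier.germ_mem_nonZeroDivisors U.2 he x hxU,
      by rw [stalkIdeal_eq I U hxU, hIe, _root_.Ideal.map_span, Set.image_singleton]⟩
  -- on stalks every element is `a₀ ⊗ v`, sent to `c * v`
  have hg : ∀ (x : X) (c : X.presheaf.stalk x), stalkIdeal I x = _root_.Ideal.span {c} →
      ∃ a₀, (∀ v, oStalk x (StalkModule.stalkMapₗ g x ((DerivedOX.TensorSheaf.tensorStalk x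
          (_root_.ClSub.idealMod I) (_root_.ClSub.idealMod J)).symm (a₀ ⊗ₜ v))) =
            c * idealStalk J x v) ∧
        ∀ z, ∃ v, z = (DerivedOX.TensorSheaf.tensorStalk x (_root_.ClSub.idealMod I)
          (_root_.ClSub.idealMod J)).symm (a₀ ⊗ₜ v) := by
    intro x c he
    obtain ⟨a₀, ha₀⟩ : c ∈ LinearMap.range (idealStalk I x) := by
      rw [range_idealStalk, he]; exact _root_.Ideal.mem_span_singleton_self c
    refine ⟨a₀, fun v => ?_, fun z => ?_⟩
    · rw [StalkModule.stalkMapₗ_comp, LinearMap.comp_apply,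
        show StalkModule.stalkMapₗ f x ((DerivedOX.TensorSheaf.tensorStalk x
          (_root_.ClSub.idealMod I) (_root_.ClSub.idealMod J)).symm (a₀ ⊗ₜ v)) = c • v from
          (act_stalk _ _ x a₀ v).trans (congrArg (· • v) ha₀), map_smul, map_smul]
      rfl
    let e := DerivedOX.TensorSheaf.tensorStalk x (_root_.ClSub.idealMod I) (_root_.ClSub.idealMod J)
    have hgen : ∀ t : (_root_.ClSub.idealMod I).presheaf.stalk x ⊗[X.presheaf.stalk x]
        (_root_.ClSub.idealMod J).presheaf.stalk x,
        ∃ v, t = a₀ ⊗ₜ[X.presheaf.stalk x] v := by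
      intro t
      induction t using TensorProduct.induction_on with
      | zero => exact ⟨0, (TensorProduct.tmul_zero _ _).symm⟩
      | tmul a v =>
        have hmem : idealStalk I x a ∈ _root_.Ideal.span {c} :=
          he ▸ range_idealStalk I x ▸ LinearMap.mem_range_self _ a
        obtain ⟨r, hr⟩ := _root_.Ideal.mem_span_singleton'.mp hmem
        refine ⟨r • v, ?_⟩
        rw [← TensorProduct.smul_tmul]
        congr 1
        refine idealStalk_injective I x ?_
        rw [map_smul, ha₀, smul_eq_mul, hr]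
      | add t t' h h' =>
        obtain ⟨v, rfl⟩ := h
        obtain ⟨v', rfl⟩ := h'
        exact ⟨v + v', (TensorProduct.tmul_add _ _ _).symm⟩
    obtain ⟨v, hv⟩ := hgen (e z)
    exact ⟨v, by rw [← hv]; exact (e.symm_apply_apply z).symm⟩
  have w : g ≫ _root_.ClSub.toSubscheme (I * J) = 0 := by
    refine StalkModule.hom_ext_stalkMapₗ fun x => LinearMap.ext fun z => ?_
    obtain ⟨c, -, he⟩ := hc x
    obtain ⟨a₀, hval, h⟩ := hg x c he
    obtain ⟨v, hz⟩ := h z
    have hv := hval v
    rw [← hz] at hv
    have hmem : oStalk x (StalkModule.stalkMapₗ g x z) ∈ LinearMap.ker (quotStalk (I * J) x) := by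
      rw [ker_quotStalk, stalkIdeal_mul, he, hv]
      exact _root_.Ideal.mul_mem_mul (_root_.Ideal.mem_span_singleton_self c)
        (range_idealStalk J x ▸ LinearMap.mem_range_self _ v)
    rw [StalkModule.stalkMapₗ_comp, StalkModule.stalkMapₗ_zero]
    simpa [quotStalk] using LinearMap.mem_ker.mp hmem
  let φ : CohB1.tensorMod (_root_.ClSub.idealMod I) (_root_.ClSub.idealMod J) ⟶
      _root_.ClSub.idealMod (I * J) := kernel.lift _ g w
  have hφ : φ ≫ _root_.ClSub.idealModι (I * J) = g := kernel.lift_ι _ _ _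
  have hφx : ∀ x z, idealStalk (I * J) x (StalkModule.stalkMapₗ φ x z) =
      oStalk x (StalkModule.stalkMapₗ g x z) := fun x z => by
    rw [← hφ, StalkModule.stalkMapₗ_comp]
    rfl
  haveI : IsIso φ := by
    rw [StalkModule.isIso_iff_stalkMapₗ_bijective]
    intro x
    obtain ⟨c, hcn, he⟩ := hc x
    obtain ⟨a₀, hval, h⟩ := hg x c he
    constructor
    · rw [injective_iff_map_eq_zero]
      intro z hz
      obtain ⟨v, rfl⟩ := h z
      have hv := hval v
      rw [← hφx, hz, map_zero] at hv
      have hv0 : idealStalk J x v = 0 :=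
        (mul_left_mem_nonZeroDivisors_eq_zero_iff hcn).mp hv.symm
      rw [idealStalk_injective J x (hv0.trans (map_zero _).symm), TensorProduct.tmul_zero]
      exact map_zero _
    · intro b
      have hb : idealStalk (I * J) x b ∈ stalkIdeal I x * stalkIdeal J x :=
        stalkIdeal_mul I J x ▸ range_idealStalk (I * J) x ▸ LinearMap.mem_range_self _ b
      rw [he, _root_.Ideal.mem_span_singleton_mul] at hb
      obtain ⟨r, hr, hrb⟩ := hb
      rw [← range_idealStalk] at hr
      obtain ⟨v, rfl⟩ := hr
      refine ⟨_, idealStalk_injective (I * J) x ((hφx x _).trans ((hval v).trans hrb))⟩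
  exact ⟨asIso φ⟩

section Decompose

variable {k : Type u} [Field k] (f : X ⟶ Spec (CommRingCat.of k)) [LocallyOfFiniteType f]
  [IsIntegral X] (hdim : topologicalKrullDim X = 2)
  (hreg : ∀ x : X, IsRegularLocalRing (X.presheaf.stalk x))

include f hdim hreg

/-- A nonempty effective divisor contains a curve. -/
theorem exists_curve {F : X.IdealSheafData} (hF : BlowUp.IsEffCartierIdeal F) (hne : F ≠ ⊤) :
    ∃ (C : X.IdealSheafData) (_ : IsIntegral C.subscheme),
      topologicalKrullDim (C.support : Set X) = 1 ∧ (C.support : Set X) ⊆ (F.support : Set X) := by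
  haveI : IsLocallyNoetherian X := LocallyOfFiniteType.isLocallyNoetherian f
  obtain ⟨x₀, hx₀⟩ : (F.support : Set X).Nonempty := by
    rw [Set.nonempty_iff_ne_empty]
    intro h
    exact hne (F.support_eq_bot_iff.mp (SetLike.ext' h))
  obtain ⟨y, hyF, -, hmax⟩ := Ideal.Prime.exists_maximal_generization F.support.isClosed hx₀
  let C := IntMult.ptIdeal y
  have hsupp : (C.support : Set X) = closure ({y} : Set X) := rfl
  haveI : AlgebraicGeometry.IsReduced C.subscheme := H75.RedSub.isReduced_vanishingIdeal _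
  haveI : IrreducibleSpace C.subscheme := by
    let i := C.subschemeι
    obtain ⟨z, hz⟩ : y ∈ Set.range i := by
      rw [Devissage.Closure.range_ptIdeal y]; exact subset_closure rfl
    have hcl : closure {z} = Set.univ := by
      rw [i.isClosedEmbedding.isInducing.closure_eq_preimage_closure_image, Set.image_singleton, hz,
        ← Devissage.Closure.range_ptIdeal y, Set.preimage_range]
    exact { isPreirreducible_univ := hcl ▸ isIrreducible_singleton.closure.2
            toNonempty := ⟨z⟩ }
  haveI hint : IsIntegral C.subscheme := isIntegral_of_irreducibleSpace_of_isReduced _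
  refine ⟨C, hint, ?_, hsupp ▸ F.support.isClosed.closure_subset_iff.mpr
    (Set.singleton_subset_iff.mpr hyF)⟩
  rw [hsupp, VarDim.Basic.topologicalKrullDim_isGenericPoint f
    (show IsGenericPoint y (closure ({y} : Set X)) from rfl)]
  have hlt : VarDim.Basic.pdim f y < 2 := by
    by_contra hge
    refine Ideal.Prime.not_maximalPoint_of_mem_support hF hyF fun z hz => ?_
    rw [Curve.eq_genericPoint_of_two_le f hdim (not_lt.mp hge)] at hz ⊢
    exact ((genericPoint_spec X).specializes (Set.mem_univ z)).antisymm hz |>.eq.symm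
  have h0 : VarDim.Basic.pdim f y ≠ 0 := by
    intro h0
    have h2 := Transversal.two_le_ringKrullDim_stalk f (Surface.forall_component hdim)
      ((VarDim.Basic.pdim_eq_zero_iff f y).mp h0)
    obtain ⟨U, hyU, e, he, hFe⟩ := hF y
    rw [Ideal.Prime.ringKrullDim_stalk_eq_height U.2 hyU] at h2
    haveI : IsNoetherianRing Γ(X, U.1) := IsLocallyNoetherian.component_noetherian U
    have hmin : (U.2.primeIdealOf ⟨y, hyU⟩).asIdeal ∈ (F.ideal U).minimalPrimes := by
      refine ⟨⟨(U.2.primeIdealOf ⟨y, hyU⟩).2,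
        (Ideal.Prime.mem_support_iff_le_prime F U hyU).mp hyF⟩, fun q hq hle => ?_⟩
      haveI := hq.1
      obtain ⟨z, hz, rfl⟩ := AssPt.Basic.exists_point_of_prime U.2 q
      have hzy := (AssPt.Basic.specializes_iff_primeIdealOf U.2 hyU hz).mpr hle
      have := hmax z ((Ideal.Prime.mem_support_iff_le_prime F U hz).mpr hq.2) hzy
      subst this
      exact le_rfl
    have h1 := _root_.Ideal.height_le_one_of_isPrincipal_of_mem_minimalPrimes
      (_root_.Ideal.span {e}) _ (hFe ▸ hmin)
    exact absurd (h2.trans (WithBot.coe_le_coe.mpr h1)) (by decide)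
  rw [show VarDim.Basic.pdim f y = 1 by omega]
  rfl

/-- The residual divisor after removing a component. -/
theorem exists_residual {F : X.IdealSheafData} (hF : BlowUp.IsEffCartierIdeal F)
    (C : X.IdealSheafData) [IsIntegral C.subscheme]
    (hCd : topologicalKrullDim (C.support : Set X) = 1)
    (hsub : (C.support : Set X) ⊆ (F.support : Set X)) :
    ∃ F' : X.IdealSheafData, BlowUp.IsEffCartierIdeal F' ∧ C * F' = F ∧ F < F' := by
  have hC := Curve.isEffCartier f hdim hreg C hCd
  have hle : F ≤ C := fun U => by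
    by_cases hU : ∃ x ∈ C.support, x ∈ U.1
    · obtain ⟨x, hx, hxU⟩ := hU
      have h1 : gen C ∈ U.1 := (gen_specializes C hx).mem_open U.1.isOpen hxU
      rw [← Ideal.Prime.primeIdealOf_gen C U h1]
      exact (Ideal.Prime.mem_support_iff_le_prime F U h1).mp (hsub (gen_mem C))
    · have : C.ideal U = ⊤ := by
        by_contra hne
        obtain ⟨m, hm, hle⟩ := _root_.Ideal.exists_le_maximal _ hne
        obtain ⟨y, hy, hym⟩ := AssPt.Basic.exists_point_of_prime U.2 m
        refine hU ⟨y, ?_, hy⟩
        rw [Ideal.Prime.mem_support_iff_le_prime C U hy, hym]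
        exact hle
      rw [this]
      exact le_top
  obtain ⟨F', hF'⟩ : ∃ F', C * F' = F := ⟨_, RelDiv.Diff.mul_colon hC hle⟩
  refine ⟨F', Ideal.EffCartier.isEffCartier_factor_right (hF' ▸ hF), hF',
    lt_of_le_of_ne (hF' ▸ fun U => ?_) fun heq => ?_⟩
  · rw [Scheme.IdealSheafData.ideal_mul, Pi.mul_apply]
    exact _root_.Ideal.mul_le_right (I := C.ideal U) (J := F'.ideal U)
  subst heq
  obtain ⟨U, hgU, e, he, hFe⟩ := hF (gen C)
  have h1 : stalkIdeal F (gen C) = stalkIdeal C (gen C) * stalkIdeal F (gen C) := by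
    rw [← stalkIdeal_mul, hF']
  let e' := X.presheaf.germ U.1 (gen C) hgU e
  have he' : stalkIdeal F (gen C) = _root_.Ideal.span {e'} := by
    rw [stalkIdeal_eq F U hgU, hFe, _root_.Ideal.map_span, Set.image_singleton]
  have hmem : e' ∈ stalkIdeal C (gen C) * _root_.Ideal.span {e'} :=
    he' ▸ h1.le (he'.ge (_root_.Ideal.mem_span_singleton_self e'))
  obtain ⟨r, hr, hre⟩ := _root_.Ideal.mem_mul_span_singleton.mp hmem
  have : r = 1 := (mul_cancel_right_mem_nonZeroDivisors
    (Ideal.EffCartier.germ_mem_nonZeroDivisors U.2 he (gen C) hgU)).mp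
      (hre.trans (one_mul _).symm)
  subst this
  rw [stalkIdeal_eq C U hgU, ← Ideal.Prime.primeIdealOf_gen C U hgU] at hr
  letI algx := X.presheaf.algebra_section_stalk ⟨gen C, hgU⟩
  haveI := U.2.isLocalization_stalk ⟨gen C, hgU⟩
  exact ((_root_.Ideal.map_le_iff_le_comap.mpr (IsLocalization.AtPrime.under_maximalIdeal
    (X.presheaf.stalk (gen C)) _).ge) hr) isUnit_one

/-- Induction over effective divisors on a regular surface. -/
theorem induction [IsNoetherian X] {P : X.IdealSheafData → Prop} (htop : P ⊤)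
    (hmul : ∀ (C : X.IdealSheafData) (_ : IsIntegral C.subscheme) (F : X.IdealSheafData),
      topologicalKrullDim (C.support : Set X) = 1 → BlowUp.IsEffCartierIdeal F → P F → P (C * F))
    {F : X.IdealSheafData} (hF : BlowUp.IsEffCartierIdeal F) : P F := by
  haveI := FinCond.wellFoundedGT_idealSheafData (X := X)
  induction F using (inferInstance : WellFoundedGT X.IdealSheafData).wf.induction with
  | _ F ih =>
    by_cases hne : F = ⊤
    · exact hne ▸ htop
    obtain ⟨C, hint, hCd, hsub⟩ := exists_curve f hdim hreg hF hne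
    obtain ⟨F', hF', hmul', hlt⟩ := exists_residual f hdim hreg hF C hCd hsub
    exact hmul' ▸ hmul C hint F' hCd hF' (ih F' hlt hF')

end Decompose

end

end Groth.Agent.Lib.SurfInt.Mul
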