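import Groth.Agent.Lib.SurfInt.Surface

/-!
# Transport of degrees along isomorphisms of schemes
-/

set_option autoImplicit false
set_option linter.style.haveILetI false
universe u

open CategoryTheory CategoryTheory.Limits AlgebraicGeometry

namespace Groth.Agent.Lib.SurfInt.PushIso

open Groth.Agent.Lib Groth.Agent.Lib.TensorMod.Basic

variable {C Z : Scheme.{u}} (φ : C ⟶ Z) [IsIso φ]

theorem isIso_unitToPush : IsIso (_root_.ClSub.unitToPush φ) := by
  rw [Scheme.Modules.Hom.isIso_iff_isIso_app]
  intro U
  rw [ConcreteCategory.isIso_iff_bijective]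
  exact ConcreteCategory.bijective_of_isIso (φ.app U)

variable {k : Type u} [Field k] [C.Over (Spec (CommRingCat.of k))] [Z.Over (Spec (CommRingCat.of k))]
  (hφ : φ ≫ (Z ↘ Spec (CommRingCat.of k)) = C ↘ Spec (CommRingCat.of k))

include hφ

theorem deg_pullback {P : Z.Modules} (hP : PicF.IsInvertible P) :
    Curv2.deg k C ((Scheme.Modules.pullback φ).obj P) 1 = Curv2.deg k Z P 1 := by
  haveI := isIso_unitToPush φ
  have hE := Modules.DualBasis.hasDBases_of_isFinLocFree
    (TensorMod.LocFree.of_rank (TensorMod.LocFree.of_isInvertible hP))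
  let eO : Coh.structureModule Z ≅ (Coh.push φ).obj (Coh.structureModule C) :=
    @asIso _ _ _ _ (_root_.ClSub.unitToPush φ) (isIso_unitToPush φ)
  let e : (Coh.push φ).obj ((Scheme.Modules.pullback φ).obj P) ≅ P :=
    (Coh.push φ).mapIso (rightUnit ((Scheme.Modules.pullback φ).obj P)).symm ≪≫
      ((Modules.ProjFormula.projIso φ hE).app (Coh.structureModule C)).symm ≪≫
      tensorIso (Iso.refl P) eO.symm ≪≫ rightUnit P
  haveI : ((Scheme.Modules.pullback φ).obj P).IsQuasicoherent :=
    TensorMod.QCohInv.isQCoh_of_isInvertible (PicLoc.isInvertible_pullback φ hP)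
  haveI := TensorMod.QCohInv.isQCoh_structureModule C
  have h1 := Push.euler_push φ hφ ((Scheme.Modules.pullback φ).obj P)
  have h2 := Push.euler_push φ hφ (Coh.structureModule C)
  rw [Curves.Euler.euler_eq_of_iso e] at h1
  rw [← Curves.Euler.euler_eq_of_iso eO] at h2
  simp [Curv2.deg, h1, h2]

end Groth.Agent.Lib.SurfInt.PushIso
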