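import Groth.Agent.Lib.SurfInt.Surface
import Groth.Agent.Lib.SurfInt.Mul
import Groth.Agent.Lib.JacCrit.OverField

/-!
# Positivity of effective divisors, configurations of curves
-/

set_option autoImplicit false
set_option linter.style.haveILetI false
universe u

open CategoryTheory CategoryTheory.Limits AlgebraicGeometry TopologicalSpace

namespace Groth.Agent.Lib.SurfInt.NegDef

open Groth.Agent.Lib Groth.Agent.Lib.Snapper
open Groth.Agent.Lib.Ideal.Prime (gen gen_mem gen_specializes)

theorem nonneg_of_negDef {r : ℕ} (G : Fin r → Fin r → ℤ) (hoff : ∀ i j, i ≠ j → 0 ≤ G i j)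
    (hneg : ∀ a : Fin r → ℤ, a ≠ 0 → ∑ i, ∑ j, a i * a j * G i j < 0) (s : Fin r → ℤ)
    (h : ∀ j, ∑ i, s i * G i j ≤ 0) : ∀ i, 0 ≤ s i := by
  by_contra hc
  push Not at hc
  obtain ⟨i₀, hi₀⟩ := hc
  let a : Fin r → ℤ := fun i => max (- s i) 0
  have ha : a ≠ 0 := fun he => by
    have := congrFun he i₀
    simp only [a, Pi.zero_apply] at this
    omega
  have h1 : ∑ j, a j * ∑ i, s i * G i j ≤ 0 :=
    Finset.sum_nonpos fun j _ => mul_nonpos_of_nonneg_of_nonpos (le_max_right _ _) (h j)
  have h2 : ∀ i j, - (a i * a j * G i j) ≤ a j * (s i * G i j) := by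
    intro i j
    have hs : s i = max (s i) 0 - a i := by simp only [a]; omega
    have hp : 0 ≤ a j * (max (s i) 0 * G i j) := by
      rcases eq_or_ne i j with rfl | hne
      · rcases le_total (s i) 0 with hle | hle
        · simp [max_eq_right hle]
        · simp [a, max_eq_right (neg_nonpos.mpr hle)]
      · exact mul_nonneg (le_max_right _ _) (mul_nonneg (le_max_right _ _) (hoff i j hne))
    rw [hs]
    nlinarith [hp]
  have h3 : - ∑ i, ∑ j, a i * a j * G i j ≤ ∑ j, a j * ∑ i, s i * G i j := by
    rw [Finset.sum_comm, ← Finset.sum_neg_distrib]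
    refine Finset.sum_le_sum fun j _ => ?_
    rw [← Finset.sum_neg_distrib, Finset.mul_sum]
    exact Finset.sum_le_sum fun i _ => h2 i j
  linarith [hneg a ha]

variable {k : Type u} [Field k] {X : Scheme.{u}} [X.Over (Spec (CommRingCat.of k))]

theorem regular_of_smooth [Smooth (X ↘ Spec (CommRingCat.of k))] (x : X) :
    IsRegularLocalRing (X.presheaf.stalk x) :=
  JacCrit.OverField.isRegularLocalRing_stalk (X ↘ Spec (CommRingCat.of k)) x
    (by rw [Scheme.Hom.smoothLocus_eq_top]; trivial)

variable [IsNoetherian X] [IsIntegral X] [IsProper (X ↘ Spec (CommRingCat.of k))]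
  (hfin : Chi.CohFinite k X) (hdim : topologicalKrullDim X = 2)
  (hreg : ∀ x : X, IsRegularLocalRing (X.presheaf.stalk x))

theorem intNum_congr_left {A B M : X.Modules} (e : A ≅ B) :
    FGA.intNum k X 2 ![A, M] (Coh.structureModule X) =
      FGA.intNum k X 2 ![B, M] (Coh.structureModule X) := by
  rw [IntNum.intNum_pair, IntNum.intNum_pair]
  exact IntNum.sym_cons_iso e _ _

include hfin hdim

/-- Intersection numbers are additive in effective divisors. -/
theorem intNum_mul {C F : X.IdealSheafData} (hC : BlowUp.IsEffCartierIdeal C)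
    (hF : BlowUp.IsEffCartierIdeal F) {M : X.Modules} (hM : PicF.IsInvertible M) :
    FGA.intNum k X 2 ![_root_.ClSub.idealMod (C * F), M] (Coh.structureModule X) =
      FGA.intNum k X 2 ![_root_.ClSub.idealMod C, M] (Coh.structureModule X) +
        FGA.intNum k X 2 ![_root_.ClSub.idealMod F, M] (Coh.structureModule X) := by
  obtain ⟨e⟩ := Mul.nonempty_idealMod_mul hC F
  rw [← intNum_congr_left e]
  exact IntNum.intNum_pair_tensor_left hfin hdim.le (Effective.isInvertible_idealMod hC)
    (Effective.isInvertible_idealMod hF) hM (Snapper.Twist.isCoh_structureModule X)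

theorem intNum_top {M : X.Modules} (hM : PicF.IsInvertible M) :
    FGA.intNum k X 2 ![_root_.ClSub.idealMod (⊤ : X.IdealSheafData), M]
      (Coh.structureModule X) = 0 := by
  have h := intNum_mul hfin hdim Ideal.EffCartier.isEffCartier_top
    Ideal.EffCartier.isEffCartier_top hM
  have e : (⊤ : X.IdealSheafData) * ⊤ = ⊤ := by
    refine Scheme.IdealSheafData.ext (funext fun U => ?_)
    rw [Scheme.IdealSheafData.ideal_mul, Pi.mul_apply, Scheme.IdealSheafData.ideal_top,
      Pi.top_apply]
    exact _root_.Ideal.mul_top _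
  rw [e] at h
  linarith

include hreg

theorem isEff (C : X.IdealSheafData) [IsIntegral C.subscheme]
    (hCd : topologicalKrullDim (C.support : Set X) = 1) : BlowUp.IsEffCartierIdeal C :=
  Curve.isEffCartier (X ↘ Spec (CommRingCat.of k)) hdim hreg C hCd

/-- An ample class is positive on nonzero effective divisors. -/
theorem intNum_eff_ample_neg {H : X.Modules} (hH : CohB1.IsAmple H) {F : X.IdealSheafData}
    (hF : BlowUp.IsEffCartierIdeal F) (hne : F ≠ ⊤) :
    FGA.intNum k X 2 ![_root_.ClSub.idealMod F, H] (Coh.structureModule X) < 0 := by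
  have key : ∀ G : X.IdealSheafData, BlowUp.IsEffCartierIdeal G →
      FGA.intNum k X 2 ![_root_.ClSub.idealMod G, H] (Coh.structureModule X) ≤ 0 := fun G hG =>
    Mul.induction (X ↘ Spec (CommRingCat.of k)) hdim hreg
      (P := fun G => FGA.intNum k X 2 ![_root_.ClSub.idealMod G, H] (Coh.structureModule X) ≤ 0)
      (intNum_top hfin hdim hH.1).le
      (fun C hint G hCd hG ih => by
        rw [intNum_mul hfin hdim (isEff hfin hdim hreg C hCd) hG hH.1]
        have := Surface.intNum_ample_neg hfin hdim hreg C hCd hH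
        linarith) hG
  obtain ⟨C, hint, hCd, hsub⟩ := Mul.exists_curve (X ↘ Spec (CommRingCat.of k)) hdim hreg hF hne
  obtain ⟨F', hF', hmul, -⟩ :=
    Mul.exists_residual (X ↘ Spec (CommRingCat.of k)) hdim hreg hF C hCd hsub
  rw [← hmul, intNum_mul hfin hdim (isEff hfin hdim hreg C hCd) hF' hH.1]
  have := Surface.intNum_ample_neg hfin hdim hreg C hCd hH
  linarith [key F' hF']

/-- Two distinct curves meet nonnegatively. -/
theorem intNum_curves_nonneg (C D : X.IdealSheafData) [IsIntegral C.subscheme]
    [IsIntegral D.subscheme] (hCd : topologicalKrullDim (C.support : Set X) = 1)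
    (hDd : topologicalKrullDim (D.support : Set X) = 1) (hne : C ≠ D) :
    0 ≤ FGA.intNum k X 2 ![_root_.ClSub.idealMod C, _root_.ClSub.idealMod D]
      (Coh.structureModule X) := by
  refine Surface.intNum_nonneg hfin hdim hreg C hCd (isEff hfin hdim hreg D hDd) fun hsub => hne ?_
  refine Curve.eq_of_gen_eq C D ?_
  refine (VarDim.Basic.eq_of_pdim_le (X ↘ Spec (CommRingCat.of k))
    (gen_specializes D (hsub (gen_mem C))) ?_).symm
  rw [Curve.pdim_gen _ C hCd, Curve.pdim_gen _ D hDd]

section Config

variable {r : ℕ} (C : Fin r → X.IdealSheafData) (hC : Function.Injective C)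
  (hCi : ∀ i, IsIntegral (C i).subscheme)
  (hCd : ∀ i, topologicalKrullDim ((C i).support : Set X) = 1)

include hC hCi hCd

theorem offDiag (i j : Fin r) (h : i ≠ j) :
    0 ≤ FGA.intNum k X 2 ![_root_.ClSub.idealMod (C i), _root_.ClSub.idealMod (C j)]
      (Coh.structureModule X) :=
  haveI := hCi i
  haveI := hCi j
  intNum_curves_nonneg hfin hdim hreg _ _ (hCd i) (hCd j) (fun e => h (hC e))

end Config

end Groth.Agent.Lib.SurfInt.NegDef
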