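import Groth.Agent.Lib.SurfInt.Bound
import Groth.Agent.Lib.SurfInt.NegDef
import Groth.Agent.Lib.Ample.Pow

/-!
# The Hodge index inequality on a surface

If `H` is ample and `(L·H) = 0` then `(L·L) ≤ 0`.
-/

set_option autoImplicit false
set_option linter.style.haveILetI false
set_option linter.unusedSectionVars false
set_option linter.overlappingInstances false
universe u

open CategoryTheory CategoryTheory.Limits AlgebraicGeometry TopologicalSpace

namespace Groth.Agent.Lib.SurfInt.Hodge

open Groth.Agent.Lib Groth.Agent.Lib.Modules Groth.Agent.Lib.Snapper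
open Groth.Agent.Lib.TensorMod.Basic (tmap comm tensorIso leftUnit rightUnit)
open Groth.Agent.Lib.TensorMod.Invertible (isInvertible_tensorPow isInvertible_tensorMod)
open Groth.Agent.Lib.Curves.LES (mapK exactK₂)

variable {k : Type u} [Field k] {X : Scheme.{u}} [X.Over (Spec (CommRingCat.of k))]
  [IsIntegral X] [IsNoetherian X]

/-- A combination of finitely many sections avoiding finitely many points. -/
theorem exists_avoiding_family [Infinite k] (f : X ⟶ Spec (CommRingCat.of k)) {L : X.Modules}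
    (hL : PicF.IsInvertible L) :
    ∀ {N : ℕ} (σ : Fin N → (Coh.structureModule X ⟶ L)) {S : Set X}, S.Finite →
      (∀ η ∈ S, ∃ i, η ∈ CohB1.genLocus L (σ i)) →
      ∃ s : Coh.structureModule X ⟶ L, ∀ η ∈ S, η ∈ CohB1.genLocus L s
  | 0, σ, S, _, h => ⟨0, fun η hη => (h η hη).elim fun i _ => i.elim0⟩
  | N + 1, σ, S, hS, h => by
    obtain ⟨s', hs'⟩ := exists_avoiding_family f hL (fun i : Fin N => σ i.castSucc)
      (S := {η | η ∈ S ∧ ∃ i : Fin N, η ∈ CohB1.genLocus L (σ i.castSucc)})
      (hS.subset fun _ h => h.1) fun η hη => hη.2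
    letI : X.Over (Spec (CommRingCat.of k)) := ⟨f⟩
    obtain ⟨t, s, -, hs⟩ := Pencil.exists_avoiding (k := k) hL s' (σ (Fin.last N)) hS fun η hη => by
      obtain ⟨i, hi⟩ := h η hη
      rcases Fin.eq_castSucc_or_eq_last i with ⟨j, rfl⟩ | rfl
      · exact Or.inl (hs' η ⟨hη, j, hi⟩)
      · exact Or.inr hi
    exact ⟨s, hs⟩

omit [AlgebraicGeometry.IsIntegral X] [AlgebraicGeometry.IsNoetherian X] in
/-- The asymptotic comparison. -/
theorem nonpos_of_forall_le {a C B : ℤ} (h : ∀ n : ℕ, a * (n : ℤ) ^ 2 ≤ C * (n : ℤ) + B) :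
    a ≤ 0 := by
  by_contra ha
  have hn := h (C.natAbs + B.natAbs + 1)
  have h1 : C ≤ (C.natAbs : ℤ) := Int.le_natAbs
  have h2 : B ≤ (B.natAbs : ℤ) := Int.le_natAbs
  generalize hN : ((C.natAbs + B.natAbs + 1 : ℕ) : ℤ) = N at hn
  have hN' : N = (C.natAbs : ℤ) + (B.natAbs : ℤ) + 1 := by rw [← hN]; push_cast; ring
  have hB0 : (0 : ℤ) ≤ (B.natAbs : ℤ) := Int.natCast_nonneg _
  have hC0 : (0 : ℤ) ≤ (C.natAbs : ℤ) := Int.natCast_nonneg _
  have hN1 : 1 ≤ N := by omega
  have e1 : C * N ≤ (C.natAbs : ℤ) * N := mul_le_mul_of_nonneg_right h1 (by omega)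
  have e2 : 1 * N ^ 2 ≤ a * N ^ 2 := mul_le_mul_of_nonneg_right (by omega) (sq_nonneg N)
  have e3 : (B.natAbs : ℤ) * 1 ≤ (B.natAbs : ℤ) * N := mul_le_mul_of_nonneg_left hN1 hB0
  have e4 : N ^ 2 = (C.natAbs : ℤ) * N + (B.natAbs : ℤ) * N + N := by rw [hN']; ring
  linarith

variable [LocallyOfFiniteType (X ↘ Spec (CommRingCat.of k))] [Infinite k]

/-- A power of an ample module has two sections with finite common zero locus. -/
theorem exists_two_sections (f : X ⟶ Spec (CommRingCat.of k)) [LocallyOfFiniteType f] (hdim : topologicalKrullDim X = 2) {L : X.Modules}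
    (hL : CohB1.IsAmple L) :
    ∃ m : ℕ, 0 < m ∧ ∃ s₁ s₂ : Coh.structureModule X ⟶ CohB1.tensorPow L m,
      s₁ ≠ 0 ∧ s₂ ≠ 0 ∧
      ((PicF2.zeroScheme _ s₁ ⊔ PicF2.zeroScheme _ s₂).support : Set X).Finite := by
  obtain ⟨m, hm, N, σ, -, hcov⟩ := Ample.GG.exists_common_pow hL
  have hinv := isInvertible_tensorPow hL.1 m
  obtain ⟨s₁, hs₁⟩ := exists_avoiding_family f hinv σ (Set.finite_singleton (genericPoint X))
    fun η _ => hcov η
  have h₁ := Pencil.ne_zero_of_mem_genLocus hinv (hs₁ _ rfl)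
  obtain ⟨s₂, hs₂⟩ := exists_avoiding_family f hinv σ
    (Pencil.finite_avoidSet (PicF2.zeroScheme _ s₁)) fun η _ => hcov η
  exact ⟨m, hm, s₁, s₂, h₁, Pencil.ne_zero_of_mem_genLocus hinv (hs₂ _ (Set.mem_insert _ _)),
    Pencil.finite_of_avoid f hdim hinv
      (Div.divisor_spec hinv s₁ h₁).1 hs₂⟩

omit [Infinite k] in
/-- A surface contains a curve. -/
theorem exists_curve (f : X ⟶ Spec (CommRingCat.of k)) [LocallyOfFiniteType f]
    (hdim : topologicalKrullDim X = 2) :
    ∃ C : X.IdealSheafData, IsIntegral C.subscheme ∧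
      topologicalKrullDim (C.support : Set X) = 1 := by
  haveI : JacobsonSpace X := LocallyOfFiniteType.jacobsonSpace f
  obtain ⟨x, -, hx⟩ := nonempty_inter_closedPoints (Set.univ_nonempty (α := X))
    isOpen_univ.isLocallyClosed
  have hg : VarDim.Basic.pdim f (genericPoint X) = 2 := by
    have h := VarDim.Basic.topologicalKrullDim_irreducibleSpace f
    rw [hdim] at h
    exact_mod_cast h.symm
  have hx0 := (VarDim.Basic.pdim_eq_zero_iff f x).mpr hx
  obtain ⟨y, -, -, hy⟩ := VarDim.Basic.exists_step_below f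
    ((genericPoint_spec X).specializes (Set.mem_univ x)) (fun h => by rw [h] at hg; omega)
  let C := IntMult.ptIdeal y
  have hsupp : (C.support : Set X) = closure ({y} : Set X) := rfl
  haveI : AlgebraicGeometry.IsReduced C.subscheme := H75.RedSub.isReduced_vanishingIdeal _
  haveI : IrreducibleSpace C.subscheme := by
    let i := C.subschemeι
    obtain ⟨z, hz⟩ : y ∈ Set.range i := by
      rw [Devissage.Closure.range_ptIdeal y]; exact subset_closure rfl
    have hcl : closure {z} = Set.univ := by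
      rw [i.isClosedEmbedding.isInducing.closure_eq_preimage_closure_image, Set.image_singleton, hz,
        ← Devissage.Closure.range_ptIdeal y, Set.preimage_range]
    exact { isPreirreducible_univ := hcl ▸ isIrreducible_singleton.closure.2
            toNonempty := ⟨z⟩ }
  refine ⟨C, isIntegral_of_irreducibleSpace_of_isReduced _, ?_⟩
  rw [hsupp, VarDim.Basic.topologicalKrullDim_isGenericPoint f
    (show IsGenericPoint y (closure ({y} : Set X)) from rfl)]
  rw [show VarDim.Basic.pdim f y = 1 by omega]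
  rfl

variable [IsProper (X ↘ Spec (CommRingCat.of k))] (hfin : Chi.CohFinite k X)
  (hdim : topologicalKrullDim X = 2)

include hfin hdim

omit [Infinite k] in
theorem intNum_pow_left {L M : X.Modules} (hL : PicF.IsInvertible L) (hM : PicF.IsInvertible M) :
    ∀ n : ℕ, FGA.intNum k X 2 ![CohB1.tensorPow L (n + 1), M] (Coh.structureModule X) =
      ((n + 1 : ℕ) : ℤ) * FGA.intNum k X 2 ![L, M] (Coh.structureModule X)
  | 0 => by
    rw [NegDef.intNum_congr_left (k := k) (B := L) (M := M) (show CohB1.tensorPow L (0 + 1) ≅ L from leftUnit L)]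
    simp
  | n + 1 => by
    rw [show CohB1.tensorPow L (n + 1 + 1) = CohB1.tensorMod (CohB1.tensorPow L (n + 1)) L from rfl,
      IntNum.intNum_pair_tensor_left hfin hdim.le (isInvertible_tensorPow hL _) hL hM
        (Twist.isCoh_structureModule X), intNum_pow_left hL hM n]
    push_cast
    ring

omit [Infinite k] [IsProper (X ↘ Spec (CommRingCat.of k))]
  [LocallyOfFiniteType (X ↘ Spec (CommRingCat.of k))] hfin hdim in
theorem intNum_expand (L M : X.Modules) :
    FGA.intNum k X 2 ![L, M] (Coh.structureModule X) =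
      FGA.eulerCharLE k X (Coh.structureModule X) 2 - FGA.eulerCharLE k X L 2 -
        FGA.eulerCharLE k X M 2 + FGA.eulerCharLE k X (CohB1.tensorMod L M) 2 := by
  have e : CohB1.tensorMod M (CohB1.tensorMod L (Coh.structureModule X)) ≅ CohB1.tensorMod L M :=
    tensorIso (Iso.refl M) (rightUnit L) ≪≫ comm M L
  rw [IntNum.intNum_pair]
  simp only [Vanish.sym_cons, show ∀ F, Vanish.sym k X 2 [] F = FGA.eulerCharLE k X F 2 from
    fun _ => rfl]
  rw [Chi.eulerCharLE_of_iso (rightUnit L), Chi.eulerCharLE_of_iso (rightUnit M),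
    Chi.eulerCharLE_of_iso e]
  ring

omit [Infinite k] in
/-- `χ(Aⁿ)` is quadratic in `n`. -/
theorem two_mul_chi_pow {A : X.Modules} (hA : PicF.IsInvertible A) : ∀ n : ℕ,
    2 * FGA.eulerCharLE k X (CohB1.tensorPow A (n + 1)) 2 =
      ((n + 1 : ℕ) : ℤ) * (n : ℤ) * FGA.intNum k X 2 ![A, A] (Coh.structureModule X) +
        2 * ((n + 1 : ℕ) : ℤ) * FGA.eulerCharLE k X A 2 -
        2 * (n : ℤ) * FGA.eulerCharLE k X (Coh.structureModule X) 2
  | 0 => by
    rw [Chi.eulerCharLE_of_iso (show CohB1.tensorPow A (0 + 1) ≅ A from leftUnit A)]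
    simp
  | n + 1 => by
    have h := intNum_expand (k := k) (CohB1.tensorPow A (n + 1)) A
    rw [intNum_pow_left hfin hdim hA hA n] at h
    have ih := two_mul_chi_pow hA n
    rw [show CohB1.tensorPow A (n + 1 + 1) = CohB1.tensorMod (CohB1.tensorPow A (n + 1)) A from rfl]
    push_cast at h ih ⊢
    linear_combination ih - 2 * h

omit [Infinite k] in
/-- `h²` of a module with a nonzero section is at most `h²(O)`. -/
theorem h2_le {A : X.Modules} (hA : PicF.IsInvertible A) (s : Coh.structureModule X ⟶ A)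
    (hs : s ≠ 0) :
    Module.finrank k (Coh.HH X A 2) ≤ Module.finrank k (Coh.HH X (Coh.structureModule X) 2) := by
  obtain ⟨hD, ⟨e⟩, hsupp, -⟩ := Div.divisor_spec hA s hs
  set D := PicF2.zeroScheme A s
  have hS := Twist.twistSeq_shortExact hA (ClSub.Quot.idealSeq_shortExact D)
  have hdimD : topologicalKrullDim D.subscheme ≤ 1 := by
    rw [Surface.dim_subscheme]
    refine (VarDim.Basic.topologicalKrullDim_le_iff (X ↘ Spec (CommRingCat.of k))
      D.support.isClosed.isLocallyClosed _).2 fun x hx => ?_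
    have hlt : VarDim.Basic.pdim (X ↘ Spec (CommRingCat.of k)) x < 2 := by
      by_contra hge
      refine Ideal.Prime.not_maximalPoint_of_mem_support hD hx fun z hz => ?_
      rw [Curve.eq_genericPoint_of_two_le (X ↘ Spec (CommRingCat.of k)) hdim (not_lt.mp hge)] at hz ⊢
      exact ((genericPoint_spec X).specializes (Set.mem_univ z)).antisymm hz |>.eq.symm
    exact_mod_cast (show VarDim.Basic.pdim (X ↘ Spec (CommRingCat.of k)) x ≤ 1 by omega)
  have hq : Subsingleton (Coh.HH X (CohB1.tensorMod A (_root_.ClSub.quotMod D)) 2) := by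
    let P := (Scheme.Modules.pullback D.subschemeι).obj A
    have hE := Modules.DualBasis.hasDBases_of_isFinLocFree
      (TensorMod.LocFree.of_rank (TensorMod.LocFree.of_isInvertible hA))
    have e' : CohB1.tensorMod A (_root_.ClSub.quotMod D) ≅ (Coh.push D.subschemeι).obj P :=
      (Modules.ProjFormula.projIso D.subschemeι hE).app (Coh.structureModule D.subscheme) ≪≫
        (Coh.push D.subschemeι).mapIso (rightUnit P)
    haveI : P.IsQuasicoherent :=
      TensorMod.QCohInv.isQCoh_of_isInvertible (PicLoc.isInvertible_pullback D.subschemeι hA)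
    haveI : IsLocallyNoetherian D.subscheme := LocallyOfFiniteType.isLocallyNoetherian D.subschemeι
    haveI : CompactSpace D.subscheme := QuasiCompact.compactSpace_of_compactSpace D.subschemeι
    haveI : IsNoetherian D.subscheme := ⟨⟩
    haveI := Chi.subsingleton_HH_of_lt (d := 1) (by exact_mod_cast hdimD) P (p := 2) (by norm_num)
    haveI : Subsingleton (Coh.HH X ((Coh.push D.subschemeι).obj P) 2) :=
      (ZarCoh.Morph.affineEquiv D.subschemeι P 2).toEquiv.subsingleton
    exact (Curves.LES.isoK k e' 2).toEquiv.subsingleton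
  haveI := hq
  haveI : Module.Finite k (Coh.HH X (Twist.twistSeq A (ClSub.Quot.idealSeq D)).X₁ 2) :=
    hfin _ (Twist.isCoh_twist hA (Ample.GG.isCoh_of_isInvertible (Effective.isInvertible_idealMod hD))) 2
  have hsurj : Function.Surjective (mapK k (Twist.twistSeq A (ClSub.Quot.idealSeq D)).f 2) :=
    fun y => (exactK₂ k hS 2 y).mp (hq.elim _ _)
  have h := LinearMap.finrank_le_finrank_of_surjective hsurj
  rw [← (Curves.LES.isoK k (rightUnit A) 2).finrank_eq, ← (Curves.LES.isoK k e 2).finrank_eq]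
  exact h

variable (hreg : ∀ x : X, IsRegularLocalRing (X.presheaf.stalk x))

include hreg

theorem intNum_self_nonpos_of_sections {L H' : X.Modules} (hL : PicF.IsInvertible L)
    (hH'a : CohB1.IsAmple H') (s₁ s₂ : Coh.structureModule X ⟶ H') (hs₁ : s₁ ≠ 0) (hs₂ : s₂ ≠ 0)
    (hB : ((PicF2.zeroScheme H' s₁ ⊔ PicF2.zeroScheme H' s₂).support : Set X).Finite)
    (horth' : FGA.intNum k X 2 ![L, H'] (Coh.structureModule X) = 0) :
    FGA.intNum k X 2 ![L, L] (Coh.structureModule X) ≤ 0 := by
  have hH'i : PicF.IsInvertible H' := hH'a.1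
  set d := FGA.intNum k X 2 ![H', H'] (Coh.structureModule X) with hd
  have hdpos : 0 < d := by
    obtain ⟨hZ, -, -, -⟩ := Div.divisor_spec hH'i s₁ hs₁
    have h := Bound.intNum_zeroScheme hfin hdim hH'i s₁ hs₁ hH'i
    have hne : PicF2.zeroScheme H' s₁ ≠ ⊤ := by
      intro htop
      obtain ⟨C, hC, hCd⟩ := exists_curve (X ↘ Spec (CommRingCat.of k)) hdim
      haveI := hC
      have hCe := Curve.isEffCartier (X ↘ Spec (CommRingCat.of k)) hdim hreg C hCd
      have hI := Effective.isInvertible_idealMod hCe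
      have h1 := Bound.intNum_zeroScheme hfin hdim hH'i s₁ hs₁ hI
      rw [htop, NegDef.intNum_top hfin hdim hI] at h1
      have h2 := Surface.intNum_ample_neg hfin hdim hreg C hCd hH'a
      rw [IntNum.intNum_pair_comm] at h2
      linarith
    have hneg := NegDef.intNum_eff_ample_neg hfin hdim hreg hH'a hZ hne
    linarith
  obtain ⟨n₀, hn₀⟩ := Ample.GG.eventually_genAt_twist hH'a L (Ample.GG.isCoh_of_isInvertible hL)
  set c := n₀ + 1
  set A := CohB1.tensorMod L (CohB1.tensorPow H' c)
  have hA : PicF.IsInvertible A := isInvertible_tensorMod hL (isInvertible_tensorPow hH'i c)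
  obtain ⟨σ, hσ⟩ := Ample.GG.exists_genLocus_of_genAt hA (hn₀ c (by omega) (genericPoint X))
  have hAH : FGA.intNum k X 2 ![A, H'] (Coh.structureModule X) = (c : ℤ) * d := by
    rw [IntNum.intNum_pair_tensor_left hfin hdim.le hL (isInvertible_tensorPow hH'i c) hH'i
      (Twist.isCoh_structureModule X), horth', intNum_pow_left hfin hdim hH'i hH'i n₀, zero_add]
  have hAA : FGA.intNum k X 2 ![A, A] (Coh.structureModule X) =
      FGA.intNum k X 2 ![L, L] (Coh.structureModule X) + (c : ℤ) * c * d := by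
    rw [IntNum.intNum_pair_tensor_left hfin hdim.le hL (isInvertible_tensorPow hH'i c) hA
      (Twist.isCoh_structureModule X), intNum_pow_left hfin hdim hH'i hA n₀,
      IntNum.intNum_pair_comm H' A, hAH, IntNum.intNum_pair_comm L A,
      IntNum.intNum_pair_tensor_left hfin hdim.le hL (isInvertible_tensorPow hH'i c) hL
      (Twist.isCoh_structureModule X), intNum_pow_left hfin hdim hH'i hL n₀,
      IntNum.intNum_pair_comm H' L, horth']
    ring
  let χO := FGA.eulerCharLE k X (Coh.structureModule X) 2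
  let h2O : ℤ := Module.finrank k (Coh.HH X (Coh.structureModule X) 2)
  have key : ∀ n : ℕ, ((n + 1 : ℕ) : ℤ) * n * FGA.intNum k X 2 ![A, A] (Coh.structureModule X) +
      2 * ((n + 1 : ℕ) : ℤ) * FGA.eulerCharLE k X A 2 - 2 * (n : ℤ) * χO ≤
      (((n + 1) * c + 1 : ℕ) : ℤ) * (((n + 1) * c + 2 : ℕ) : ℤ) * d + 2 * h2O := by
    intro n
    have hAn := isInvertible_tensorPow hA (n + 1)
    have hbd := Bound.two_mul_h0_le hfin hdim hreg hH'i s₁ s₂ hs₁ hs₂ hB hAn ((n + 1) * c) (by
      rw [intNum_pow_left hfin hdim hA hH'i n, hAH]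
      push_cast
      nlinarith)
    have hσn : SecTwist.powHom σ (n + 1) ≠ 0 := Pencil.ne_zero_of_mem_genLocus hAn (x := genericPoint X)
      (by rw [Ample.GenLocus.genLocus_powHom hA σ _ n.succ_pos]; exact hσ)
    have h2 := h2_le hfin hdim hAn _ hσn
    have hchi : FGA.eulerCharLE k X (CohB1.tensorPow A (n + 1)) 2 ≤
        (Module.finrank k (Coh.HH X (CohB1.tensorPow A (n + 1)) 0) : ℤ) +
          (Module.finrank k (Coh.HH X (CohB1.tensorPow A (n + 1)) 2) : ℤ) := by
      unfold FGA.eulerCharLE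
      simp [Finset.sum_range_succ]
    have h2' : (Module.finrank k (Coh.HH X (CohB1.tensorPow A (n + 1)) 2) : ℤ) ≤ h2O :=
      Int.ofNat_le.mpr h2
    have h := two_mul_chi_pow hfin hdim hA n
    linarith
  set a := FGA.intNum k X 2 ![L, L] (Coh.structureModule X)
  set χA := FGA.eulerCharLE k X A 2
  refine nonpos_of_forall_le (C := |a| + 2 * |χA| + 2 * |χO| + c * c * d + 3 * c * d)
    (B := 2 * |χA| + c * c * d + 3 * c * d + 2 * d + 2 * h2O) fun n => ?_
  have h := key n
  rw [hAA] at h
  push_cast at h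
  have hn : (0 : ℤ) ≤ n := Int.natCast_nonneg n
  nlinarith [mul_le_mul_of_nonneg_right (neg_le_abs a) hn,
    mul_le_mul_of_nonneg_right (neg_le_abs χA) hn, mul_le_mul_of_nonneg_right (le_abs_self χO) hn,
    neg_le_abs χA]

/-- **Hodge index**: the orthogonal of an ample class is negative semidefinite. -/
theorem intNum_self_nonpos {L H : X.Modules} (hL : PicF.IsInvertible L) (hH : CohB1.IsAmple H)
    (horth : FGA.intNum k X 2 ![L, H] (Coh.structureModule X) = 0) :
    FGA.intNum k X 2 ![L, L] (Coh.structureModule X) ≤ 0 := by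
  obtain ⟨m, hm, s₁, s₂, hs₁, hs₂, hB⟩ :=
    exists_two_sections (X ↘ Spec (CommRingCat.of k)) hdim hH
  obtain ⟨m, rfl⟩ : ∃ m', m = m' + 1 := ⟨m - 1, by omega⟩
  refine intNum_self_nonpos_of_sections hfin hdim hreg hL
    ((Ample.Pow.isAmple_tensorPow_iff hH.1 hm).mp hH) s₁ s₂ hs₁ hs₂ hB ?_
  rw [IntNum.intNum_pair_comm, intNum_pow_left hfin hdim hH.1 hL m, IntNum.intNum_pair_comm,
    horth, mul_zero]

end Groth.Agent.Lib.SurfInt.Hodge
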