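import Groth.Agent.Lib.SurfInt.ProjSurf
import Groth.Agent.Lib.SurfInt.PushIso
import Groth.Agent.Lib.TensorMod.TensorInv
import Groth.Prelude.Def_NumR

/-!
# The intersection form on `N¹(X)_ℝ` of a surface: signature and nondegeneracy
-/

set_option autoImplicit false
set_option linter.style.haveILetI false
set_option linter.unusedSectionVars false
universe u

open CategoryTheory CategoryTheory.Limits AlgebraicGeometry

namespace Groth.Agent.Lib.SurfInt.ConeForm

open Groth.Agent.Lib Groth.Agent.Lib.Snapper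

variable {k : Type u} [Field k] {X : Scheme.{u}} [X.Over (Spec (CommRingCat.of k))]
  [IsIntegral X] [IsNoetherian X] [IsProper (X ↘ Spec (CommRingCat.of k))]
  [Smooth (X ↘ Spec (CommRingCat.of k))] [Infinite k]

/-- The degree on an integral curve is an intersection number with its ideal. -/
theorem exists_curveDeg_eq (hdim : topologicalKrullDim X = 2) {Y : Scheme.{u}} (i : Y ⟶ X)
    [IsClosedImmersion i] (hY : IsIntegral Y) (hYd : topologicalKrullDim Y = 1) :
    ∃ C : X.IdealSheafData, IsIntegral C.subscheme ∧ topologicalKrullDim (C.support : Set X) = 1 ∧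
      PicF.IsInvertible (_root_.ClSub.idealMod C) ∧ ∀ L : X.Modules, PicF.IsInvertible L →
      Pic13.curveDeg k (i ≫ (X ↘ Spec (CommRingCat.of k))) ((Scheme.Modules.pullback i).obj L) =
        - FGA.intNum k X 2 ![_root_.ClSub.idealMod C, L] (Coh.structureModule X) := by
  haveI : IsIso i.toImage := inferInstance
  haveI : IsIntegral i.image :=
    haveI : Nonempty i.image := ⟨i.toImage (Classical.arbitrary Y)⟩
    isIntegral_of_isOpenImmersion (CategoryTheory.inv i.toImage)
  have hsupp : topologicalKrullDim (i.ker.support : Set X) = 1 := by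
    rw [← Surface.dim_subscheme, ← hYd]
    exact (IsHomeomorph.topologicalKrullDim_eq _
      (Scheme.homeoOfIso (asIso i.toImage)).isHomeomorph).symm
  haveI : IsIntegral i.ker.subscheme := ‹IsIntegral i.image›
  have hI := Effective.isInvertible_idealMod (Curve.isEffCartier (X ↘ Spec (CommRingCat.of k)) hdim
    (NegDef.regular_of_smooth (k := k)) i.ker hsupp)
  refine ⟨i.ker, ‹_›, hsupp, hI, fun L hL => ?_⟩
  letI : Y.Over (Spec (CommRingCat.of k)) := ⟨i ≫ (X ↘ Spec (CommRingCat.of k))⟩
  letI : i.image.Over (Spec (CommRingCat.of k)) := Surface.overSub (k := k) i.ker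
  haveI : IsLocallyNoetherian Y := LocallyOfFiniteType.isLocallyNoetherian i
  haveI : CompactSpace Y := QuasiCompact.compactSpace_of_compactSpace i
  haveI : IsNoetherian Y := ⟨⟩
  rw [Surface.intNum_ideal_eq_neg_deg (Finite.cohFinite k X) (d := 2) hdim.le hI hL, neg_neg,
    ← PushIso.deg_pullback i.toImage (k := k)
      (show i.toImage ≫ i.imageι ≫ (X ↘ Spec (CommRingCat.of k)) = _ by
        rw [i.toImage_imageι_assoc]; rfl)
      (PicLoc.isInvertible_pullback i.imageι hL)]
  have he := Curves.Euler.euler_eq_of_iso (k := k)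
    ((Scheme.Modules.pullbackComp i.toImage i.imageι).app L ≪≫
      (Scheme.Modules.pullbackCongr i.toImage_imageι).app L)
  unfold Pic13.curveDeg Curv2.deg
  rw [show Curv2.euler k Y ((Scheme.Modules.pullback i.toImage).obj
      ((Scheme.Modules.pullback i.imageι).obj L)) = _ from he,
    Chi.euler_eq_eulerCharLE (d := 1) hYd.le, Chi.euler_eq_eulerCharLE (d := 1) hYd.le]
  push_cast
  ring

/-- An invertible module orthogonal to everything is numerically trivial. -/
theorem isNumEquivZero (hdim : topologicalKrullDim X = 2) {L : X.Modules} (hL : PicF.IsInvertible L)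
    (h : ∀ M : X.Modules, PicF.IsInvertible M →
      FGA.intNum k X 2 ![L, M] (Coh.structureModule X) = 0) : Pic13.IsNumEquivZero k X L := by
  intro Y i _ hY hYd
  obtain ⟨C, -, -, hI, hC⟩ := exists_curveDeg_eq (k := k) hdim i hY hYd
  rw [hC L hL, IntNum.intNum_pair_comm, h _ hI, neg_zero]

variable [PicGrp.Law X] (hdim : topologicalKrullDim X = 2)
  {B : NumR.N1R k X →ₗ[ℝ] NumR.N1R k X →ₗ[ℝ] ℝ} (hB : NumR.IsIntForm₂ k X B)

include hdim hB

theorem symm (x y : NumR.N1R k X) : B x y = B y x := by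
  have : B = B.flip := by
    refine NumR.isIntForm₂_unique hB fun L M hL hM => ?_
    rw [LinearMap.flip_apply, hB M L hM hL, IntNum.intNum_pair_comm]
  exact LinearMap.congr_fun₂ this x y

theorem exists_int (z w : NumR.N1 k X) :
    ∃ n : ℤ, B (NumR.toN1R k X z) (NumR.toN1R k X w) = n := by
  obtain ⟨L, hL, rfl⟩ := NumR.exists_eq_cl z
  obtain ⟨M, hM, rfl⟩ := NumR.exists_eq_cl w
  exact ⟨_, hB L M hL hM⟩

/-- The discriminant inequality on integral classes. -/
theorem disc_int {H : X.Modules} (hH : CohB1.IsAmple H) (z : NumR.N1 k X) :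
    B (NumR.toN1R k X z) (NumR.toN1R k X z) * B (NumR.clR k X H hH.1) (NumR.clR k X H hH.1) -
      B (NumR.toN1R k X z) (NumR.clR k X H hH.1) ^ 2 ≤ 0 := by
  have hfin := Finite.cohFinite k X
  have hreg := NegDef.regular_of_smooth (k := k) (X := X)
  have hO := Twist.isCoh_structureModule X
  obtain ⟨L, hL, rfl⟩ := NumR.exists_eq_cl z
  rw [← NumR.clR_def, hB L L hL hL, hB H H hH.1 hH.1, hB L H hL hH.1]
  set a := FGA.intNum k X 2 ![L, L] (Coh.structureModule X)
  set x := FGA.intNum k X 2 ![L, H] (Coh.structureModule X) with hx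
  set d := FGA.intNum k X 2 ![H, H] (Coh.structureModule X) with hd
  obtain ⟨N₁, hN₁, hP₁⟩ := ProjSurf.exists_zsmul (k := k) hdim hL d
  obtain ⟨N₂, hN₂, hP₂⟩ := ProjSurf.exists_zsmul (k := k) hdim hH.1 (-x)
  have hN := TensorMod.Invertible.isInvertible_tensorMod hN₁ hN₂
  have hlin : ∀ P : X.Modules, PicF.IsInvertible P →
      FGA.intNum k X 2 ![CohB1.tensorMod N₁ N₂, P] (Coh.structureModule X) =
        d * FGA.intNum k X 2 ![L, P] (Coh.structureModule X) +
          -x * FGA.intNum k X 2 ![H, P] (Coh.structureModule X) := fun P hP => by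
    rw [IntNum.intNum_pair_tensor_left hfin hdim.le hN₁ hN₂ hP hO, hP₁ P hP, hP₂ P hP]
  have h0 : FGA.intNum k X 2 ![CohB1.tensorMod N₁ N₂, H] (Coh.structureModule X) = 0 := by
    rw [hlin H hH.1, ← hx, ← hd]; ring
  have h := Hodge.intNum_self_nonpos hfin hdim hreg hN hH h0
  rw [hlin _ hN, IntNum.intNum_pair_comm L (CohB1.tensorMod N₁ N₂),
    IntNum.intNum_pair_comm H (CohB1.tensorMod N₁ N₂), h0, hlin L hL, IntNum.intNum_pair_comm H L,
    ← hx] at h
  have hdpos : 0 < d := self_pos hfin hdim hreg hH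
  have key : d * (a * d - x ^ 2) ≤ d * 0 := by linarith
  exact_mod_cast le_of_mul_le_mul_left key hdpos
where
  self_pos {k : Type u} [Field k] {X : Scheme.{u}} [X.Over (Spec (CommRingCat.of k))]
      [IsIntegral X] [IsNoetherian X] [IsProper (X ↘ Spec (CommRingCat.of k))] [Infinite k]
      (hfin : Chi.CohFinite k X) (hdim : topologicalKrullDim X = 2)
      (hreg : ∀ x : X, IsRegularLocalRing (X.presheaf.stalk x))
      {H : X.Modules} (hH : CohB1.IsAmple H) :
      0 < FGA.intNum k X 2 ![H, H] (Coh.structureModule X) := by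
    obtain ⟨C, hC, hCd⟩ := Hodge.exists_curve (X ↘ Spec (CommRingCat.of k)) hdim
    haveI := hC
    have hCe := Curve.isEffCartier (X ↘ Spec (CommRingCat.of k)) hdim hreg C hCd
    have hI := Effective.isInvertible_idealMod hCe
    have hneg := Surface.intNum_ample_neg hfin hdim hreg C hCd hH
    by_contra hle
    obtain ⟨m, hm, s₁, s₂, hs₁, -, -⟩ :=
      Hodge.exists_two_sections (X ↘ Spec (CommRingCat.of k)) hdim hH
    obtain ⟨m, rfl⟩ : ∃ m', m = m' + 1 := ⟨m - 1, by omega⟩
    have hH'i := TensorMod.Invertible.isInvertible_tensorPow hH.1 (m + 1)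
    have hH'a := (Ample.Pow.isAmple_tensorPow_iff hH.1 hm).mp hH
    obtain ⟨hD, -, -, -⟩ := Div.divisor_spec hH'i s₁ hs₁
    have h := Bound.intNum_zeroScheme hfin hdim hH'i s₁ hs₁ hH'i
    rw [Hodge.intNum_pow_left hfin hdim hH.1 hH'i m, IntNum.intNum_pair_comm H,
      Hodge.intNum_pow_left hfin hdim hH.1 hH.1 m] at h
    by_cases hne : PicF2.zeroScheme _ s₁ = ⊤
    · have h1 := Bound.intNum_zeroScheme hfin hdim hH'i s₁ hs₁ hI
      rw [hne, NegDef.intNum_top hfin hdim hI, Hodge.intNum_pow_left hfin hdim hH.1 hI m,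
        IntNum.intNum_pair_comm] at h1
      have : (0 : ℤ) < ((m + 1 : ℕ) : ℤ) := by positivity
      nlinarith
    · have h2 := NegDef.intNum_eff_ample_neg hfin hdim hreg hH'a hD hne
      have : (0 : ℤ) < ((m + 1 : ℕ) : ℤ) := by positivity
      have : ((m + 1 : ℕ) : ℤ) * (((m + 1 : ℕ) : ℤ) *
          FGA.intNum k X 2 ![H, H] (Coh.structureModule X)) ≤ 0 :=
        mul_nonpos_of_nonneg_of_nonpos this.le (mul_nonpos_of_nonneg_of_nonpos this.le (not_lt.mp hle))
      linarith

/-- The discriminant inequality on all real classes. -/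
theorem disc {H : X.Modules} (hH : CohB1.IsAmple H) (y : NumR.N1R k X) :
    B y y * B (NumR.clR k X H hH.1) (NumR.clR k X H hH.1) - B y (NumR.clR k X H hH.1) ^ 2 ≤ 0 := by
  set h := NumR.clR k X H hH.1
  have hy : y ∈ Submodule.span ℝ (Set.range (NumR.toN1R k X)) := by
    refine (Submodule.span_mono ?_) (NumR.span_clR.ge (Submodule.mem_top : y ∈ ⊤))
    rintro _ ⟨L, hL, rfl⟩
    exact ⟨_, rfl⟩
  obtain ⟨n, r, g, rfl⟩ := Submodule.mem_span_set'.mp hy
  choose z hz using fun i => (g i).2
  let v : Fin n → NumR.N1R k X := fun i => NumR.toN1R k X (z i)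
  let F : (Fin n → ℝ) → ℝ := fun r =>
    (∑ i, r i * ∑ j, r j * B (v i) (v j)) * B h h - (∑ i, r i * B (v i) h) ^ 2
  have hF : ∀ r : Fin n → ℝ, F r =
      B (∑ i, r i • v i) (∑ i, r i • v i) * B h h - B (∑ i, r i • v i) h ^ 2 := by
    intro r
    simp only [F, map_sum, map_smul, LinearMap.sum_apply, LinearMap.smul_apply, smul_eq_mul,
      Finset.mul_sum]
    rw [Finset.sum_comm]
    congr 1
    refine congrArg (fun t : ℝ => t * B h h) ?_
    exact Finset.sum_congr rfl fun x _ => Finset.sum_congr rfl fun y _ => by ring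
  suffices H' : ∀ r, F r ≤ 0 by
    have := H' r
    rw [hF] at this
    simpa [v, hz] using this
  have hcl : IsClosed {r | F r ≤ 0} := isClosed_le (by fun_prop) continuous_const
  have hd : DenseRange (Pi.map fun (_ : Fin n) (q : ℚ) => (q : ℝ)) :=
    DenseRange.piMap fun _ => Rat.denseRange_cast
  intro r
  refine hd.induction_on r hcl fun q => ?_
  let N : ℕ := ∏ i, (q i).den
  have hN : 0 < N := Finset.prod_pos fun i _ => (q i).den_pos
  have hm : ∀ i, ∃ m : ℤ, ((q i : ℚ) : ℝ) * N = m := fun i => by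
    refine ⟨(q i).num * ∏ j ∈ Finset.univ.erase i, ((q j).den : ℤ), ?_⟩
    simp only [N]
    rw [← Finset.mul_prod_erase _ _ (Finset.mem_univ i)]
    push_cast
    rw [← mul_assoc, Rat.cast_def, div_mul_cancel₀ _ (by exact_mod_cast (q i).den_ne_zero)]
  choose m hm using hm
  have key := disc_int hdim hB hH (∑ i, m i • z i)
  have e : NumR.toN1R k X (∑ i, m i • z i) = (N : ℝ) • ∑ i, ((q i : ℚ) : ℝ) • v i := by
    rw [Finset.smul_sum, map_sum]
    refine Finset.sum_congr rfl fun i _ => ?_
    rw [smul_smul, mul_comm, hm i, map_zsmul, Int.cast_smul_eq_zsmul]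
  rw [e] at key
  simp only [map_smul, LinearMap.smul_apply, smul_eq_mul] at key
  show F _ ≤ 0
  rw [hF]
  simp only [Pi.map_apply]
  by_contra hc
  have hN' : (0 : ℝ) < (N : ℝ) ^ 2 := by positivity
  nlinarith [mul_pos hN' (not_le.mp hc)]

/-- Nonzero classes pair nonzero with some class. -/
theorem eq_zero_of_forall (y : NumR.N1R k X) (hy : ∀ z, B y z = 0) : y = 0 := by
  have hy' : y ∈ Submodule.span ℝ (Set.range (NumR.toN1R k X)) := by
    refine (Submodule.span_mono ?_) (NumR.span_clR.ge (Submodule.mem_top : y ∈ ⊤))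
    rintro _ ⟨L, hL, rfl⟩
    exact ⟨_, rfl⟩
  obtain ⟨n, r, g, rfl⟩ := Submodule.mem_span_set'.mp hy'
  choose z hz using fun i => (g i).2
  -- a rational basis of the span of the coefficients
  let V := Submodule.span ℚ (Set.range r)
  haveI : Module.Finite ℚ V := Module.Finite.span_of_finite ℚ (Set.finite_range r)
  let b := Module.finBasis ℚ V
  let q : Fin n → Fin (Module.finrank ℚ V) → ℚ := fun i l =>
    b.repr ⟨r i, Submodule.subset_span ⟨i, rfl⟩⟩ l
  let β : Fin (Module.finrank ℚ V) → ℝ := fun l => ((b l : V) : ℝ)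
  have hr : ∀ i, r i = ∑ l, (q i l : ℝ) * β l := fun i => by
    have h := congrArg (fun v : V => (v : ℝ)) (b.sum_repr ⟨r i, Submodule.subset_span ⟨i, rfl⟩⟩)
    simp only [Submodule.coe_sum, Submodule.coe_smul, Rat.smul_def] at h
    exact h.symm
  have hβ : LinearIndependent ℚ β := b.linearIndependent.map' V.subtype V.ker_subtype
  let N : ℕ := ∏ i, ∏ l, (q i l).den
  have hN : 0 < N := Finset.prod_pos fun i _ => Finset.prod_pos fun l _ => (q i l).den_pos
  have hm : ∀ i l, ∃ m : ℤ, (q i l : ℝ) * N = m := fun i l => by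
    refine ⟨(q i l).num * ((∏ l' ∈ Finset.univ.erase l, ((q i l').den : ℤ)) *
      ∏ j ∈ Finset.univ.erase i, ∏ l', ((q j l').den : ℤ)), ?_⟩
    simp only [N]
    rw [← Finset.mul_prod_erase _ _ (Finset.mem_univ i),
      ← Finset.mul_prod_erase _ _ (Finset.mem_univ l)]
    push_cast
    rw [← mul_assoc ((q i l).num : ℝ), ← mul_assoc ((q i l : ℝ)), ← mul_assoc ((q i l : ℝ)),
      Rat.cast_def, div_mul_cancel₀ _ (by exact_mod_cast (q i l).den_ne_zero)]
  choose m hm using hm
  let w : Fin (Module.finrank ℚ V) → NumR.N1 k X := fun l => ∑ i, m i l • z i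
  have hsum : (N : ℝ) • ∑ i, r i • ((g i : NumR.N1R k X)) = ∑ l, β l • NumR.toN1R k X (w l) := by
    simp only [w, map_sum, map_zsmul, Finset.smul_sum]
    rw [Finset.sum_comm]
    refine Finset.sum_congr rfl fun i _ => ?_
    rw [← hz i, hr i, Finset.sum_smul, Finset.smul_sum]
    refine Finset.sum_congr rfl fun l _ => ?_
    rw [← Int.cast_smul_eq_zsmul ℝ, smul_smul, smul_smul, ← hm i l]
    congr 1
    ring
  have hw : ∀ l, w l = 0 := by
    intro l
    obtain ⟨L, hL, hwl⟩ := NumR.exists_eq_cl (w l)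
    rw [hwl]
    refine NumR.cl_eq_zero hL (isNumEquivZero (k := k) hdim hL fun M hM => ?_)
    choose c hc using fun l => exists_int hdim hB (w l) (NumR.cl k X M hM)
    have h0 : ∑ l, ((c l : ℤ) : ℚ) • β l = 0 := by
      have h := congrArg (fun v => B v (NumR.toN1R k X (NumR.cl k X M hM))) hsum
      simp only [map_smul, map_sum, LinearMap.sum_apply, LinearMap.smul_apply, smul_eq_mul,
        hc] at h
      have hy0 := hy (NumR.toN1R k X (NumR.cl k X M hM))
      simp only [map_smul, map_sum, LinearMap.sum_apply, LinearMap.smul_apply, smul_eq_mul] at hy0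
      rw [hy0, mul_zero] at h
      rw [← h.symm]
      exact Finset.sum_congr rfl fun l _ => by rw [Rat.smul_def]; push_cast; ring
    have hl : ((c l : ℤ) : ℚ) = 0 := Fintype.linearIndependent_iff.mp hβ _ h0 l
    have e := hc l
    rw [hwl, ← NumR.clR_def, ← NumR.clR_def, hB L M hL hM] at e
    have : c l = 0 := by exact_mod_cast hl
    rw [this] at e
    exact_mod_cast e
  have h0 : (N : ℝ) • ∑ i, r i • ((g i : NumR.N1R k X)) = 0 := by
    rw [hsum]
    exact Finset.sum_eq_zero fun l _ => by rw [hw l, map_zero, smul_zero]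
  exact (smul_eq_zero.mp h0).resolve_left (by exact_mod_cast hN.ne')

variable {H : X.Modules} (hH : CohB1.IsAmple H)

include hH

theorem self_pos : 0 < B (NumR.clR k X H hH.1) (NumR.clR k X H hH.1) := by
  rw [hB H H hH.1 hH.1]
  exact_mod_cast disc_int.self_pos (Finite.cohFinite k X) hdim (NegDef.regular_of_smooth (k := k)) hH

/-- The Hodge index theorem for real classes. -/
theorem nonpos_of_orth {y : NumR.N1R k X} (h : B y (NumR.clR k X H hH.1) = 0) : B y y ≤ 0 := by
  have hd := disc hdim hB hH y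
  rw [h] at hd
  have := self_pos hdim hB hH
  by_contra hc
  nlinarith [mul_pos (not_le.mp hc) this]

theorem ne_zero_of_pos {x : NumR.N1R k X} (hx : 0 < B x x) : B x (NumR.clR k X H hH.1) ≠ 0 :=
  fun h => absurd (nonpos_of_orth hdim hB hH h) (not_le.mpr hx)

/-- Negative semidefiniteness on the orthogonal of any class of positive square. -/
theorem nonpos_of_orth_pos {x y : NumR.N1R k X} (hx : 0 < B x x) (h : B x y = 0) : B y y ≤ 0 := by
  by_contra hc
  set hc' := NumR.clR k X H hH.1
  have hv : B (B y hc' • x - B x hc' • y) hc' = 0 := by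
    simp only [map_sub, map_smul, LinearMap.sub_apply, LinearMap.smul_apply, smul_eq_mul]
    ring
  have h1 := nonpos_of_orth hdim hB hH hv
  simp only [map_sub, map_smul, LinearMap.sub_apply, LinearMap.smul_apply, smul_eq_mul,
    symm hdim hB y x, h] at h1
  have ha : 0 < B x hc' ^ 2 := by
    have := ne_zero_of_pos hdim hB hH hx
    positivity
  nlinarith [mul_pos ha (not_le.mp hc), mul_nonneg (sq_nonneg (B y hc')) hx.le]

/-- Two classes of the forward cone pair positively. -/
theorem pos_of_mem {x y : NumR.N1R k X} (hx : 0 < B x x) (hxh : 0 < B x (NumR.clR k X H hH.1))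
    (hy : 0 ≤ B y y) (hyh : 0 < B y (NumR.clR k X H hH.1)) : 0 < B x y := by
  set hc' := NumR.clR k X H hH.1
  have hv : B (B y hc' • x - B x hc' • y) hc' = 0 := by
    simp only [map_sub, map_smul, LinearMap.sub_apply, LinearMap.smul_apply, smul_eq_mul]
    ring
  have h1 := nonpos_of_orth hdim hB hH hv
  simp only [map_sub, map_smul, LinearMap.sub_apply, LinearMap.smul_apply, smul_eq_mul,
    symm hdim hB y x] at h1
  nlinarith [mul_pos (pow_pos hyh 2) hx, mul_nonneg (sq_nonneg (B x hc')) hy, mul_pos hxh hyh]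

/-- An isotropic class orthogonal to a class of positive square vanishes. -/
theorem eq_zero_of_orth {x y : NumR.N1R k X} (hx : 0 < B x x) (hy : 0 ≤ B y y) (h : B x y = 0) :
    y = 0 := by
  have hyy : B y y = 0 := le_antisymm (nonpos_of_orth_pos hdim hB hH hx h) hy
  refine eq_zero_of_forall hdim hB y fun z => ?_
  set w := z - (B x z / B x x) • x with hw
  have hxw : B x w = 0 := by
    simp only [hw, map_sub, map_smul, smul_eq_mul]
    field_simp
    ring
  have hyz : B y w = B y z := by
    simp only [hw, map_sub, map_smul, smul_eq_mul, symm hdim hB y x, h]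
    ring
  rw [← hyz]
  have hq : ∀ t : ℝ, 2 * t * B y w + t ^ 2 * B w w ≤ 0 := fun t => by
    have := nonpos_of_orth_pos hdim hB hH hx (y := y + t • w) (by simp [h, hxw])
    simp only [map_add, map_smul, LinearMap.add_apply, LinearMap.smul_apply, smul_eq_mul, hyy,
      symm hdim hB w y] at this
    linarith
  by_contra hne
  have hq1 := hq (B y w / (|B w w| + 1))
  have hpos : (0 : ℝ) < |B w w| + 1 := by positivity
  have e : 2 * (B y w / (|B w w| + 1)) * B y w + (B y w / (|B w w| + 1)) ^ 2 * B w w =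
      B y w ^ 2 / (|B w w| + 1) ^ 2 * (2 * (|B w w| + 1) + B w w) := by
    field_simp
  rw [e] at hq1
  have : 0 < B y w ^ 2 / (|B w w| + 1) ^ 2 * (2 * (|B w w| + 1) + B w w) := by
    have := neg_abs_le (B w w)
    have h2 : 0 < B y w ^ 2 := by positivity
    have h3 : 0 < 2 * (|B w w| + 1) + B w w := by linarith [abs_nonneg (B w w)]
    positivity
  linarith

end Groth.Agent.Lib.SurfInt.ConeForm
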