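import Groth.Agent.Lib.SurfInt.Nakai
import Groth.Agent.Lib.SurfInt.ProjSurf
import Groth.Agent.Lib.SurfInt.ConeForm

/-!
# Nef invertible modules on a surface, in integers
-/

set_option autoImplicit false
set_option linter.style.haveILetI false
universe u

open CategoryTheory CategoryTheory.Limits AlgebraicGeometry TopologicalSpace

namespace Groth.Agent.Lib.SurfInt.NefInt

open Groth.Agent.Lib Groth.Agent.Lib.Snapper

noncomputable section

variable {k : Type u} [Field k] {X : Scheme.{u}} [X.Over (Spec (CommRingCat.of k))]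
  [IsIntegral X] [IsNoetherian X] [IsProper (X ↘ Spec (CommRingCat.of k))]
  (hdim : topologicalKrullDim X = 2)

include hdim

/-- An integral combination of two classes. -/
theorem exists_comb {L L' : X.Modules} (hL : PicF.IsInvertible L) (hL' : PicF.IsInvertible L')
    (a b : ℤ) : ∃ M : X.Modules, PicF.IsInvertible M ∧ ∀ P : X.Modules, PicF.IsInvertible P →
      FGA.intNum k X 2 ![M, P] (Coh.structureModule X) =
        a * FGA.intNum k X 2 ![L, P] (Coh.structureModule X) +
          b * FGA.intNum k X 2 ![L', P] (Coh.structureModule X) := by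
  obtain ⟨A, hA, hA'⟩ := ProjSurf.exists_zsmul (k := k) hdim hL a
  obtain ⟨B, hB, hB'⟩ := ProjSurf.exists_zsmul (k := k) hdim hL' b
  exact ⟨_, TensorMod.Invertible.isInvertible_tensorMod hA hB, fun P hP => by
    rw [IntNum.intNum_pair_tensor_left (Finite.cohFinite k X) hdim.le hA hB hP
      (Twist.isCoh_structureModule X), hA' P hP, hB' P hP]⟩

theorem sq_comb {L L' M : X.Modules} (hL : PicF.IsInvertible L) (hL' : PicF.IsInvertible L')
    (hM : PicF.IsInvertible M) (a b : ℤ)
    (h : ∀ P : X.Modules, PicF.IsInvertible P →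
      FGA.intNum k X 2 ![M, P] (Coh.structureModule X) =
        a * FGA.intNum k X 2 ![L, P] (Coh.structureModule X) +
          b * FGA.intNum k X 2 ![L', P] (Coh.structureModule X)) :
    FGA.intNum k X 2 ![M, M] (Coh.structureModule X) =
      a ^ 2 * FGA.intNum k X 2 ![L, L] (Coh.structureModule X) +
        2 * a * b * FGA.intNum k X 2 ![L, L'] (Coh.structureModule X) +
          b ^ 2 * FGA.intNum k X 2 ![L', L'] (Coh.structureModule X) := by
  rw [h M hM, IntNum.intNum_pair_comm L M, h L hL, IntNum.intNum_pair_comm L' M, h L' hL',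
    IntNum.intNum_pair_comm L' L]
  ring

variable [Smooth (X ↘ Spec (CommRingCat.of k))]

/-- A module nonnegative on curves is nonnegative on effective divisors. -/
theorem nonneg_effective {N : X.Modules} (hN : PicF.IsInvertible N)
    (hnef : ∀ C : X.IdealSheafData, IsIntegral C.subscheme →
      topologicalKrullDim (C.support : Set X) = 1 →
        FGA.intNum k X 2 ![_root_.ClSub.idealMod C, N] (Coh.structureModule X) ≤ 0)
    {F : X.IdealSheafData} (hF : BlowUp.IsEffCartierIdeal F) :
    FGA.intNum k X 2 ![_root_.ClSub.idealMod F, N] (Coh.structureModule X) ≤ 0 := by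
  have hfin := Finite.cohFinite k X
  have hreg := NegDef.regular_of_smooth (k := k) (X := X)
  exact Mul.induction (X ↘ Spec (CommRingCat.of k)) hdim hreg
    (P := fun G => FGA.intNum k X 2 ![_root_.ClSub.idealMod G, N] (Coh.structureModule X) ≤ 0)
    (NegDef.intNum_top hfin hdim hN).le
    (fun C hint G hCd hG ih => by
      rw [NegDef.intNum_mul hfin hdim (NegDef.isEff hfin hdim hreg C hCd) hG hN]
      linarith [hnef C hint hCd]) hF

/-- A module nonnegative on curves is nonnegative against ample modules. -/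
theorem nonneg_ample {N : X.Modules} (hN : PicF.IsInvertible N)
    (hnef : ∀ C : X.IdealSheafData, IsIntegral C.subscheme →
      topologicalKrullDim (C.support : Set X) = 1 →
        FGA.intNum k X 2 ![_root_.ClSub.idealMod C, N] (Coh.structureModule X) ≤ 0)
    [Infinite k] {H : X.Modules} (hH : CohB1.IsAmple H) :
    0 ≤ FGA.intNum k X 2 ![H, N] (Coh.structureModule X) := by
  have hfin := Finite.cohFinite k X
  obtain ⟨m, hm, s, -, hs, -, -⟩ :=
    Hodge.exists_two_sections (X ↘ Spec (CommRingCat.of k)) hdim hH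
  obtain ⟨m, rfl⟩ : ∃ m', m = m' + 1 := ⟨m - 1, by omega⟩
  have hHm := TensorMod.Invertible.isInvertible_tensorPow hH.1 (m + 1)
  obtain ⟨hD, -, -, -⟩ := Div.divisor_spec hHm s hs
  have h := Bound.intNum_zeroScheme hfin hdim hHm s hs hN
  rw [Hodge.intNum_pow_left hfin hdim hH.1 hN m] at h
  have h' := nonneg_effective hdim hN hnef hD
  rw [h] at h'
  exact nonneg_of_mul_nonneg_right (neg_nonpos.mp h') (Int.natCast_pos.mpr m.succ_pos)

variable [IsAlgClosed k]

/-- A nef module has nonnegative square. -/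
theorem sq_nonneg_of_nef {N H : X.Modules} (hN : PicF.IsInvertible N) (hH : CohB1.IsAmple H)
    (hnef : ∀ C : X.IdealSheafData, IsIntegral C.subscheme →
      topologicalKrullDim (C.support : Set X) = 1 →
        FGA.intNum k X 2 ![_root_.ClSub.idealMod C, N] (Coh.structureModule X) ≤ 0) :
    0 ≤ FGA.intNum k X 2 ![N, N] (Coh.structureModule X) := by
  classical
  have hfin := Finite.cohFinite k X
  have hreg := NegDef.regular_of_smooth (k := k) (X := X)
  by_contra hneg
  have hd := ConeForm.disc_int.self_pos hfin hdim hreg hH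
  have hA := nonneg_ample hdim hN hnef hH
  rw [IntNum.intNum_pair_comm] at hA
  set s := FGA.intNum k X 2 ![N, N] (Coh.structureModule X)
  set A := FGA.intNum k X 2 ![N, H] (Coh.structureModule X)
  set d := FGA.intNum k X 2 ![H, H] (Coh.structureModule X)
  -- `b N + a H` for `b` large and the least `a` with positive square
  set b : ℤ := A + 1 with hb
  have hbpos : 0 < b := by omega
  let P : ℕ → Prop := fun a => 0 < b ^ 2 * s + 2 * b * a * A + (a : ℤ) ^ 2 * d
  have hex : ∃ a, P a := by
    refine ⟨(b ^ 2 * (-s) + 1).toNat, ?_⟩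
    have hn : (((b ^ 2 * (-s) + 1).toNat : ℕ) : ℤ) = b ^ 2 * (-s) + 1 :=
      Int.toNat_of_nonneg (by nlinarith)
    simp only [P, hn]
    have h1 : 1 ≤ b ^ 2 * (-s) + 1 := by nlinarith
    have h2 : b ^ 2 * (-s) + 1 ≤ (b ^ 2 * (-s) + 1) ^ 2 * d := by nlinarith
    have h3 : 0 ≤ 2 * b * (b ^ 2 * (-s) + 1) * A := by positivity
    linarith
  set a := Nat.find hex with ha
  have hPa : P a := Nat.find_spec hex
  have ha0 : a ≠ 0 := fun h0 => by
    simp only [P, h0, Nat.cast_zero] at hPa
    nlinarith
  obtain ⟨c, hc⟩ : ∃ c, a = c + 1 := ⟨a - 1, by omega⟩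
  have hPc : ¬ P c := Nat.find_min hex (by omega)
  obtain ⟨M, hM, hlin⟩ := exists_comb (k := k) hdim hN hH.1 b a
  have hMM : 0 < FGA.intNum k X 2 ![M, M] (Coh.structureModule X) := by
    rw [sq_comb hdim hN hH.1 hM b a hlin]
    exact hPa
  have hMa : CohB1.IsAmple M := Nakai.isAmple (k := k) hdim hreg hH hM hMM fun C hC hCd => by
    haveI := hC
    have hI := Effective.isInvertible_idealMod (NegDef.isEff hfin hdim hreg C hCd)
    rw [IntNum.intNum_pair_comm, hlin _ hI, IntNum.intNum_pair_comm N, IntNum.intNum_pair_comm H]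
    have h1 := hnef C hC hCd
    have h2 := Surface.intNum_ample_neg hfin hdim hreg C hCd hH
    have h3 : (0 : ℤ) < a := by omega
    nlinarith
  have hMN := nonneg_ample hdim hN hnef hMa
  rw [hlin N hN, IntNum.intNum_pair_comm H N] at hMN
  refine hPc ?_
  simp only [P]
  have hca : (a : ℤ) = c + 1 := by exact_mod_cast hc
  rw [hca] at hMN
  rcases Nat.eq_zero_or_pos c with h0 | hpos
  · subst h0
    exfalso
    rw [hb] at hMN
    simp only [Nat.cast_zero, zero_add, one_mul] at hMN
    nlinarith
  · have hc' : (0 : ℤ) < c := by exact_mod_cast hpos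
    nlinarith [mul_nonneg hbpos.le hMN, mul_pos (mul_pos hc' hc') hd,
      mul_nonneg (mul_nonneg hbpos.le (by omega : (0 : ℤ) ≤ (c : ℤ) - 1)) hA]

/-- Hodge index: a nef module orthogonal to a class of positive square is numerically trivial. -/
theorem eq_zero_of_orth {D N H : X.Modules} (hD : PicF.IsInvertible D) (hN : PicF.IsInvertible N)
    (hH : CohB1.IsAmple H)
    (hnef : ∀ C : X.IdealSheafData, IsIntegral C.subscheme →
      topologicalKrullDim (C.support : Set X) = 1 →
        FGA.intNum k X 2 ![_root_.ClSub.idealMod C, N] (Coh.structureModule X) ≤ 0)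
    (hDD : 0 < FGA.intNum k X 2 ![D, D] (Coh.structureModule X))
    (hDN : FGA.intNum k X 2 ![D, N] (Coh.structureModule X) = 0)
    {P : X.Modules} (hP : PicF.IsInvertible P) :
    FGA.intNum k X 2 ![P, N] (Coh.structureModule X) = 0 := by
  have hNN : FGA.intNum k X 2 ![N, N] (Coh.structureModule X) = 0 :=
    le_antisymm (ProjSurf.intNum_nonpos_of_pos (k := k) hdim hH hD hN hDD hDN)
      (sq_nonneg_of_nef hdim hN hH hnef)
  set d := FGA.intNum k X 2 ![D, D] (Coh.structureModule X) with hd
  set p := FGA.intNum k X 2 ![D, P] (Coh.structureModule X) with hp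
  obtain ⟨W, hW, hWlin⟩ := exists_comb (k := k) hdim hP hD d (-p)
  have hDW : FGA.intNum k X 2 ![D, W] (Coh.structureModule X) = 0 := by
    rw [IntNum.intNum_pair_comm, hWlin D hD, IntNum.intNum_pair_comm P D, ← hp, ← hd]
    ring
  set w := FGA.intNum k X 2 ![W, W] (Coh.structureModule X) with hw
  set q := FGA.intNum k X 2 ![W, N] (Coh.structureModule X) with hq
  have hall : ∀ t : ℤ, 2 * t * q + w ≤ 0 := by
    intro t
    obtain ⟨M, hM, hMlin⟩ := exists_comb (k := k) hdim hW hN 1 t
    have h0 : FGA.intNum k X 2 ![D, M] (Coh.structureModule X) = 0 := by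
      rw [IntNum.intNum_pair_comm, hMlin D hD, IntNum.intNum_pair_comm W, hDW,
        IntNum.intNum_pair_comm N, hDN]
      ring
    have h := ProjSurf.intNum_nonpos_of_pos (k := k) hdim hH hD hM hDD h0
    rw [sq_comb hdim hW hN hM 1 t hMlin, hNN] at h
    linarith
  have hq0 : q = 0 := by
    by_contra hne
    have h1 := hall ((|w| + 1) * q)
    have h2 : 1 ≤ q ^ 2 := by nlinarith [mul_self_pos.mpr hne]
    have h3 : 2 * (|w| + 1) * 1 ≤ 2 * (|w| + 1) * q ^ 2 :=
      mul_le_mul_of_nonneg_left h2 (by positivity)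
    nlinarith [neg_abs_le w, abs_nonneg w]
  rw [hq, hWlin N hN, hDN, mul_zero, add_zero] at hq0
  exact (mul_eq_zero.mp hq0).resolve_left hDD.ne'

end

end Groth.Agent.Lib.SurfInt.NefInt
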