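import Groth.Agent.Lib.SurfInt.Seq
import Groth.Agent.H95.ZeroSch
import Groth.Agent.Lib.Ample.GenLocus
import Groth.Agent.Lib.CurveBundle.Twist

/-!
# The divisor of a nonzero section of an invertible module
-/

set_option autoImplicit false
set_option linter.style.haveILetI false
universe u

open CategoryTheory CategoryTheory.Limits AlgebraicGeometry TopologicalSpace
open scoped TensorProduct

namespace Groth.Agent.Lib.SurfInt.Div

open Groth.Agent.Lib Groth.Agent.Lib.Modules Groth.Agent.Lib.SurfInt.Stalk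
open Groth.Agent.Lib.Ideal.Prime (stalkIdeal stalkIdeal_eq)
open Groth.Agent.Lib.TensorMod.Basic (tmap)
open Groth.Agent.Lib.TensorMod.Dual (rs)

noncomputable section

variable {X : Scheme.{u}}

/-- `L ⊗ I ⟶ L`, multiplication. -/
def gMap (I : X.IdealSheafData) (L : X.Modules) :
    CohB1.tensorMod L (_root_.ClSub.idealMod I) ⟶ L :=
  (TensorMod.Basic.comm L (_root_.ClSub.idealMod I)).hom ≫ act (_root_.ClSub.idealModι I) L

theorem mono_gMap (I : X.IdealSheafData) {L : X.Modules} (hL : PicF.IsInvertible L) :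
    Mono (gMap I L) := by
  haveI : Mono (tmap (_root_.ClSub.idealModι I) (𝟙 L)) :=
    (CurveBundle.Twist.shortExact hL (ClSub.Quot.idealSeq_shortExact I)).mono_f
  unfold gMap act
  infer_instance

/-- The image of `gMap I L` at `x` is `I_x L_x`. -/
theorem mem_range_gMap_iff (I : X.IdealSheafData) {L : X.Modules} (x : X)
    {e : L.presheaf.stalk x} (he : Submodule.span (X.presheaf.stalk x) {e} = ⊤)
    (v : L.presheaf.stalk x) :
    (∃ z, StalkModule.stalkMapₗ (gMap I L) x z = v) ↔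
      ∃ r ∈ stalkIdeal I x, r • e = v := by
  let T : (CohB1.tensorMod (_root_.ClSub.idealMod I) L).presheaf.stalk x ≃ₗ[X.presheaf.stalk x]
      (_root_.ClSub.idealMod I).presheaf.stalk x ⊗[X.presheaf.stalk x] L.presheaf.stalk x :=
    DerivedOX.TensorSheaf.tensorStalk x (_root_.ClSub.idealMod I) L
  have hbij := (StalkModule.isIso_iff_stalkMapₗ_bijective
    (TensorMod.Basic.comm L (_root_.ClSub.idealMod I)).hom).mp inferInstance x
  constructor
  · rintro ⟨z, rfl⟩
    rw [gMap, StalkModule.stalkMapₗ_comp, LinearMap.comp_apply]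
    generalize StalkModule.stalkMapₗ (TensorMod.Basic.comm L _).hom x z = w
    obtain ⟨t, rfl⟩ := T.symm.surjective w
    induction t using TensorProduct.induction_on with
    | zero => exact ⟨0, zero_mem _, by rw [zero_smul, map_zero, map_zero]⟩
    | tmul a b =>
      obtain ⟨c, hc⟩ := Submodule.mem_span_singleton.mp
        (he.ge (Submodule.mem_top : b ∈ (⊤ : Submodule (X.presheaf.stalk x) _)))
      refine ⟨idealStalk I x a * c, Ideal.mul_mem_right _ _
        (range_idealStalk I x ▸ LinearMap.mem_range_self _ a), ?_⟩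
      rw [show StalkModule.stalkMapₗ (act _ L) x (T.symm (a ⊗ₜ b)) = idealStalk I x a • b from
        act_stalk _ _ x a b, ← hc, mul_smul]
    | add t t' h h' =>
      obtain ⟨r, hr, e1⟩ := h
      obtain ⟨r', hr', e2⟩ := h'
      exact ⟨r + r', add_mem hr hr', by rw [add_smul, e1, e2, map_add, map_add]⟩
  · rintro ⟨r, hr, rfl⟩
    rw [← range_idealStalk] at hr
    obtain ⟨a, rfl⟩ := hr
    obtain ⟨z, hz⟩ := hbij.2 (T.symm (a ⊗ₜ e))
    refine ⟨z, ?_⟩
    rw [gMap, StalkModule.stalkMapₗ_comp, LinearMap.comp_apply, hz]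
    exact act_stalk _ _ x a e

/-- The germ at `x` of the value of a section. -/
def germOne (L : X.Modules) (s : Coh.structureModule X ⟶ L) (x : X) : L.presheaf.stalk x :=
  StalkModule.stalkMapₗ s x ((oStalk x).symm 1)

theorem range_stalk_section (L : X.Modules) (s : Coh.structureModule X ⟶ L) (x : X)
    (v : L.presheaf.stalk x) :
    (∃ z, StalkModule.stalkMapₗ s x z = v) ↔ ∃ r : X.presheaf.stalk x, r • germOne L s x = v := by
  constructor
  · rintro ⟨z, rfl⟩
    exact ⟨oStalk x z, by rw [germOne, ← map_smul, ← map_smul, smul_eq_mul, mul_one,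
      LinearEquiv.symm_apply_apply]⟩
  · rintro ⟨r, rfl⟩
    exact ⟨r • (oStalk x).symm 1, map_smul _ _ _⟩

theorem germOne_eq (L : X.Modules) (s : Coh.structureModule X ⟶ L) {U : X.Opens} {x : X}
    (hx : x ∈ U) :
    germOne L s x = L.presheaf.germ U x hx (SecTwist.val s U) := by
  have h1 : (oStalk x).symm 1 =
      (Coh.structureModule X).presheaf.germ U x hx (1 : Γ(X, U)) := by
    rw [LinearEquiv.symm_apply_eq, oStalk_germ, map_one]
  rw [germOne, h1, StalkModule.stalkMapₗ_germ]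
  rfl

/-- The germ of a frame spans the stalk freely. -/
theorem span_germ_eq_top {L : X.Modules} {U : X.Opens} {e : Γ(L, U)}
    (he : TensorMod.Gen.IsGen L U e) {x : X} (hx : x ∈ U) :
    Submodule.span (X.presheaf.stalk x) {L.presheaf.germ U x hx e} = ⊤ ∧
      ∀ r : X.presheaf.stalk x, r • L.presheaf.germ U x hx e = 0 → r = 0 := by
  constructor
  · refine eq_top_iff.mpr fun v _ => ?_
    obtain ⟨W, hxW, m, rfl⟩ := TopCat.Presheaf.exists_germ_eq L.presheaf v
    obtain ⟨a, ha⟩ := (he (U ⊓ W) inf_le_left).2 (L.presheaf.map (homOfLE inf_le_right).op m)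
    refine Submodule.mem_span_singleton.mpr
      ⟨X.presheaf.germ (U ⊓ W) x ⟨hx, hxW⟩ a, ?_⟩
    rw [← TopCat.Presheaf.germ_res_apply L.presheaf (homOfLE (inf_le_left : U ⊓ W ≤ U)) x ⟨hx, hxW⟩ e,
      ← TopCat.Presheaf.germ_res_apply L.presheaf (homOfLE (inf_le_right : U ⊓ W ≤ W)) x ⟨hx, hxW⟩ m,
      ← StalkModule.germ_smul]
    exact congrArg _ ha
  · intro r hr
    obtain ⟨W, hxW, a, rfl⟩ := X.presheaf.exists_germ_eq r
    have hxV : x ∈ U ⊓ W := ⟨hx, hxW⟩
    rw [← TopCat.Presheaf.germ_res_apply X.presheaf (homOfLE inf_le_right) x hxV a,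
      ← TopCat.Presheaf.germ_res_apply L.presheaf (homOfLE (inf_le_left : U ⊓ W ≤ U)) x hxV e,
      ← StalkModule.germ_smul] at hr
    rw [← map_zero (L.presheaf.germ (U ⊓ W) x hxV).hom] at hr
    obtain ⟨V, hxV', i, j, hij⟩ := TopCat.Presheaf.germ_eq L.presheaf x hxV hxV _ _ hr
    rw [← TopCat.Presheaf.germ_res_apply X.presheaf (homOfLE inf_le_right) x hxV a,
      ← TopCat.Presheaf.germ_res_apply X.presheaf i x hxV']
    have h0 : (fun b : Γ(X, V) => b • rs L (i.le.trans inf_le_left) e)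
        (X.presheaf.map i.op (X.presheaf.map (homOfLE inf_le_right).op a)) =
        (fun b : Γ(X, V) => b • rs L (i.le.trans inf_le_left) e) 0 := by
      simp only [zero_smul]
      refine Eq.trans ?_ (hij.trans (map_zero _))
      refine Eq.trans (congrArg _ ?_) (Scheme.Modules.map_smul L _ _ _).symm
      exact (TensorMod.Dual.rs_rs L (inf_le_left : U ⊓ W ≤ U) i.le e).symm
    rw [(he V (i.le.trans inf_le_left)).1 h0, map_zero]

variable [IsIntegral X]

/-- In a frame the zero scheme is cut out by the coordinate. -/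
theorem exists_frame_zeroScheme {L : X.Modules} (hL : PicF.IsInvertible L)
    (s : Coh.structureModule X ⟶ L) (hs : s ≠ 0) (x : X) :
    ∃ (F : H95.ZeroSch.Frame L) (_ : x ∈ F.V.1) (a : Γ(X, F.V.1)),
      a ≠ 0 ∧ (PicF2.zeroScheme L s).ideal F.V = _root_.Ideal.span {a} ∧
      SecTwist.val s F.V.1 = a • F.e := by
  obtain ⟨F, hxF, -⟩ := H95.ZeroSch.exists_frame hL (show x ∈ (⊤ : X.Opens) from trivial)
  haveI : Nonempty F.V.1 := ⟨⟨x, hxF⟩⟩
  refine ⟨F, hxF, H95.ZeroSch.coord F (H95.ZeroSch.sv s F.V.1), fun h0 => ?_,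
    H95.ZeroSch.zeroScheme_ideal_eq hL s hs F, (H95.ZeroSch.coord_smul F _).symm⟩
  refine one_ne_zero (H95.ZeroSch.smul_sv_injective hL s hs F.V.1 1 ?_)
  rw [one_smul, ← H95.ZeroSch.coord_smul F (H95.ZeroSch.sv s F.V.1), h0, zero_smul]

/-- The stalks of the zero scheme. -/
theorem exists_stalk_zeroScheme {L : X.Modules} (hL : PicF.IsInvertible L)
    (s : Coh.structureModule X ⟶ L) (hs : s ≠ 0) (x : X) :
    ∃ (e : L.presheaf.stalk x) (c : X.presheaf.stalk x),
      Submodule.span (X.presheaf.stalk x) {e} = ⊤ ∧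
      (∀ r : X.presheaf.stalk x, r • e = 0 → r = 0) ∧ c ≠ 0 ∧
      stalkIdeal (PicF2.zeroScheme L s) x = _root_.Ideal.span {c} ∧ germOne L s x = c • e := by
  obtain ⟨F, hxF, a, ha, hD, hval⟩ := exists_frame_zeroScheme hL s hs x
  haveI : Nonempty F.V.1 := ⟨⟨x, hxF⟩⟩
  obtain ⟨h1, h2⟩ := span_germ_eq_top F.he hxF
  refine ⟨_, X.presheaf.germ F.V.1 x hxF a, h1, h2, fun h0 => ha ?_,
    by rw [stalkIdeal_eq _ F.V hxF, hD, _root_.Ideal.map_span, Set.image_singleton], ?_⟩
  · exact germ_injective_of_isIntegral X x hxF (h0.trans (map_zero _).symm)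
  · rw [germOne_eq L s hxF, hval, StalkModule.germ_smul]

/-- A nonzero section of an invertible module has a divisor, its zero scheme. -/
theorem divisor_spec {L : X.Modules} (hL : PicF.IsInvertible L)
    (s : Coh.structureModule X ⟶ L) (hs : s ≠ 0) :
    BlowUp.IsEffCartierIdeal (PicF2.zeroScheme L s) ∧
      Nonempty (CohB1.tensorMod L (_root_.ClSub.idealMod (PicF2.zeroScheme L s)) ≅
        Coh.structureModule X) ∧
      ((PicF2.zeroScheme L s).support : Set X) = (CohB1.genLocus L s : Set X)ᶜ ∧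
      ∀ J : X.IdealSheafData, (∃ s', s' ≫ gMap J L = s) →
        ∀ x, stalkIdeal (PicF2.zeroScheme L s) x ≤ stalkIdeal J x := by
  let D := PicF2.zeroScheme L s
  have hloc := exists_frame_zeroScheme hL s hs
  have hstalk := exists_stalk_zeroScheme hL s hs
  haveI : Mono s := by
    rw [StalkModule.mono_iff_stalkMapₗ_injective]
    intro x
    obtain ⟨e, c, -, hfree, hc, -, hone⟩ := hstalk x
    rw [injective_iff_map_eq_zero]
    intro z hz
    have h : oStalk x z * c = 0 := hfree _ (by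
      rw [mul_smul, ← hone, germOne, ← map_smul, ← map_smul, smul_eq_mul, mul_one,
        LinearEquiv.symm_apply_apply, hz])
    exact (LinearEquiv.map_eq_zero_iff _).mp ((mul_eq_zero.mp h).resolve_right hc)
  haveI := mono_gMap D hL
  have w1 : s ≫ cokernel.π (gMap D L) = 0 := by
    refine StalkModule.hom_ext_stalkMapₗ fun x => LinearMap.ext fun z => ?_
    obtain ⟨e, c, he, -, -, hD, hone⟩ := hstalk x
    obtain ⟨r, hr⟩ := (range_stalk_section L s x _).mp ⟨z, rfl⟩
    obtain ⟨w, hw⟩ := (mem_range_gMap_iff D x he (StalkModule.stalkMapₗ s x z)).mpr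
      ⟨r * c, hD ▸ _root_.Ideal.mul_mem_left _ r (_root_.Ideal.mem_span_singleton_self c),
        by rw [mul_smul, ← hone, hr]⟩
    rw [StalkModule.stalkMapₗ_comp, LinearMap.comp_apply, ← hw, ← LinearMap.comp_apply,
      ← StalkModule.stalkMapₗ_comp, cokernel.condition, StalkModule.stalkMapₗ_zero,
      StalkModule.stalkMapₗ_zero]
    rfl
  have w2 : gMap D L ≫ cokernel.π s = 0 := by
    refine StalkModule.hom_ext_stalkMapₗ fun x => LinearMap.ext fun z => ?_
    obtain ⟨e, c, he, -, -, hD, hone⟩ := hstalk x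
    obtain ⟨r, hr, hre⟩ := (mem_range_gMap_iff D x he _).mp ⟨z, rfl⟩
    rw [hD, _root_.Ideal.mem_span_singleton'] at hr
    obtain ⟨t, rfl⟩ := hr
    obtain ⟨w, hw⟩ := (range_stalk_section L s x (StalkModule.stalkMapₗ (gMap D L) x z)).mpr
      ⟨t, by rw [hone, ← mul_smul, hre]⟩
    rw [StalkModule.stalkMapₗ_comp, LinearMap.comp_apply, ← hw, ← LinearMap.comp_apply,
      ← StalkModule.stalkMapₗ_comp, cokernel.condition, StalkModule.stalkMapₗ_zero,
      StalkModule.stalkMapₗ_zero]
    rfl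
  refine ⟨fun x => ?_, ⟨{
    hom := Abelian.monoLift s (gMap D L) w2
    inv := Abelian.monoLift (gMap D L) s w1
    hom_inv_id := by
      rw [← cancel_mono (gMap D L), Category.assoc, Abelian.monoLift_comp,
        Abelian.monoLift_comp, Category.id_comp]
    inv_hom_id := by
      rw [← cancel_mono s, Category.assoc, Abelian.monoLift_comp,
        Abelian.monoLift_comp, Category.id_comp] }⟩, ?_, ?_⟩
  · obtain ⟨F, hxF, a, ha, hD, -⟩ := hloc x
    haveI : Nonempty F.V.1 := ⟨⟨x, hxF⟩⟩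
    exact ⟨F.V, hxF, a, mem_nonZeroDivisors_of_ne_zero ha, hD⟩
  · ext x
    obtain ⟨F, hxF, a, -, hD, hval⟩ := hloc x
    rw [Set.mem_compl_iff, SetLike.mem_coe, SetLike.mem_coe,
      Scheme.IdealSheafData.mem_support_iff_of_mem hxF, Scheme.mem_zeroLocus_iff]
    have h := SetLike.ext_iff.mp (Ample.GenLocus.genLocus_inf_eq F.he s hval) x
    constructor
    · exact fun hz hg => hz a (hD ▸ _root_.Ideal.mem_span_singleton_self a) (h.mp ⟨hg, hxF⟩)
    · intro hg f hf hbf
      rw [hD] at hf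
      obtain ⟨t, rfl⟩ := _root_.Ideal.mem_span_singleton'.mp hf
      rw [Scheme.basicOpen_mul] at hbf
      exact hg (h.mpr hbf.2).1
  · rintro J ⟨s', hs'⟩ x
    obtain ⟨e, c, he, hfree, -, hD, hone⟩ := hstalk x
    rw [hD, _root_.Ideal.span_singleton_le_iff_mem]
    have h1 : ∃ z, StalkModule.stalkMapₗ (gMap J L) x z = germOne L s x :=
      ⟨StalkModule.stalkMapₗ s' x ((oStalk x).symm 1), by
        rw [← LinearMap.comp_apply, ← StalkModule.stalkMapₗ_comp, hs']; rfl⟩
    obtain ⟨r, hr, hre⟩ := (mem_range_gMap_iff J x he _).mp h1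
    have : r - c = 0 := hfree _ (by rw [sub_smul, hre, hone, sub_self])
    rwa [← sub_eq_zero.mp this]

end

end Groth.Agent.Lib.SurfInt.Div
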