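import Groth.Agent.Lib.SurfInt.AffineCompl
import Groth.Agent.H4.CartierSection
import Groth.Agent.Lib.FinCond.Components
import Groth.Agent.Lib.Ample.Basis
import Groth.Prelude.Def_MoreMor
import Mathlib.AlgebraicGeometry.Limits

/-!
# Noetherian schemes with affine diagonal and factorial local rings are divisorial
-/

set_option autoImplicit false
set_option linter.style.haveILetI false
universe u

open CategoryTheory CategoryTheory.Limits AlgebraicGeometry TopologicalSpace

namespace Groth.Agent.Lib.SurfInt.Divisorial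

open Groth.Agent.Lib

variable {X : Scheme.{u}} [IsLocallyNoetherian X] [CompactSpace X]

/-- Each point lies in a dense affine open, the local rings being domains. -/
theorem exists_dense_affine_mem (hdom : ∀ x : X, IsDomain (X.presheaf.stalk x)) (x : X) :
    ∃ U : X.Opens, IsAffineOpen U ∧ Dense (U : Set X) ∧ x ∈ U := by
  classical
  haveI : IsNoetherian X := {}
  have hdisj : (irreducibleComponents (X : Type u)).PairwiseDisjoint id :=
    (FinCond.pairwiseDisjoint_iff_nilradical_isPrime X).mpr fun y => by
      haveI := hdom y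
      rw [nilradical_eq_zero]; exact _root_.Ideal.isPrime_bot
  have hfin : (irreducibleComponents X).Finite := NoetherianSpace.finite_irreducibleComponents
  have : Finite (irreducibleComponents X) := hfin
  let W : irreducibleComponents X → X.Opens := fun C =>
    ⟨(⋃ D ∈ irreducibleComponents X \ {(C : Set X)}, D)ᶜ,
      ((hfin.sdiff).isClosed_biUnion fun D hD => isClosed_of_mem_irreducibleComponents D hD.1).isOpen_compl⟩
  have hW : ∀ (C : irreducibleComponents X) (y : X), y ∈ (C : Set X) → y ∈ W C := by
    intro C y hy hy'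
    simp only [Set.mem_iUnion] at hy'
    obtain ⟨D, hD, hyD⟩ := hy'
    exact hD.2 (hdisj.elim_set hD.1 C.2 y hyD hy)
  let p : ↥(irreducibleComponents X) → X := fun C => if x ∈ (C : Set X) then x else C.2.1.1.choose
  have hp : ∀ C : ↥(irreducibleComponents X), p C ∈ (C : Set X) := fun C => by
    simp only [p]
    split_ifs with h
    · exact h
    · exact C.2.1.1.choose_spec
  have hA : ∀ C : ↥(irreducibleComponents X), ∃ A : X.Opens, IsAffineOpen A ∧ p C ∈ A ∧ A ≤ W C := fun C => by
    obtain ⟨A, hA, hxA, hle⟩ := exists_isAffineOpen_mem_and_subset (hW C _ (hp C))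
    exact ⟨A, hA, hxA, hle⟩
  choose A hA hxA hAW using hA
  refine ⟨⨆ C, A C, IsAffineOpen.iSup_of_disjoint hA fun C D hne => ?_, ?_, ?_⟩
  · refine disjoint_iff.2 (bot_unique fun y hy => ?_)
    obtain ⟨E, hE, hyE⟩ : ∃ E ∈ irreducibleComponents X, y ∈ E :=
      ⟨_, irreducibleComponent_mem_irreducibleComponents y, mem_irreducibleComponent⟩
    have h1 : E = (C : Set X) := by
      by_contra h
      exact (hAW C hy.1) (Set.mem_iUnion₂.2 ⟨E, ⟨hE, h⟩, hyE⟩)
    have h2 : E = (D : Set X) := by
      by_contra h
      exact (hAW D hy.2) (Set.mem_iUnion₂.2 ⟨E, ⟨hE, h⟩, hyE⟩)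
    exact absurd (Subtype.ext (h1.symm.trans h2)) hne
  · intro y
    let C : irreducibleComponents X :=
      ⟨irreducibleComponent y, irreducibleComponent_mem_irreducibleComponents y⟩
    have h := subset_closure_inter_of_isPreirreducible_of_isOpen C.2.1.2 (A C).2 ⟨p C, hp C, hxA C⟩
    refine closure_mono ?_ (h mem_irreducibleComponent)
    exact Set.inter_subset_right.trans fun z hz => Opens.mem_iSup.2 ⟨C, hz⟩
  · let C : irreducibleComponents X :=
      ⟨irreducibleComponent x, irreducibleComponent_mem_irreducibleComponents x⟩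
    refine Opens.mem_iSup.2 ⟨C, ?_⟩
    have := hxA C
    rwa [show p C = x from if_pos mem_irreducibleComponent] at this

/-- Factorial local rings and affine diagonal give an ample family. -/
theorem hasAmpleFamily
    (hΔ : ∀ V W : X.Opens, IsAffineOpen V → IsAffineOpen W → IsAffineOpen (V ⊓ W))
    (hufd : ∀ x : X, IsDomain (X.presheaf.stalk x) ∧
      UniqueFactorizationMonoid (X.presheaf.stalk x)) : MoreMor.HasAmpleFamily X := by
  refine ⟨inferInstance, fun x => ?_⟩
  obtain ⟨U, hU, hd, hxU⟩ := exists_dense_affine_mem (fun y => (hufd y).1) x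
  obtain ⟨L, s, hL, hs⟩ := H4.CartierSection.exists_section _
    (AffineCompl.isEffCartier_compl hΔ hU hd fun y _ => hufd y)
  let e : L ≅ CohB1.tensorPow L 1 := (TensorMod.Basic.leftUnit L).symm
  have hlocus : CohB1.genLocus (CohB1.tensorPow L 1) (s ≫ e.hom) = U := by
    rw [Ample.GenLocus.genLocus_comp_iso]
    ext y
    rw [SetLike.mem_coe, hs y, ← SetLike.mem_coe,
      Scheme.IdealSheafData.coe_support_vanishingIdeal]
    exact not_not
  exact ⟨L, 1, s ≫ e.hom, hL, le_rfl, hlocus ▸ hxU, hlocus.symm ▸ hU⟩

end Groth.Agent.Lib.SurfInt.Divisorial
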