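import Groth.Agent.Lib.LCFin.AffineComplement
import Groth.Agent.Lib.Ideal.Prime
import Groth.Agent.H4.CartierUFD
import Mathlib.RingTheory.Nilpotent.Lemmas

/-!
# The complement of an affine open has codimension at most one
-/

set_option autoImplicit false
set_option linter.style.haveILetI false
universe u

open CategoryTheory CategoryTheory.Limits AlgebraicGeometry TopologicalSpace

namespace Groth.Agent.Lib.SurfInt.AffineCompl

open Groth.Agent.Lib
open Groth.Agent.Lib.Ideal.Prime (stalkIdeal stalkIdeal_eq mem_support_iff_le_prime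
  ringKrullDim_stalk_eq_height)
open Groth.Agent.Lib.AssPt.Basic (specializes_iff_primeIdealOf exists_point_of_prime)

variable {X : Scheme.{u}} [IsLocallyNoetherian X]

/-- At a maximal point of the complement of an affine open the local ring has dimension at most one
(affine diagonal). -/
theorem ringKrullDim_stalk_le_one
    (hΔ : ∀ V W : X.Opens, IsAffineOpen V → IsAffineOpen W → IsAffineOpen (V ⊓ W))
    {U : X.Opens} (hU : IsAffineOpen U) {η : X} (hη : η ∉ U)
    (hmax : ∀ y : X, y ∉ U → y ⤳ η → y = η) :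
    ringKrullDim (X.presheaf.stalk η) ≤ 1 := by
  obtain ⟨V, hV, hηV, -⟩ := exists_isAffineOpen_mem_and_subset
    (show η ∈ (⊤ : X.Opens) from trivial)
  haveI : IsNoetherianRing Γ(X, V) := IsLocallyNoetherian.component_noetherian ⟨V, hV⟩
  have hW : IsAffineOpen (hV.fromSpec ⁻¹ᵁ (V ⊓ U)) :=
    (hΔ V U hV hU).preimage_of_isOpenImmersion hV.fromSpec
      (by rw [IsAffineOpen.opensRange_fromSpec]; exact inf_le_left)
  set W := hV.fromSpec ⁻¹ᵁ (V ⊓ U)
  let J : _root_.Ideal Γ(X, V) :=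
    PrimeSpectrum.vanishingIdeal ((W : Set (Spec Γ(X, V)))ᶜ)
  have hz : PrimeSpectrum.zeroLocus (J : Set Γ(X, V)) = ((W : Set (Spec Γ(X, V)))ᶜ) := by
    show PrimeSpectrum.zeroLocus _ = _
    rw [PrimeSpectrum.zeroLocus_vanishingIdeal_eq_closure]
    exact W.isOpen.isClosed_compl.closure_eq
  have hmem : ∀ (y : X) (hy : y ∈ V), hV.primeIdealOf ⟨y, hy⟩ ∈ PrimeSpectrum.zeroLocus (J : Set Γ(X, V))
      ↔ y ∉ U := by
    intro y hy
    rw [hz]
    show ¬ hV.fromSpec (hV.primeIdealOf ⟨y, hy⟩) ∈ V ⊓ U ↔ _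
    rw [hV.fromSpec_primeIdealOf]
    exact ⟨fun h hU' => h ⟨hy, hU'⟩, fun h hm => h hm.2⟩
  rw [ringKrullDim_stalk_eq_height hV hηV]
  refine WithBot.coe_le_coe.mpr (LCFin.AffineComplement.height_le_one W hW J hz _
    ⟨⟨(hV.primeIdealOf ⟨η, hηV⟩).2, (hmem η hηV).mpr hη⟩, ?_⟩)
  rintro q ⟨hq, hJq⟩ hle
  obtain ⟨y, hy, rfl⟩ := exists_point_of_prime hV q
  have hyη := (specializes_iff_primeIdealOf hV hηV hy).mpr hle
  have h' := hmax y ((hmem y hy).mp hJq) hyη
  subst h'
  exact le_rfl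

/-- Separated schemes have affine diagonal. -/
theorem inf_affine [X.IsSeparated] (V W : X.Opens) (hV : IsAffineOpen V) (hW : IsAffineOpen W) :
    IsAffineOpen (V ⊓ W) :=
  hV.inf hW

/-- The reduced complement of a dense affine open is a Cartier divisor where the local rings are
factorial. -/
theorem isEffCartier_compl
    (hΔ : ∀ V W : X.Opens, IsAffineOpen V → IsAffineOpen W → IsAffineOpen (V ⊓ W))
    {U : X.Opens} (hU : IsAffineOpen U) (hdense : Dense (U : Set X))
    (hufd : ∀ x : X, x ∉ U →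
      IsDomain (X.presheaf.stalk x) ∧ UniqueFactorizationMonoid (X.presheaf.stalk x)) :
    BlowUp.IsEffCartierIdeal
      (Scheme.IdealSheafData.vanishingIdeal ⟨((U : Set X))ᶜ, U.isOpen.isClosed_compl⟩) := by
  set I := Scheme.IdealSheafData.vanishingIdeal (X := X) ⟨((U : Set X))ᶜ, U.isOpen.isClosed_compl⟩
  have hsupp : ∀ y : X, y ∈ I.support ↔ y ∉ U := fun y => by
    rw [← SetLike.mem_coe, Scheme.IdealSheafData.coe_support_vanishingIdeal]
    rfl
  refine H4.CartierUFD.isEffCartier_of_assoc I (fun y hy ⟨a, ha, hann⟩ => ?_)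
    fun x hx => hufd x ((hsupp x).mp hx)
  have hyU := (hsupp y).mp hy
  obtain ⟨V, hV, hyV, -⟩ := exists_isAffineOpen_mem_and_subset
    (show y ∈ (⊤ : X.Opens) from trivial)
  haveI : IsNoetherianRing Γ(X, V) := IsLocallyNoetherian.component_noetherian ⟨V, hV⟩
  letI := X.presheaf.algebra_section_stalk ⟨y, hyV⟩
  haveI := hV.isLocalization_stalk ⟨y, hyV⟩
  let p := (hV.primeIdealOf ⟨y, hyV⟩).asIdeal
  have hrad : (stalkIdeal I y).IsRadical := by
    rw [stalkIdeal_eq I ⟨V, hV⟩ hyV]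
    show ((I.ideal ⟨V, hV⟩).map (algebraMap Γ(X, V) (X.presheaf.stalk y))).IsRadical
    have hI : (I.ideal ⟨V, hV⟩).IsRadical := by
      rw [Scheme.IdealSheafData.vanishingIdeal_ideal]
      exact PrimeSpectrum.isRadical_vanishingIdeal _
    rw [← _root_.Ideal.radical_eq_iff]
    exact (IsLocalization.map_radical p.primeCompl _ _).symm.trans (congrArg _ hI.radical)
  -- no point of the complement strictly generalises `y`
  have hmax : ∀ z : X, z ∉ U → z ⤳ y → z = y := by
    intro z hz hzy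
    by_contra hne
    have hzV : z ∈ V := hzy.mem_open V.isOpen hyV
    have hle := (specializes_iff_primeIdealOf hV hyV hzV).mp hzy
    obtain ⟨r, hrp, hrq⟩ : ∃ r ∈ p, r ∉ (hV.primeIdealOf ⟨z, hzV⟩).asIdeal := by
      by_contra! h
      refine hne ?_
      have := congrArg hV.fromSpec (PrimeSpectrum.ext (le_antisymm hle h))
      rwa [hV.fromSpec_primeIdealOf, hV.fromSpec_primeIdealOf] at this
    have hIz := (mem_support_iff_le_prime I ⟨V, hV⟩ hzV).mp ((hsupp z).mpr hz)
    let Q : _root_.Ideal (X.presheaf.stalk y) :=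
      (hV.primeIdealOf ⟨z, hzV⟩).asIdeal.map (algebraMap Γ(X, V) (X.presheaf.stalk y))
    have hdisj : Disjoint (p.primeCompl : Set Γ(X, V)) (hV.primeIdealOf ⟨z, hzV⟩).asIdeal :=
      Set.disjoint_left.mpr fun t ht htq => ht (hle htq)
    haveI hQp : Q.IsPrime :=
      IsLocalization.isPrime_of_isPrime_disjoint p.primeCompl _ _ (hV.primeIdealOf ⟨z, hzV⟩).2 hdisj
    have hrQ : algebraMap Γ(X, V) (X.presheaf.stalk y) r ∉ Q := fun hmem => by
      have := _root_.Ideal.mem_comap.mpr hmem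
      rw [show Q.comap (algebraMap Γ(X, V) (X.presheaf.stalk y)) = _ from
        IsLocalization.under_map_of_isPrime_disjoint p.primeCompl _
          (hV.primeIdealOf ⟨z, hzV⟩).2 hdisj] at this
      exact hrq this
    have hrm : algebraMap Γ(X, V) (X.presheaf.stalk y) r ∈
        IsLocalRing.maximalIdeal (X.presheaf.stalk y) :=
      (IsLocalization.AtPrime.to_map_mem_maximal_iff (X.presheaf.stalk y) p r).mpr hrp
    refine ha (hrad ⟨2, ?_⟩)
    have haQ : a ∈ Q := (hQp.mem_or_mem (by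
      have h := hann _ hrm
      rw [stalkIdeal_eq I ⟨V, hV⟩ hyV] at h
      exact _root_.Ideal.map_mono hIz h)).resolve_left hrQ
    rw [pow_two]
    exact hann a ((IsLocalRing.le_maximalIdeal hQp.ne_top) haQ)
  refine le_antisymm (ringKrullDim_stalk_le_one hΔ hU hyU hmax) ?_
  rw [ringKrullDim_stalk_eq_height hV hyV]
  refine WithBot.coe_le_coe.mpr (Order.one_le_iff_ne_zero.mpr fun h0 => hyU ?_)
  rw [_root_.Ideal.height_eq_zero_iff] at h0
  by_contra hy'
  -- the open set of points whose generisations avoid the complement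
  have hfin : (minimalPrimes Γ(X, V)).Finite := minimalPrimes.finite_of_isNoetherianRing _
  let T : Set (PrimeSpectrum Γ(X, V)) :=
    ⋃ q ∈ minimalPrimes Γ(X, V) \ {p}, PrimeSpectrum.zeroLocus (q : Set Γ(X, V))
  have hT : IsClosed T := (hfin.subset Set.sdiff_subset).isClosed_biUnion
    fun q _ => PrimeSpectrum.isClosed_zeroLocus _
  have hyT : hV.primeIdealOf ⟨y, hyV⟩ ∉ T := by
    simp only [T, Set.mem_iUnion, not_exists]
    rintro q ⟨hq, hqp⟩ hle
    exact hqp (h0.2 ⟨hq.1.1, bot_le⟩ hle |>.antisymm hle).symm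
  obtain ⟨w, hw, hwU⟩ := hdense.inter_open_nonempty
    (hV.fromSpec '' Tᶜ) (hV.fromSpec.isOpenEmbedding.isOpenMap _ hT.isOpen_compl)
    ⟨_, _, hyT, hV.fromSpec_primeIdealOf ⟨y, hyV⟩⟩
  obtain ⟨w', hw', rfl⟩ := hw
  haveI := w'.2
  obtain ⟨q, hq, hqw⟩ := _root_.Ideal.exists_minimalPrimes_le (bot_le : (⊥ : _root_.Ideal _) ≤ w'.asIdeal)
  have hqp : q = p := by
    by_contra hne
    exact hw' (Set.mem_biUnion ⟨hq, hne⟩ hqw)
  have hspec : y ⤳ hV.fromSpec w' := by
    have h := ((PrimeSpectrum.le_iff_specializes (hV.primeIdealOf ⟨y, hyV⟩) w').mp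
      (show p ≤ w'.asIdeal from hqp ▸ hqw)).map hV.fromSpec.continuous
    rwa [hV.fromSpec_primeIdealOf] at h
  exact hy' (hspec.mem_open U.isOpen hwU)

end Groth.Agent.Lib.SurfInt.AffineCompl
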