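import Groth.Agent.Lib.SurfInt.Transversal
import Groth.Agent.Lib.SurfInt.Push
import Groth.Agent.Lib.Snapper.IntNum
import Groth.Agent.Lib.Devissage.Closure

/-!
# Intersection numbers with effective divisors on a surface
-/

set_option autoImplicit false
set_option linter.style.haveILetI false
universe u

open CategoryTheory CategoryTheory.Limits AlgebraicGeometry TopologicalSpace

namespace Groth.Agent.Lib.SurfInt.Effective

open Groth.Agent.Lib Groth.Agent.Lib.TensorMod.Basic
open Groth.Agent.Lib.Snapper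

variable {k : Type u} [Field k] {X : Scheme.{u}} [X.Over (Spec (CommRingCat.of k))]

theorem isEffCartierIdeal {I : X.IdealSheafData} (h : FGA.IsEffCartier I) :
    BlowUp.IsEffCartierIdeal I := h

theorem isInvertible_idealMod {I : X.IdealSheafData} (h : FGA.IsEffCartier I) :
    PicF.IsInvertible (ClSub.idealMod I) :=
  Groth.Agent.Lib.ClSub.Cartier.isInvertible_idealMod h

theorem isCoh_quotMod (I : X.IdealSheafData) : Coh.IsCoh (_root_.ClSub.quotMod I) :=
  Devissage.Closure.isCoh_push_structureModule I.subschemeι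

variable [IsNoetherian X] (hfin : Chi.CohFinite k X) {d : ℕ} (hd : topologicalKrullDim X ≤ d)

include hfin hd

/-- Additivity with the three modules spelled out. -/
theorem chi_ses {S : ShortComplex X.Modules} (h : S.ShortExact) {A B C : X.Modules}
    (eA : S.X₁ = A) (eB : S.X₂ = B) (eC : S.X₃ = C) (hA : Coh.IsCoh A) (hB : Coh.IsCoh B)
    (hC : Coh.IsCoh C) :
    FGA.eulerCharLE k X B d = FGA.eulerCharLE k X A d + FGA.eulerCharLE k X C d := by
  subst eA eB eC
  exact Chi.eulerCharLE_add hfin hd h hA hB hC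

/-- `χ(M) = χ(I ⊗ M) + χ(M ⊗ O/I)`. -/
theorem chi_twist_quot {I : X.IdealSheafData} (hI : PicF.IsInvertible (_root_.ClSub.idealMod I))
    {M : X.Modules} (hM : PicF.IsInvertible M) :
    FGA.eulerCharLE k X M d =
      FGA.eulerCharLE k X (CohB1.tensorMod (_root_.ClSub.idealMod I) M) d +
        FGA.eulerCharLE k X (CohB1.tensorMod M (_root_.ClSub.quotMod I)) d := by
  have hIc := (Ample.GG.isCoh_of_isInvertible hI)
  have h := chi_ses hfin hd
    (Twist.twistSeq_shortExact hM (Groth.Agent.Lib.ClSub.Quot.idealSeq_shortExact I))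
    (A := CohB1.tensorMod M (_root_.ClSub.idealMod I))
    (B := CohB1.tensorMod M (Coh.structureModule X))
    (C := CohB1.tensorMod M (_root_.ClSub.quotMod I)) rfl rfl rfl
    (Twist.isCoh_twist hM hIc) (Twist.isCoh_twist hM (Twist.isCoh_structureModule X))
    (Twist.isCoh_twist hM (isCoh_quotMod I))
  exact (Chi.eulerCharLE_of_iso (rightUnit M).symm d).trans (h.trans (congrArg (· + _)
    (Chi.eulerCharLE_of_iso (comm _ _) d)))

/-- `χ(O) = χ(I) + χ(O/I)`. -/
theorem chi_quot {I : X.IdealSheafData} (hI : PicF.IsInvertible (_root_.ClSub.idealMod I)) :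
    FGA.eulerCharLE k X (Coh.structureModule X) d =
      FGA.eulerCharLE k X (_root_.ClSub.idealMod I) d +
        FGA.eulerCharLE k X (_root_.ClSub.quotMod I) d :=
  chi_ses hfin hd (Groth.Agent.Lib.ClSub.Quot.idealSeq_shortExact I) rfl rfl rfl
    (Ample.GG.isCoh_of_isInvertible hI) (Twist.isCoh_structureModule X) (isCoh_quotMod I)

/-- `(O(-D)·M) = χ(O_D) - χ(M|_D)`. -/
theorem intNum_ideal {I : X.IdealSheafData} (hI : PicF.IsInvertible (_root_.ClSub.idealMod I))
    {M : X.Modules} (hM : PicF.IsInvertible M) :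
    FGA.intNum k X d ![_root_.ClSub.idealMod I, M] (Coh.structureModule X) =
      FGA.eulerCharLE k X (_root_.ClSub.quotMod I) d -
        FGA.eulerCharLE k X (CohB1.tensorMod M (_root_.ClSub.quotMod I)) d := by
  have h1 := chi_quot hfin hd hI
  have h2 := chi_twist_quot hfin hd hI hM
  have e : CohB1.tensorMod M (CohB1.tensorMod (_root_.ClSub.idealMod I) (Coh.structureModule X)) ≅
      CohB1.tensorMod (_root_.ClSub.idealMod I) M :=
    tensorIso (Iso.refl M) (rightUnit _) ≪≫ comm _ _
  rw [IntNum.intNum_pair]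
  simp only [Vanish.sym_cons, show ∀ F, Vanish.sym k X d [] F = FGA.eulerCharLE k X F d from
    fun _ => rfl]
  rw [Chi.eulerCharLE_of_iso (rightUnit M) d, Chi.eulerCharLE_of_iso (rightUnit _) d,
    Chi.eulerCharLE_of_iso e d]
  linarith

/-- Two divisors meeting at finitely many points, their equations forming regular sequences. -/
theorem intNum_ideals [LocallyOfFiniteType (X ↘ Spec (CommRingCat.of k))]
    {C D : X.IdealSheafData} (hC : PicF.IsInvertible (_root_.ClSub.idealMod C))
    (hD : PicF.IsInvertible (_root_.ClSub.idealMod D))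
    (hreg : ∀ x : X, ∃ c : X.presheaf.stalk x, c ∈ nonZeroDivisors (X.presheaf.stalk x) ∧
      Groth.Agent.Lib.Ideal.Prime.stalkIdeal C x = _root_.Ideal.span {c} ∧
      ∀ a, c * a ∈ Groth.Agent.Lib.Ideal.Prime.stalkIdeal D x →
        a ∈ Groth.Agent.Lib.Ideal.Prime.stalkIdeal D x)
    (hCD : ((C ⊔ D).support : Set X).Finite) :
    FGA.intNum k X d ![_root_.ClSub.idealMod C, _root_.ClSub.idealMod D] (Coh.structureModule X) =
      (Module.finrank k (Coh.HH X (_root_.ClSub.quotMod (C ⊔ D)) 0) : ℤ) := by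
  obtain ⟨f, g, w, hS⟩ := Seq.exists_cutSeq C D hreg
  have h := chi_ses hfin hd hS rfl rfl rfl (Twist.isCoh_twist hC (isCoh_quotMod D))
    (isCoh_quotMod D) (isCoh_quotMod _)
  rw [IntNum.intNum_pair_comm, intNum_ideal hfin hd hD hC, h,
    Push.eulerCharLE_quotMod_of_finite (k := k) (C ⊔ D) hCD d]
  ring

/-- On a Cohen–Macaulay surface, curves without common component meet nonnegatively. -/
theorem intNum_ideals_of_finite [LocallyOfFiniteType (X ↘ Spec (CommRingCat.of k))]
    (hdim : ∀ Z ∈ irreducibleComponents (X : Type u), topologicalKrullDim Z = 2)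
    (hCM : ∀ x : X, LocCoh.IsCohenMacaulayLocalRing (X.presheaf.stalk x))
    {C D : X.IdealSheafData} (hC : FGA.IsEffCartier C) (hD : FGA.IsEffCartier D)
    (hCD : ((C ⊔ D).support : Set X).Finite) :
    FGA.intNum k X d ![_root_.ClSub.idealMod C, _root_.ClSub.idealMod D] (Coh.structureModule X) =
      (Module.finrank k (Coh.HH X (_root_.ClSub.quotMod (C ⊔ D)) 0) : ℤ) :=
  intNum_ideals hfin hd (isInvertible_idealMod hC) (isInvertible_idealMod hD)
    (Transversal.exists_regular_eq (X ↘ Spec (CommRingCat.of k)) hdim hCM hC hD hCD) hCD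

end Groth.Agent.Lib.SurfInt.Effective
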