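import Groth.Agent.Lib.Snapper.Poly
import Groth.Agent.Lib.TensorMod.TensorInv

/-!
# `χ(L^m ⊗ F)` through the symbols of the inverse of `L`
-/

set_option autoImplicit false
set_option linter.unusedSectionVars false
universe u

open CategoryTheory CategoryTheory.Limits AlgebraicGeometry

namespace Groth.Agent.Lib.SurfInt.PowExpansion

open Groth.Agent.Lib Groth.Agent.Lib.Snapper Groth.Agent.Lib.Snapper.Vanish
open Groth.Agent.Lib.TensorMod.Basic (tensorIso comm assoc leftUnit)

/-- Summing a two-term recursion. -/
theorem eq_sum_choose (f : ℕ → ℕ → ℤ) (r : ℕ) (hrec : ∀ i m, f i (m + 1) = f i m + f (i + 1) (m + 1))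
    (hvan : ∀ i m, r < i → f i m = 0) :
    ∀ m i, f i m = ∑ j ∈ Finset.range (r + 1), ((m + j - 1).choose j : ℤ) * f (i + j) 0 := by
  intro m
  induction m with
  | zero =>
    intro i
    rw [Finset.sum_eq_single 0]
    · simp
    · intro j _ hj
      rw [Nat.choose_eq_zero_of_lt (by omega)]
      simp
    · simp
  | succ m ih =>
    suffices H : ∀ t i, r + 1 ≤ i + t →
        f i (m + 1) = ∑ j ∈ Finset.range (r + 1), ((m + 1 + j - 1).choose j : ℤ) * f (i + j) 0 from
      fun i => H (r + 1) i (by omega)
    intro t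
    induction t with
    | zero =>
      intro i hi
      rw [hvan i _ (by omega), Finset.sum_eq_zero fun j _ => by rw [hvan (i + j) 0 (by omega), mul_zero]]
    | succ t iht =>
      intro i hi
      rw [hrec, ih i, iht (i + 1) (by omega)]
      have key : ∀ g : ℕ → ℤ, (∀ j, r < j → g j = 0) →
          ∑ j ∈ Finset.range (r + 1), ((m + j - 1).choose j : ℤ) * g j +
            ∑ j ∈ Finset.range (r + 1), ((m + 1 + j - 1).choose j : ℤ) * g (j + 1) =
          ∑ j ∈ Finset.range (r + 1), ((m + 1 + j - 1).choose j : ℤ) * g j := by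
        intro g hg
        rw [Finset.sum_range_succ' (fun j => ((m + j - 1).choose j : ℤ) * g j) r,
          Finset.sum_range_succ (fun j => ((m + 1 + j - 1).choose j : ℤ) * g (j + 1)) r,
          Finset.sum_range_succ' (fun j => ((m + 1 + j - 1).choose j : ℤ) * g j) r,
          hg (r + 1) (by omega)]
        have hsplit : ∀ j, ((m + 1 + (j + 1) - 1).choose (j + 1) : ℤ) =
            ((m + 1 + j - 1).choose j : ℤ) + ((m + (j + 1) - 1).choose (j + 1) : ℤ) := fun j => by
          rw [show m + 1 + (j + 1) - 1 = m + j + 1 by omega, show m + 1 + j - 1 = m + j by omega,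
            show m + (j + 1) - 1 = m + j by omega, Nat.choose_succ_succ', Nat.cast_add]
        simp only [hsplit, add_mul, Finset.sum_add_distrib]
        simp
        ring
      refine Eq.trans ?_ (key (fun j => f (i + j) 0) fun j hj => hvan _ _ (by omega))
      simp only [add_assoc, add_comm 1]

variable {k : Type u} [Field k] {X : Scheme.{u}} [X.Over (Spec (CommRingCat.of k))]

theorem isInvertible_right {L M : X.Modules} (_hL : PicF.IsInvertible L)
    (e : CohB1.tensorMod L M ≅ Coh.structureModule X) : PicF.IsInvertible M :=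
  TensorMod.TensorInv.isInvertible_of_tensor_iso (comm M L ≪≫ e)

theorem chi_pow [IsNoetherian X] (hfin : Chi.CohFinite k X) {d : ℕ}
    (hd : topologicalKrullDim X ≤ d) {L M : X.Modules} (hL : PicF.IsInvertible L)
    (hM : PicF.IsInvertible M) (e : CohB1.tensorMod L M ≅ Coh.structureModule X) {F : X.Modules}
    (hF : Coh.IsCoh F) (r : ℕ) (hr : topologicalKrullDim (CohB1.support F) ≤ r) (m : ℕ) :
    FGA.eulerCharLE k X (CohB1.tensorMod (CohB1.tensorPow L m) F) d =
      ∑ i ∈ Finset.range (r + 1), ((m + i - 1).choose i : ℤ) * sym k X d (List.replicate i M) F := by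
  let T : ℕ → X.Modules := fun m => CohB1.tensorMod (CohB1.tensorPow L m) F
  have h := eq_sum_choose (fun i m => sym k X d (List.replicate i M) (T m)) r (fun i m => ?_)
    (fun i m hi => ?_) m 0
  · refine h.trans (Finset.sum_congr rfl fun j _ => ?_)
    rw [Nat.zero_add]
    exact congrArg _ (sym_of_iso _ (leftUnit F))
  · have e' : CohB1.tensorMod M (T (m + 1)) ≅ T m :=
      tensorIso (Iso.refl M) (Poly.powSuccIso L F m) ≪≫ (assoc M L _).symm ≪≫
        tensorIso (comm M L ≪≫ e) (Iso.refl _) ≪≫ leftUnit _
    simp only [List.replicate_succ, sym_cons]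
    rw [sym_of_iso _ e']
    ring
  · have hLm := TensorMod.Invertible.isInvertible_tensorPow hL m
    refine sym_eq_zero hfin hd _ (fun N hN => (List.eq_of_mem_replicate hN) ▸ hM) _
      (Twist.isCoh_twist hLm hF) ?_
    rw [Twist.support_twist hLm, List.length_replicate]
    exact lt_of_le_of_lt hr (by exact_mod_cast hi)

end Groth.Agent.Lib.SurfInt.PowExpansion
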