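import Groth.Agent.Lib.StalkLoc.Basic
import Groth.Agent.Lib.Modules.AffineSections
import Groth.Agent.Lib.Modules.Stalk
import Groth.Prelude.Def_CohB1
import Mathlib.RingTheory.Ideal.KrullsHeightTheorem
import Mathlib.LinearAlgebra.Determinant
import Mathlib.RingTheory.LocalRing.Module

/-!
# The cokernel of an injection of finite locally free modules lives in codimension at most one
-/

set_option autoImplicit false
universe u

open CategoryTheory CategoryTheory.Limits AlgebraicGeometry TopologicalSpace Opposite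

namespace Groth.Agent.Lib.SurfInt.CokerCodim

section Algebra

variable {R : Type*} [CommRing R] [IsDomain R] [IsNoetherianRing R]

/-- An injective, non-surjective map of finite free modules stays non-surjective at a prime of height ≤ 1. -/
theorem exists_height_le_one_free {P Q : Type*} [AddCommGroup P] [Module R P] [AddCommGroup Q] [Module R Q]
    [Module.Free R P] [Module.Finite R P] [Module.Free R Q] [Module.Finite R Q] (f : P →ₗ[R] Q)
    (hf : Function.Injective f) (hns : ¬ Function.Surjective f) :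
    ∃ q : Ideal R, q.IsPrime ∧ q.height ≤ 1 ∧ ∃ z : Q, ∀ s ∉ q, s • z ∉ Set.range f := by
  classical
  by_contra hcon
  push Not at hcon
  have key : ∀ q : Ideal R, q.IsPrime → q.height ≤ 1 →
      ∃ s ∉ q, ∀ z : Q, s • z ∈ LinearMap.range f := by
    intro q hq hh
    let b := Module.Free.chooseBasis R Q
    choose s hs hz using fun i => hcon q hq hh (b i)
    refine ⟨∏ i, s i, fun hc => ?_, fun z => ?_⟩
    · obtain ⟨i, -, hi⟩ := (hq.prod_mem_iff).1 hc
      exact hs i hi
    · rw [← b.sum_repr z, Finset.smul_sum]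
      refine Submodule.sum_mem _ fun i _ => ?_
      rw [smul_comm]
      refine Submodule.smul_mem _ _ ?_
      rw [← Finset.mul_prod_erase Finset.univ s (Finset.mem_univ i), mul_comm, mul_smul]
      exact Submodule.smul_mem _ _ (LinearMap.mem_range.2 (hz i))
  obtain ⟨s, hs, hsz⟩ := key ⊥ Ideal.isPrime_bot (by simp)
  let h0 : Q →ₗ[R] LinearMap.range f := (s • LinearMap.id).codRestrict _ hsz
  have hle : Module.finrank R Q ≤ Module.finrank R P := by
    rw [← LinearMap.finrank_range_of_inj hf]
    refine LinearMap.finrank_le_finrank_of_injective (f := h0) fun a b hab => ?_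
    exact smul_right_injective Q (show s ≠ 0 by simpa using hs) (congrArg Subtype.val hab)
  have hrank : Module.finrank R P = Module.finrank R Q :=
    le_antisymm (LinearMap.finrank_le_finrank_of_injective hf) hle
  let e : Q ≃ₗ[R] P := LinearEquiv.ofFinrankEq Q P hrank.symm
  let g : Q →ₗ[R] Q := f ∘ₗ e.toLinearMap
  have hu : ¬ IsUnit g.det := fun hu => hns fun z => by
    obtain ⟨w, hw⟩ := ((Module.End.isUnit_iff _).1 ((LinearMap.isUnit_iff_isUnit_det g).2 hu)).2 z
    exact ⟨e w, hw⟩
  obtain ⟨q, hq⟩ := Ideal.nonempty_minimalPrimes (I := Ideal.span {g.det})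
    (by rwa [Ne, Ideal.span_singleton_eq_top])
  have hqp : q.IsPrime := hq.1.1
  obtain ⟨s, hs, hsz⟩ := key q hqp (Ideal.height_le_one_of_isPrincipal_of_mem_minimalPrimes _ q hq)
  have hsz' : ∀ z : Q, ∃ w : Q, g w = s • z := fun z => by
    obtain ⟨w, hw⟩ := hsz z
    exact ⟨e.symm w, by simp [g, hw]⟩
  obtain ⟨h, hh⟩ : ∃ h : Q →ₗ[R] Q, g ∘ₗ h = s • LinearMap.id := by
    let b := Module.Free.chooseBasis R Q
    choose w hw using fun i => hsz' (b i)
    exact ⟨b.constr R w, b.ext fun i => by simp [hw]⟩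
  have hdet := congrArg LinearMap.det hh
  rw [LinearMap.det_comp, LinearMap.det_smul, LinearMap.det_id, mul_one] at hdet
  have hmem : g.det * h.det ∈ q :=
    Ideal.mul_mem_right _ _ (hq.1.2 (Ideal.mem_span_singleton_self _))
  rw [hdet] at hmem
  exact hs (hqp.mem_of_pow_mem _ hmem)

/-- The same for projective modules, inside a given prime. -/
theorem exists_height_le_one {P Q : Type*} [AddCommGroup P] [Module R P] [AddCommGroup Q] [Module R Q]
    [Module.Projective R P] [Module.Finite R P] [Module.Projective R Q] [Module.Finite R Q] (f : P →ₗ[R] Q)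
    (hf : Function.Injective f) (p : Ideal R) [p.IsPrime] (z : Q) (hz : ∀ s ∉ p, s • z ∉ Set.range f) :
    ∃ q : Ideal R, q.IsPrime ∧ q.height ≤ 1 ∧ ∃ z : Q, ∀ s ∉ q, s • z ∉ Set.range f := by
  let Rp := Localization.AtPrime p
  let fp : LocalizedModule p.primeCompl P →ₗ[Rp] LocalizedModule p.primeCompl Q :=
    LocalizedModule.map p.primeCompl f
  have hns : ¬ Function.Surjective fp := by
    intro hsur
    obtain ⟨v, hv⟩ := hsur (LocalizedModule.mk z 1)
    induction v using LocalizedModule.induction_on with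
    | h w s =>
      rw [LocalizedModule.map_mk, LocalizedModule.mk_eq] at hv
      obtain ⟨c, hc⟩ := hv
      refine hz ((c * s : p.primeCompl) : R) (c * s).2 ⟨(c : R) • w, ?_⟩
      simpa [Submonoid.smul_def, mul_smul] using hc
  have : Module.Free Rp (LocalizedModule p.primeCompl P) := Module.free_of_flat_of_isLocalRing
  have : Module.Free Rp (LocalizedModule p.primeCompl Q) := Module.free_of_flat_of_isLocalRing
  obtain ⟨q, hq, hh, v, hv⟩ :=
    exists_height_le_one_free fp (LocalizedModule.map_injective p.primeCompl f hf) hns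
  refine ⟨q.under R, inferInstance, (IsLocalization.height_under p.primeCompl q).le.trans hh, ?_⟩
  induction v using LocalizedModule.induction_on with
  | h w t =>
    refine ⟨w, fun s hs => ?_⟩
    rintro ⟨u, hu⟩
    refine hv (algebraMap R Rp s) (fun h => hs h) ⟨LocalizedModule.mk u t, ?_⟩
    rw [LocalizedModule.map_mk, hu, algebraMap_smul, LocalizedModule.smul'_mk]

end Algebra

/-- A monomorphism of finite locally free modules on a locally Noetherian integral scheme is an isomorphism
as soon as it is one in codimension at most one. -/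
theorem isIso_or_exists {X : Scheme.{u}} [IsIntegral X] [IsLocallyNoetherian X] {M N : X.Modules}
    (hM : FlatMod.IsFinLocFree M) (hN : FlatMod.IsFinLocFree N) (φ : M ⟶ N) [Mono φ] :
    IsIso φ ∨ ∃ x : X, x ∈ CohB1.support (cokernel φ) ∧ ringKrullDim (X.presheaf.stalk x) ≤ 1 := by
  have hsupp : ∀ x : X, Subsingleton ((cokernel φ).presheaf.stalk x) →
      Function.Surjective ((Modules.Stalk.stalkFunctor X x).map φ) := by
    intro x hx v
    have hex := (Modules.Stalk.exact_iff_stalk
      (ShortComplex.mk φ (cokernel.π φ) (cokernel.condition φ))).1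
      (ShortComplex.exact_cokernel φ) x
    exact (ShortComplex.ab_exact_iff _).1 hex v (Subsingleton.elim (α := ((cokernel φ).presheaf.stalk x)) _ _)
  by_cases hall : ∀ x : X, Function.Surjective ((Modules.Stalk.stalkFunctor X x).map φ)
  · have : Epi φ := (Modules.Stalk.epi_iff_stalk_surjective φ).2 hall
    exact Or.inl (isIso_of_mono_of_epi φ)
  refine Or.inr ?_
  push Not at hall
  obtain ⟨x, hx⟩ := hall
  obtain ⟨U, hU, hxU, -⟩ := exists_isAffineOpen_mem_and_subset (U := ⊤) (show x ∈ (⊤ : X.Opens) from trivial)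
  have := Modules.AffineSections.isQCoh_of_isFinLocFree hM
  have := Modules.AffineSections.isQCoh_of_isFinLocFree hN
  obtain ⟨hMf, hMp⟩ := Modules.AffineSections.finite_projective_sections hM hU
  obtain ⟨hNf, hNp⟩ := Modules.AffineSections.finite_projective_sections hN hU
  have : Nonempty U := ⟨⟨x, hxU⟩⟩
  have : IsDomain Γ(X, U) := IsIntegral.component_integral U
  have : IsNoetherianRing Γ(X, U) := IsLocallyNoetherian.component_noetherian ⟨U, hU⟩
  let f : Γ(M, U) →ₗ[Γ(X, U)] Γ(N, U) :=
    { toFun := φ.app U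
      map_add' := map_add _
      map_smul' := fun r m => Scheme.Modules.Hom.app_smul φ r m }
  have hf : Function.Injective f := (Modules.Stalk.mono_iff_app_injective φ).1 inferInstance U
  have hmem : ∀ (y : X) (hy : y ∈ U) (s : Γ(X, U)),
      y ∈ X.basicOpen s ↔ s ∉ (hU.primeIdealOf ⟨y, hy⟩).asIdeal := fun y hy s => by
    rw [← Ideal.mem_primeCompl_iff]
    conv_lhs => rw [← show hU.fromSpec (hU.primeIdealOf ⟨y, hy⟩) = y from hU.fromSpec_primeIdealOf _]
    change hU.primeIdealOf ⟨y, hy⟩ ∈ hU.fromSpec ⁻¹ᵁ X.basicOpen s ↔ _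
    rw [hU.fromSpec_preimage_basicOpen]
    exact PrimeSpectrum.mem_basicOpen _ _
  -- surjectivity at the stalk versus surjectivity up to a denominator
  have hA : ∀ (y : X) (hy : y ∈ U), Function.Surjective ((Modules.Stalk.stalkFunctor X y).map φ) →
      ∀ z : Γ(N, U), ∃ s ∉ (hU.primeIdealOf ⟨y, hy⟩).asIdeal, s • z ∈ Set.range f := by
    intro y hy hsur z
    obtain ⟨v, hv⟩ := hsur (N.presheaf.germ U y hy z)
    obtain ⟨a, t, ha, hat⟩ := StalkLoc.Basic.exists_smul_eq_germ (M := M) hU hy v
    have h1 : N.presheaf.germ U y hy (φ.app U t - a • z) = 0 := by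
      rw [map_sub, sub_eq_zero, Modules.StalkModule.germ_smul, ← Modules.Stalk.stalkFunctor_map_germ,
        ← hat, ← hv]
      exact map_smul (Modules.StalkModule.stalkMapₗ φ y) _ _
    obtain ⟨c, hc, hc0⟩ := (StalkLoc.Basic.germ_eq_zero_iff hU hy _).1 h1
    refine ⟨c * a, ?_, c • t, ?_⟩
    · rw [← hmem y hy, Scheme.basicOpen_mul]
      exact ⟨hc, ha⟩
    · rw [smul_sub, sub_eq_zero, ← mul_smul] at hc0
      exact (Scheme.Modules.Hom.app_smul φ c t).trans hc0
  have hB : ¬ ∀ z : Γ(N, U), ∃ s ∉ (hU.primeIdealOf ⟨x, hxU⟩).asIdeal, s • z ∈ Set.range f := by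
    intro h
    simp only [Function.Surjective, not_forall, not_exists] at hx
    obtain ⟨v, hv⟩ := hx
    obtain ⟨a, z, ha, haz⟩ := StalkLoc.Basic.exists_smul_eq_germ (M := N) hU hxU v
    obtain ⟨s, hs, t, ht⟩ := h z
    have hu : IsUnit (X.presheaf.germ U x hxU (s * a)) :=
      (X.mem_basicOpen (s * a) x hxU).1 (by
        rw [Scheme.basicOpen_mul]
        exact ⟨(hmem x hxU s).2 hs, ha⟩)
    obtain ⟨w, hw⟩ := hu.smul_bijective.2 (M.presheaf.germ U x hxU t)
    refine hv w (show (Modules.StalkModule.stalkMapₗ φ x) w = (v : N.presheaf.stalk x) from hu.smul_bijective.1 ?_)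
    refine (map_smul (Modules.StalkModule.stalkMapₗ φ x) _ w).symm.trans ?_
    refine (congrArg _ hw).trans ((Modules.Stalk.stalkFunctor_map_germ x φ hxU t).trans ?_)
    change N.presheaf.germ U x hxU (f t) = _
    rw [ht, Modules.StalkModule.germ_smul, map_mul, ← haz]
    exact (mul_smul _ _ _).symm
  push Not at hB
  obtain ⟨z, hz⟩ := hB
  obtain ⟨q, hq, hqh, z', hz'⟩ := exists_height_le_one f hf _ z hz
  let pq : Spec Γ(X, U) := ⟨q, hq⟩
  have hy : hU.fromSpec pq ∈ U := hU.range_fromSpec.subset ⟨pq, rfl⟩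
  have hpr : hU.primeIdealOf ⟨hU.fromSpec pq, hy⟩ = pq :=
    hU.fromSpec.isOpenEmbedding.injective (hU.fromSpec_primeIdealOf _)
  refine ⟨hU.fromSpec pq, fun hs => ?_, ?_⟩
  · obtain ⟨s, hs', hsz⟩ := hA _ hy (hsupp _ hs) z'
    rw [hpr] at hs'
    exact hz' s hs' hsz
  · let _ := TopCat.Presheaf.algebra_section_stalk X.presheaf (⟨_, hy⟩ : U)
    have := hU.isLocalization_stalk ⟨_, hy⟩
    rw [IsLocalization.AtPrime.ringKrullDim_eq_height
      (hU.primeIdealOf ⟨hU.fromSpec pq, hy⟩).asIdeal (X.presheaf.stalk (hU.fromSpec pq)), hpr]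
    exact_mod_cast hqh

end Groth.Agent.Lib.SurfInt.CokerCodim
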