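import Groth.Agent.Lib.SurfInt.Div
import Groth.Agent.Lib.ModelFibre.StalkIdeal
import Groth.Agent.Lib.SurfInt.Surface
import Groth.Agent.Lib.Devissage.Dim

/-!
# Pencils of sections and general members
-/

set_option autoImplicit false
set_option linter.style.haveILetI false
universe u

open CategoryTheory CategoryTheory.Limits AlgebraicGeometry TopologicalSpace

namespace Groth.Agent.Lib.SurfInt.Pencil

open Groth.Agent.Lib Groth.Agent.Lib.Modules Groth.Agent.Lib.SurfInt.Stalk
open Groth.Agent.Lib.Ideal.Prime (stalkIdeal)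
open Groth.Agent.Lib.SurfInt.Div (germOne)

variable {X : Scheme.{u}} {L : X.Modules}

/-- Membership in the non-vanishing locus, in a frame. -/
theorem mem_genLocus_iff_isUnit (s : Coh.structureModule X ⟶ L) {U : X.Opens} {e : Γ(L, U)}
    (he : TensorMod.Gen.IsGen L U e) {x : X} (hx : x ∈ U) {c : X.presheaf.stalk x}
    (h : germOne L s x = c • L.presheaf.germ U x hx e) :
    x ∈ CohB1.genLocus L s ↔ IsUnit c := by
  obtain ⟨a, ha⟩ := Ample.GenLocus.exists_coord he (SecTwist.val s U)
  have hc : c = X.presheaf.germ U x hx a := by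
    refine sub_eq_zero.mp ((Div.span_germ_eq_top he hx).2 _ ?_)
    rw [sub_smul, ← h, Div.germOne_eq L s hx, ha, StalkModule.germ_smul, sub_self]
  rw [hc, ← Scheme.mem_basicOpen X a x hx, ← Ample.GenLocus.genLocus_inf_eq he s ha]
  exact ⟨fun h' => ⟨h', hx⟩, fun h' => h'.1⟩

variable [IsIntegral X]

/-- The zero scheme is cut out by the coordinate in any free generator. -/
theorem stalkIdeal_zeroScheme (hL : PicF.IsInvertible L) (s : Coh.structureModule X ⟶ L)
    (hs : s ≠ 0) {x : X} {e : L.presheaf.stalk x} {c : X.presheaf.stalk x}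
    (he : Submodule.span (X.presheaf.stalk x) {e} = ⊤)
    (hfree : ∀ r : X.presheaf.stalk x, r • e = 0 → r = 0) (h : germOne L s x = c • e) :
    stalkIdeal (PicF2.zeroScheme L s) x = _root_.Ideal.span {c} := by
  obtain ⟨e', c', he', hfree', -, hD, hone⟩ := Div.exists_stalk_zeroScheme hL s hs x
  obtain ⟨u, hu⟩ := Submodule.mem_span_singleton.mp (he.ge (Submodule.mem_top : e' ∈ ⊤))
  obtain ⟨v, hv⟩ := Submodule.mem_span_singleton.mp (he'.ge (Submodule.mem_top : e ∈ ⊤))
  have huv : u * v = 1 := sub_eq_zero.mp (hfree' _ (by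
    rw [sub_smul, one_smul, mul_smul, hv, hu, sub_self]))
  have hc : c = c' * u := sub_eq_zero.mp (hfree _ (by
    rw [sub_smul, mul_smul, hu, ← h, hone, sub_self]))
  rw [hD, hc]
  exact (_root_.Ideal.span_singleton_mul_right_unit (IsUnit.of_mul_eq_one _ huv) c').symm

/-- Ideals are compared stalk by stalk. -/
theorem le_of_stalkIdeal_le {I J : X.IdealSheafData}
    (h : ∀ x, stalkIdeal I x ≤ stalkIdeal J x) : I ≤ J :=
  sup_eq_right.mp (ModelFibre.StalkIdeal.ext_of_stalkIdeal fun x => by
    rw [Stalk.stalkIdeal_sup, sup_eq_right.mpr (h x)])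

variable {k : Type u} [Field k] [X.Over (Spec (CommRingCat.of k))]

/-- Constants, as elements of a local ring. -/
noncomputable def const (x : X) : k →+* X.presheaf.stalk x :=
  (X.presheaf.germ ⊤ x (show x ∈ (⊤ : X.Opens) from trivial)).hom.comp (Coh.toGlobal (X ↘ Spec (CommRingCat.of k)))

/-- A member `s₁ + t s₂` of a pencil. -/
theorem exists_member (s₁ s₂ : Coh.structureModule X ⟶ L) (t : k) :
    ∃ s : Coh.structureModule X ⟶ L, ∀ x,
      germOne L s x = germOne L s₁ x + const x t • germOne L s₂ x := by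
  let g : Γ(X, ⊤) := Coh.toGlobal (X ↘ Spec (CommRingCat.of k)) t
  obtain ⟨s, hs⟩ := Ample.GenLocus.exists_hom_of_sec
    (SecTwist.val s₁ ⊤ + g • SecTwist.val s₂ ⊤)
  refine ⟨s, fun x => ?_⟩
  have hx : x ∈ (⊤ : X.Opens) := trivial
  rw [Div.germOne_eq L s hx, Div.germOne_eq L s₁ hx,
    Div.germOne_eq L s₂ hx, show SecTwist.val s ⊤ = _ from hs]
  refine ((L.presheaf.germ ⊤ x hx).hom.map_add _ _).trans ?_
  exact congrArg _ (StalkModule.germ_smul hx g (SecTwist.val s₂ ⊤))

/-- A member of a pencil avoiding finitely many points which are not base points. -/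
theorem exists_avoiding [Infinite k] (hL : PicF.IsInvertible L)
    (s₁ s₂ : Coh.structureModule X ⟶ L) {S : Set X} (hS : S.Finite)
    (hbase : ∀ η ∈ S, η ∈ CohB1.genLocus L s₁ ∨ η ∈ CohB1.genLocus L s₂) :
    ∃ (t : k) (s : Coh.structureModule X ⟶ L), (∀ x,
      germOne L s x = germOne L s₁ x + const x t • germOne L s₂ x) ∧
      ∀ η ∈ S, η ∈ CohB1.genLocus L s := by
  choose s hs using exists_member (k := k) s₁ s₂
  have hbad : ∀ η ∈ S, {t : k | η ∉ CohB1.genLocus L (s t)}.Subsingleton := by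
    intro η hη t ht t' ht'
    obtain ⟨U, e, hxU, he⟩ := TensorMod.Gen.isInvertible_iff.1 hL η
    obtain ⟨hspan, hfree⟩ := Div.span_germ_eq_top he hxU
    obtain ⟨c₁, hc₁⟩ := Submodule.mem_span_singleton.mp
      (hspan.ge (Submodule.mem_top : germOne L s₁ η ∈ ⊤))
    obtain ⟨c₂, hc₂⟩ := Submodule.mem_span_singleton.mp
      (hspan.ge (Submodule.mem_top : germOne L s₂ η ∈ ⊤))
    have hcoord : ∀ t, germOne L (s t) η =
        (c₁ + const η t * c₂) • L.presheaf.germ U η hxU e := fun t => by
      rw [hs, ← hc₁, ← hc₂, add_smul, mul_smul]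
    simp only [Set.mem_ofPred_eq, mem_genLocus_iff_isUnit _ he hxU (hcoord _)] at ht ht'
    by_contra hne
    have hd := IsLocalRing.maximalIdeal (X.presheaf.stalk η) |>.sub_mem
      ((IsLocalRing.mem_maximalIdeal _).mpr ht) ((IsLocalRing.mem_maximalIdeal _).mpr ht')
    rw [add_sub_add_left_eq_sub, ← sub_mul, ← map_sub,
      _root_.Ideal.unit_mul_mem_iff_mem _ ((sub_ne_zero.mpr hne).isUnit.map (const η))] at hd
    have h1 : c₁ ∈ IsLocalRing.maximalIdeal (X.presheaf.stalk η) := by
      have := _root_.Ideal.sub_mem _ ((IsLocalRing.mem_maximalIdeal _).mpr ht)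
        (_root_.Ideal.mul_mem_left _ (const η t) hd)
      rwa [add_sub_cancel_right] at this
    rcases hbase η hη with h | h
    · exact (IsLocalRing.mem_maximalIdeal _).mp h1
        ((mem_genLocus_iff_isUnit _ he hxU hc₁.symm).mp h)
    · exact (IsLocalRing.mem_maximalIdeal _).mp hd
        ((mem_genLocus_iff_isUnit _ he hxU hc₂.symm).mp h)
  have hfin : (⋃ η ∈ S, {t : k | η ∉ CohB1.genLocus L (s t)}).Finite :=
    hS.biUnion fun η hη => (hbad η hη).finite
  obtain ⟨t, ht⟩ := hfin.infinite_compl.nonempty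
  exact ⟨t, s t, hs t, fun η hη => by_contra fun h => ht (Set.mem_biUnion hη h)⟩

set_option linter.unusedSectionVars false

variable [IsNoetherian X] [LocallyOfFiniteType (X ↘ Spec (CommRingCat.of k))]

/-- The points a section has to avoid to meet `D` finitely. -/
def avoidSet (D : X.IdealSheafData) : Set X :=
  insert (genericPoint X)
    {η | (η ∈ (D.support : Set X) ∧ ∀ z ∈ (D.support : Set X), z ⤳ η → z = η) ∧
      ¬ IsClosed ({η} : Set X)}

omit [LocallyOfFiniteType (X ↘ Spec (CommRingCat.of k))] in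
theorem finite_avoidSet (D : X.IdealSheafData) : (avoidSet D).Finite :=
  ((Devissage.Dim.finite_maximal (X := X) D.support.isClosed).subset fun η h => h.1).insert _

omit [AlgebraicGeometry.IsNoetherian X] [LocallyOfFiniteType (X ↘ Spec (CommRingCat.of k))] in
theorem ne_zero_of_mem_genLocus (hL : PicF.IsInvertible L) {s : Coh.structureModule X ⟶ L} {x : X}
    (h : x ∈ CohB1.genLocus L s) : s ≠ 0 := by
  rintro rfl
  obtain ⟨U, e, hxU, he⟩ := TensorMod.Gen.isInvertible_iff.1 hL x
  refine not_isUnit_zero ((mem_genLocus_iff_isUnit (0 : Coh.structureModule X ⟶ L) he hxU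
    (c := 0) ?_).mp h)
  rw [zero_smul, germOne, StalkModule.stalkMapₗ_zero]
  rfl

/-- A section avoiding the components of `D` meets it finitely. -/
theorem finite_of_avoid (f : X ⟶ Spec (CommRingCat.of k)) [LocallyOfFiniteType f]
    (hdim : topologicalKrullDim X = 2) (hL : PicF.IsInvertible L)
    {s : Coh.structureModule X ⟶ L} {D : X.IdealSheafData} (hD : BlowUp.IsEffCartierIdeal D)
    (hs : ∀ η ∈ avoidSet D, η ∈ CohB1.genLocus L s) :
    ((D ⊔ PicF2.zeroScheme L s).support : Set X).Finite := by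
  have hs0 : s ≠ 0 := ne_zero_of_mem_genLocus hL (hs _ (Set.mem_insert _ _))
  refine (Devissage.Dim.finite_maximal (X := X)
    (D ⊔ PicF2.zeroScheme L s).support.isClosed).subset fun w hw => ⟨hw, ?_⟩
  intro z hz hzw
  by_contra hne
  have hz0 : ¬ IsClosed ({z} : Set X) := fun h => hne (hzw.mem_closed h rfl).symm
  have hzD : z ∈ (D.support : Set X) :=
    Scheme.IdealSheafData.support_antitone le_sup_left hz
  have hzF : z ∈ ((PicF2.zeroScheme L s).support : Set X) :=
    Scheme.IdealSheafData.support_antitone le_sup_right hz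
  obtain ⟨η, hηD, hηz, hmax⟩ :=
    Ideal.Prime.exists_maximal_generization D.support.isClosed hzD
  have hηne : η ≠ z := by
    rintro rfl
    exact ((Div.divisor_spec hL s hs0).2.2.1.subset hzF)
      (hs η (Set.mem_insert_of_mem _ ⟨⟨hηD, hmax⟩, hz0⟩))
  have h1 := VarDim.Basic.pdim_lt f hηz hηne
  have h2 : VarDim.Basic.pdim f z ≠ 0 := fun h => hz0 ((VarDim.Basic.pdim_eq_zero_iff f z).mp h)
  have hg := Curve.eq_genericPoint_of_two_le f hdim (y := η) (by omega)
  refine Ideal.Prime.not_maximalPoint_of_mem_support hD hηD fun y hy => ?_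
  rw [hg] at hy ⊢
  exact ((genericPoint_spec X).specializes (Set.mem_univ y)).antisymm hy |>.eq.symm

/-- A member of a pencil with finite base locus meets a given divisor finitely and spans the same
ideal with the second generator. -/
theorem exists_transversal [Infinite k] (hdim : topologicalKrullDim X = 2)
    (hL : PicF.IsInvertible L) (s₁ s₂ : Coh.structureModule X ⟶ L) (hs₁ : s₁ ≠ 0) (hs₂ : s₂ ≠ 0)
    (hfin : ((PicF2.zeroScheme L s₁ ⊔ PicF2.zeroScheme L s₂).support : Set X).Finite)
    {D : X.IdealSheafData} (hD : BlowUp.IsEffCartierIdeal D) :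
    ∃ s : Coh.structureModule X ⟶ L, s ≠ 0 ∧
      ((D ⊔ PicF2.zeroScheme L s).support : Set X).Finite ∧
      PicF2.zeroScheme L s ⊔ PicF2.zeroScheme L s₂ =
        PicF2.zeroScheme L s₁ ⊔ PicF2.zeroScheme L s₂ := by
  classical
  set f := X ↘ Spec (CommRingCat.of k)
  set B := ((PicF2.zeroScheme L s₁ ⊔ PicF2.zeroScheme L s₂).support : Set X) with hB
  haveI : JacobsonSpace X := LocallyOfFiniteType.jacobsonSpace f
  have hclosed : ∀ b ∈ B, IsClosed ({b} : Set X) := by
    intro b hb
    have hcl : closure (B ∩ closedPoints X) = B :=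
      closure_inter_closedPoints (PicF2.zeroScheme L s₁ ⊔ PicF2.zeroScheme L s₂).support.isClosed
    have hdisc : IsClosed (B ∩ closedPoints X) := by
      rw [← (B ∩ closedPoints X).biUnion_of_singleton]
      exact (hfin.subset Set.inter_subset_left).isClosed_biUnion fun _ h => h.2
    rw [hdisc.closure_eq] at hcl
    exact (hcl.symm.subset hb).2
  have hdimgen : VarDim.Basic.pdim f (genericPoint X) = 2 := by
    have h := VarDim.Basic.topologicalKrullDim_irreducibleSpace f
    rw [hdim] at h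
    exact_mod_cast h.symm
  have hgen : ¬ IsClosed ({genericPoint X} : Set X) := fun h => by
    have := (VarDim.Basic.pdim_eq_zero_iff f _).mpr h
    omega
  let S : Set X := avoidSet D
  have hS : S.Finite := finite_avoidSet D
  have hbase : ∀ η ∈ S, η ∈ CohB1.genLocus L s₁ ∨ η ∈ CohB1.genLocus L s₂ := by
    intro η hη
    by_contra h
    simp only [not_or] at h
    have hB' : η ∈ B := by
      rw [hB, Scheme.IdealSheafData.support_sup]
      exact ⟨(Div.divisor_spec hL s₁ hs₁).2.2.1.symm.subset h.1,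
        (Div.divisor_spec hL s₂ hs₂).2.2.1.symm.subset h.2⟩
    rcases hη with rfl | hη
    · exact hgen (hclosed _ hB')
    · exact hη.2 (hclosed η hB')
  obtain ⟨t, s, hs, hgl⟩ := exists_avoiding (k := k) hL s₁ s₂ hS hbase
  have hs0 : s ≠ 0 := ne_zero_of_mem_genLocus hL (hgl _ (Set.mem_insert _ _))
  refine ⟨s, hs0, finite_of_avoid f hdim hL hD hgl, ?_⟩
  · refine ModelFibre.StalkIdeal.ext_of_stalkIdeal fun x => ?_
    obtain ⟨e, c₁, he, hfree, -, hF₁, h₁⟩ := Div.exists_stalk_zeroScheme hL s₁ hs₁ x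
    obtain ⟨c₂, hc₂⟩ := Submodule.mem_span_singleton.mp
      (he.ge (Submodule.mem_top : germOne L s₂ x ∈ ⊤))
    have h : germOne L s x = (c₁ + const x t * c₂) • e := by
      rw [hs, h₁, ← hc₂, add_smul, mul_smul]
    rw [Stalk.stalkIdeal_sup, Stalk.stalkIdeal_sup, stalkIdeal_zeroScheme hL s hs0 he hfree h,
      hF₁, stalkIdeal_zeroScheme hL s₂ hs₂ he hfree hc₂.symm, ← _root_.Ideal.span_insert,
      ← _root_.Ideal.span_insert, mul_comm]
    refine le_antisymm (_root_.Ideal.span_le.mpr ?_) (_root_.Ideal.span_le.mpr ?_) <;>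
      rintro _ (rfl | rfl) <;> rw [SetLike.mem_coe, _root_.Ideal.mem_span_pair]
    · exact ⟨1, const x t, by ring⟩
    · exact ⟨0, 1, by ring⟩
    · exact ⟨1, -const x t, by ring⟩
    · exact ⟨0, 1, by ring⟩

end Groth.Agent.Lib.SurfInt.Pencil
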