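import Groth.Agent.H97.GenLocusAffine
import Groth.Agent.H97.CurvePositivity
import Groth.Agent.Lib.HProj.QuasiProj
import Groth.Agent.Lib.ProjSpace.Basic
import Groth.Agent.Lib.Ample.Pullback
import Groth.Agent.Lib.VarDim.Basic
import Groth.Agent.Lib.Devissage.Closure
import Groth.Agent.H75.RedSub
import Mathlib.AlgebraicGeometry.ZariskisMainTheorem

/-!
# A globally generated module, ample on every curve, is ample
-/

set_option autoImplicit false
set_option linter.style.haveILetI false
universe u

open CategoryTheory CategoryTheory.Limits AlgebraicGeometry TopologicalSpace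

namespace Groth.Agent.Lib.SurfInt.GGAmple

open Groth.Agent.Lib Groth.Agent.Lib.Ample.GenLocus

variable (k : Type u) [Field k] {X : Scheme.{u}} [X.Over (Spec (CommRingCat.of k))]
  [IsProper (X ↘ Spec (CommRingCat.of k))]

include k

/-- A curve in an infinite closed set. -/
theorem exists_curve_of_infinite [IsNoetherian X] {Z : Set X} (hZ : IsClosed Z) (hinf : Z.Infinite) :
    ∃ C : X.IdealSheafData, IsIntegral C.subscheme ∧
      topologicalKrullDim (C.support : Set X) = 1 ∧ (C.support : Set X) ⊆ Z := by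
  let f := X ↘ Spec (CommRingCat.of k)
  have hne : ∃ z ∈ Z, 0 < VarDim.Basic.pdim f z := by
    by_contra hc
    push Not at hc
    obtain ⟨S, hSfin, hS, hS', hZe⟩ := NoetherianSpace.exists_finite_set_isClosed_irreducible hZ
    refine hinf (hZe ▸ Set.Finite.sUnion hSfin fun t ht => ?_)
    obtain ⟨η, hη⟩ : ∃ η, IsGenericPoint η t := QuasiSober.sober (hS' t ht) (hS t ht)
    have hηcl : IsClosed ({η} : Set X) := (VarDim.Basic.pdim_eq_zero_iff f η).mp
      (Nat.le_zero.mp (hc η (hZe ▸ Set.mem_sUnion_of_mem hη.mem ht)))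
    rw [← hη.def, hηcl.closure_eq]
    exact Set.finite_singleton η
  have hone : ∀ (n : ℕ) (z : X), z ∈ Z → VarDim.Basic.pdim f z = n + 1 →
      ∃ y ∈ Z, VarDim.Basic.pdim f y = 1 := by
    intro n
    induction n with
    | zero => exact fun z hz h => ⟨z, hz, h⟩
    | succ n ih =>
      intro z hz h
      obtain ⟨x, hxcl, hx⟩ := IsClosed.exists_closed_singleton (isClosed_closure (s := ({z} : Set X)))
        ⟨z, subset_closure rfl⟩
      have hne : z ≠ x := fun e => by
        rw [e, (VarDim.Basic.pdim_eq_zero_iff f x).mpr hx] at h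
        omega
      obtain ⟨y, hzy, -, hy⟩ := VarDim.Basic.exists_step_below f (specializes_iff_mem_closure.2 hxcl) hne
      exact ih y (hzy.mem_closed hZ hz) (by omega)
  obtain ⟨z, hz, hzpos⟩ := hne
  obtain ⟨y, hy, hy1⟩ := hone (VarDim.Basic.pdim f z - 1) z hz (by omega)
  let C := IntMult.ptIdeal y
  have hsupp : (C.support : Set X) = closure ({y} : Set X) := rfl
  haveI : AlgebraicGeometry.IsReduced C.subscheme := H75.RedSub.isReduced_vanishingIdeal _
  haveI : IrreducibleSpace C.subscheme := by
    let i := C.subschemeι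
    obtain ⟨w, hw⟩ : y ∈ Set.range i := by
      rw [Devissage.Closure.range_ptIdeal y]; exact subset_closure rfl
    have hcl : closure {w} = Set.univ := by
      rw [i.isClosedEmbedding.isInducing.closure_eq_preimage_closure_image, Set.image_singleton, hw,
        ← Devissage.Closure.range_ptIdeal y, Set.preimage_range]
    exact { isPreirreducible_univ := hcl ▸ isIrreducible_singleton.closure.2
            toNonempty := ⟨w⟩ }
  refine ⟨C, isIntegral_of_irreducibleSpace_of_isReduced _, ?_,
    hsupp ▸ hZ.closure_subset_iff.mpr (Set.singleton_subset_iff.mpr hy)⟩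
  rw [hsupp, VarDim.Basic.topologicalKrullDim_isGenericPoint f
    (show IsGenericPoint y (closure ({y} : Set X)) from rfl), hy1]
  rfl

/-- On an integral proper curve an ample module has no nowhere vanishing section. -/
theorem genLocus_ne_top [IsIntegral X] (hdim : topologicalKrullDim X = 1) {L : X.Modules}
    (hA : CohB1.IsAmple L) (s : Coh.structureModule X ⟶ L) : CohB1.genLocus L s ≠ ⊤ := by
  intro htop
  have haff := H97.GenLocusAffine.isAffineOpen_genLocus (X ↘ Spec (CommRingCat.of k)) hA s
  rw [htop] at haff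
  haveI : IsAffine X := by
    haveI : IsAffine ((⊤ : X.Opens) : Scheme.{u}) := haff
    exact IsAffine.of_isIso X.topIso.inv
  letI : Algebra k Γ(X, ⊤) :=
    RingHom.toAlgebra (S := Γ(X, ⊤)) (Coh.toGlobal (X ↘ Spec (CommRingCat.of k)))
  haveI : Module.Finite k Γ(X, ⊤) := Curves.GlobalSections.finite_toGlobal k X
  have hF : IsField Γ(X, ⊤) := isField_of_isIntegral_of_isField' (Field.toIsField k)
  have h1 : topologicalKrullDim X = topologicalKrullDim (PrimeSpectrum Γ(X, ⊤)) :=
    IsHomeomorph.topologicalKrullDim_eq _ X.isoSpec.hom.homeomorph.isHomeomorph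
  rw [hdim, PrimeSpectrum.topologicalKrullDim_eq_ringKrullDim, ringKrullDim_eq_zero_of_isField hF] at h1
  exact one_ne_zero h1

set_option backward.isDefEq.respectTransparency.types false in
/-- **Globally generated and ample on every curve implies ample.** -/
theorem isAmple {L : X.Modules} (hL : PicF.IsInvertible L) (hgen : ∀ x : X, Ample.GG.GenAt L x)
    (hcurves : ∀ C : X.IdealSheafData, IsIntegral C.subscheme →
      topologicalKrullDim (C.support : Set X) = 1 →
        CohB1.IsAmple ((Scheme.Modules.pullback C.subschemeι).obj L)) :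
    CohB1.IsAmple L := by
  classical
  haveI := Curves.GlobalSections.isNoetherian_of_proper k X
  let q := X ↘ Spec (CommRingCat.of k)
  choose σ hσ using fun x => Ample.GG.exists_genLocus_of_genAt hL (hgen x)
  obtain ⟨F, hF⟩ := isCompact_univ.elim_finite_subcover
    (fun x => (CohB1.genLocus L (σ x) : Set X)) (fun x => (CohB1.genLocus L (σ x)).isOpen)
    fun x _ => Set.mem_iUnion.2 ⟨x, hσ x⟩
  let E : Fin F.card ≃ F := F.equivFin.symm
  let φ : Fin (F.card + 1) → (Coh.structureModule X ⟶ L) := Fin.cons 0 fun i => σ (E i).1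
  let t : Fin (F.card + 1) → ProjUP.Γm L := fun i => sv (φ i) ⊤
  have hlt : ∀ i, ProjMor.Sec.locus (t i) = CohB1.genLocus L (φ i) := fun i =>
    H97.GenLocusAffine.locus_sv (φ i)
  have hcov : ∀ x, ∃ i, x ∈ ProjMor.Sec.locus (t i) := fun x => by
    obtain ⟨y, hy, hxy⟩ := Set.mem_iUnion₂.1 (hF (Set.mem_univ x))
    refine ⟨(E.symm ⟨y, hy⟩).succ, ?_⟩
    rw [hlt]
    simp only [φ, Fin.cons_succ, Equiv.apply_symm_apply]
    exact hxy
  obtain ⟨r, hr, τ, hτ⟩ := ProjMor.Poly.exists_map F.card k q L hL t
    (ProjMor.Embed.generatedBy_of_locus t hcov)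
  let 𝒜 := CohB1.polyGrading F.card k
  let el : Fin (F.card + 1) → 𝒜 1 := fun i =>
    ⟨MvPolynomial.X i, MvPolynomial.isHomogeneous_X k i⟩
  have hcv := ProjMor.Main.cover (ProjMor.Poly.lin_mem F.card k) (ProjMor.Poly.adjoin_lin F.card k)
  have hinv : PicF.IsInvertible (Twist.twist 𝒜 1) :=
    ProjTilde.Invertible.twist_isInvertible_of_cover (fun x => by
      obtain ⟨c, hc⟩ := hcv x
      exact ⟨c, c.2, hc⟩) 1
  have hloc : ∀ i, ProjMor.Sec.locus (t i) =
      r ⁻¹ᵁ Proj.basicOpen 𝒜 (el i : MvPolynomial (Fin (F.card + 1)) k) := fun i => by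
    rw [← ProjMor.Frame.locus_g hcv (el i)]
    exact (congrArg ProjMor.Sec.locus (hτ i)).symm.trans
      ((ProjMor.Sec.locus_iso τ _).trans (ProjMor.Sec.locus_pullback hinv r _))
  haveI := ProjSpace.Basic.isProper_toSpec F.card k
  haveI : IsProper (r ≫ CohB1.ProjSpace.toSpec F.card k) := by rw [hr]; infer_instance
  haveI : IsProper r := IsProper.of_comp r (CohB1.ProjSpace.toSpec F.card k)
  -- closed fibres are finite
  have hfib : ∀ y : CohB1.ProjSpace F.card k, IsClosed ({y} : Set (CohB1.ProjSpace F.card k)) →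
      (r ⁻¹' {y}).Finite := by
    intro y hy
    by_contra hinf
    obtain ⟨C, hC, hCd, hCsub⟩ :=
      exists_curve_of_infinite k (hy.preimage r.continuous) hinf
    haveI := hC
    letI : C.subscheme.Over (Spec (CommRingCat.of k)) := ⟨C.subschemeι ≫ q⟩
    haveI : IsProper (C.subscheme ↘ Spec (CommRingCat.of k)) :=
      inferInstanceAs (IsProper (C.subschemeι ≫ q))
    have hdimC : topologicalKrullDim C.subscheme = 1 := by
      rw [← hCd]
      exact IsHomeomorph.topologicalKrullDim_eq _
        (C.subschemeι.isClosedEmbedding.isEmbedding.toHomeomorph.trans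
          (Homeomorph.setCongr C.range_subschemeι)).isHomeomorph
    obtain ⟨x, hx⟩ : (C.support : Set X).Nonempty := by
      obtain ⟨w⟩ := (inferInstance : Nonempty C.subscheme)
      exact ⟨_, C.range_subschemeι.subset ⟨w, rfl⟩⟩
    obtain ⟨i, hi⟩ := hcov x
    rw [hloc] at hi
    have hsubloc : (C.support : Set X) ⊆ CohB1.genLocus L (φ i) := fun z hz => by
      rw [SetLike.mem_coe, ← hlt, hloc]
      refine (?_ : r z ∈ Proj.basicOpen 𝒜 (el i : MvPolynomial (Fin (F.card + 1)) k))
      rw [show r z = y from hCsub hz]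
      exact (show r x = y from hCsub hx) ▸ hi
    refine genLocus_ne_top k hdimC (hcurves C hC hCd)
      ((PicLoc.pullbackStructureIso C.subschemeι).inv ≫
        (Scheme.Modules.pullback C.subschemeι).map (φ i)) ?_
    refine (genLocus_pullback (f := C.subschemeι) hL (φ i)
      (PicLoc.pullbackStructureIso C.subschemeι).symm).trans ?_
    exact top_le_iff.mp fun w _ => hsubloc (C.range_subschemeι.subset ⟨w, rfl⟩)
  -- hence `r` is finite
  haveI : JacobsonSpace (CohB1.ProjSpace F.card k) :=
    LocallyOfFiniteType.jacobsonSpace (CohB1.ProjSpace.toSpec F.card k)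
  haveI : CompactSpace (CohB1.ProjSpace F.card k) :=
    QuasiCompact.compactSpace_of_compactSpace (CohB1.ProjSpace.toSpec F.card k)
  choose V hV hVfin using fun y : {y : CohB1.ProjSpace F.card k //
      IsClosed ({y} : Set (CohB1.ProjSpace F.card k))} =>
    exists_isFinite_morphismRestrict_of_finite_preimage_singleton r y.1 (hfib y.1 y.2)
  have hsup : iSup V = ⊤ := by
    refine top_le_iff.mp fun z _ => ?_
    obtain ⟨y, hycl, hy⟩ := IsClosed.exists_closed_singleton
      (isClosed_closure (s := ({z} : Set (CohB1.ProjSpace F.card k)))) ⟨z, subset_closure rfl⟩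
    exact Opens.mem_iSup.mpr ⟨⟨y, hy⟩,
      (specializes_iff_mem_closure.2 hycl).mem_open (V ⟨y, hy⟩).isOpen (hV ⟨y, hy⟩)⟩
  haveI : IsFinite r := IsZariskiLocalAtTarget.of_iSup_eq_top (P := @IsFinite) V hsup hVfin
  exact Ample.Pow.isAmple_of_iso τ (Ample.Pullback.isAmple_pullback r
    (Ample.Pullback.isQuasiAffine_of_isAffineHom r) (HProj.QuasiProj.isAmple_twist_projSpace F.card k))

end Groth.Agent.Lib.SurfInt.GGAmple
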