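import Groth.Agent.Lib.SurfInt.Pencil
import Groth.Agent.Lib.SurfInt.JPow
import Groth.Agent.Lib.Curves.GlobalSections
import Groth.Agent.H34.VanishOne

/-!
# A bound for `h⁰` of invertible modules on a surface
-/

set_option autoImplicit false
set_option linter.style.haveILetI false
universe u

open CategoryTheory CategoryTheory.Limits AlgebraicGeometry TopologicalSpace

namespace Groth.Agent.Lib.SurfInt.Bound

open Groth.Agent.Lib Groth.Agent.Lib.Modules Groth.Agent.Lib.Snapper
open Groth.Agent.Lib.Curves.LES (mapK exactK₂ exactK₃)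
open Groth.Agent.Lib.Ideal.Prime (stalkIdeal)
open Groth.Agent.Lib.TensorMod.Basic (tmap comm tensorIso leftUnit rightUnit)

variable {k : Type u} [Field k] {X : Scheme.{u}} [X.Over (Spec (CommRingCat.of k))]

/-- A module with cohomology in degree zero has a nonzero section. -/
theorem exists_hom_of_finrank_ne_zero (M : X.Modules)
    (h : Module.finrank k (Coh.HH X M 0) ≠ 0) : ∃ s : Coh.structureModule X ⟶ M, s ≠ 0 := by
  haveI := Module.nontrivial_of_finrank_pos (R := k) (Nat.pos_of_ne_zero h)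
  obtain ⟨z, hz⟩ := exists_ne (0 : Coh.HH X M 0)
  obtain ⟨s, hs⟩ := Ample.GenLocus.exists_hom_of_sec (L := M)
    (show Γ(M, ⊤) from Curves.GlobalSections.h0Equiv M z)
  refine ⟨s, fun h0 => hz ((Curves.GlobalSections.h0Equiv M).map_eq_zero_iff.mp ?_)⟩
  refine hs.symm.trans ?_
  subst h0
  rfl

/-- Left exactness: `h⁰(S₂) ≤ h⁰(S₁) + h⁰(S₃)`. -/
theorem finrank_h0_le {S : ShortComplex X.Modules} (hS : S.ShortExact)
    [FiniteDimensional k (Coh.HH X S.X₂ 0)] [FiniteDimensional k (Coh.HH X S.X₁ 0)]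
    [FiniteDimensional k (Coh.HH X S.X₃ 0)] :
    Module.finrank k (Coh.HH X S.X₂ 0) ≤
      Module.finrank k (Coh.HH X S.X₁ 0) + Module.finrank k (Coh.HH X S.X₃ 0) := by
  rw [← LinearMap.finrank_range_add_finrank_ker (mapK k S.g 0),
    LinearMap.exact_iff.mp (exactK₂ k hS 0)]
  exact (add_comm _ _).trans_le (add_le_add (LinearMap.finrank_range_le _) (Submodule.finrank_le _))

set_option linter.unusedSectionVars false
set_option linter.overlappingInstances false

variable [IsNoetherian X] [LocallyOfFiniteType (X ↘ Spec (CommRingCat.of k))]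

omit [AlgebraicGeometry.IsNoetherian X] in
theorem isClosed_singleton_of_finite (f : X ⟶ Spec (CommRingCat.of k)) [LocallyOfFiniteType f]
    {B : Set X} (hB : IsClosed B) (hfin : B.Finite) {b : X} (hb : b ∈ B) :
    IsClosed ({b} : Set X) := by
  haveI : JacobsonSpace X := LocallyOfFiniteType.jacobsonSpace f
  have hdisc : IsClosed (B ∩ closedPoints X) := by
    rw [← (B ∩ closedPoints X).biUnion_of_singleton]
    exact (hfin.subset Set.inter_subset_left).isClosed_biUnion fun _ h => h.2
  have hcl := closure_inter_closedPoints hB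
  rw [hdisc.closure_eq] at hcl
  exact (hcl.symm.subset hb).2

/-- A module with finite closed support has no higher cohomology. -/
theorem subsingleton_HH_of_finite (f : X ⟶ Spec (CommRingCat.of k)) [LocallyOfFiniteType f] (F : X.Modules) {B : Set X} (hB : IsClosed B) (hfin : B.Finite)
    (hF : CohB1.support F ⊆ B) {n : ℕ} (hn : 0 < n) : Subsingleton (Coh.HH X F n) := by
  haveI : NoetherianSpace (X.toTopCat : Type u) := inferInstanceAs (NoetherianSpace X)
  haveI : QuasiSober (X.toTopCat : Type u) := inferInstanceAs (QuasiSober X)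
  haveI : T0Space (X.toTopCat : Type u) := inferInstanceAs (T0Space X)
  haveI : TopCat.Sheaf.IsFlasque (X := X.toTopCat) (Coh.toAb F) :=
    H34.VanishOne.isFlasque_of_isZero_stalk_of_not_isClosed (X := X.toTopCat) _ fun x hx =>
      @AddCommGrpCat.isZero_of_subsingleton _ (Support.not_mem_support_iff.mp fun h =>
        hx (isClosed_singleton_of_finite f hB hfin (hF h)))
  obtain ⟨m, rfl⟩ : ∃ m, n = m + 1 := ⟨n - 1, by omega⟩
  exact Lib.ZarCoh.Basic.H_flasque (X := X.toTopCat) (Coh.toAb F) m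

theorem eulerCharLE_of_finite (F : X.Modules) {B : Set X} (hB : IsClosed B) (hfin : B.Finite)
    (hF : CohB1.support F ⊆ B) (d : ℕ) :
    FGA.eulerCharLE k X F d = (Module.finrank k (Coh.HH X F 0) : ℤ) := by
  unfold FGA.eulerCharLE
  rw [Finset.sum_eq_single 0]
  · simp
  · intro i _ hi
    haveI := subsingleton_HH_of_finite (X ↘ Spec (CommRingCat.of k)) F hB hfin hF (Nat.pos_of_ne_zero hi)
    simp [Module.finrank_zero_of_subsingleton]
  · simp

/-- The length is monotone in the subscheme. -/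
theorem finrank_quotMod_le (hfinC : Chi.CohFinite k X) {I J : X.IdealSheafData} (h : I ≤ J)
    (hfin : (I.support : Set X).Finite) :
    Module.finrank k (Coh.HH X (_root_.ClSub.quotMod J) 0) ≤
      Module.finrank k (Coh.HH X (_root_.ClSub.quotMod I) 0) := by
  obtain ⟨π, hπ⟩ := Seq.exists_descend h
  haveI : Epi (_root_.ClSub.toSubscheme J) := ClSub.Quot.epi_toSubscheme J
  haveI : Epi (_root_.ClSub.toSubscheme I ≫ π) := by rw [hπ]; infer_instance
  haveI : Epi π := epi_of_epi (_root_.ClSub.toSubscheme I) π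
  have hS : (ShortComplex.mk (kernel.ι π) π (kernel.condition π)).ShortExact :=
    { exact := ShortComplex.exact_of_f_is_kernel _ (kernelIsKernel π) }
  haveI : FiniteDimensional k (Coh.HH X (_root_.ClSub.quotMod I) 0) :=
    hfinC _ (Effective.isCoh_quotMod I) 0
  haveI := subsingleton_HH_of_finite (X ↘ Spec (CommRingCat.of k)) (kernel π) I.support.isClosed hfin
    ((Support.support_subset_of_mono (kernel.ι π)).trans (ClSub.Quot.support_quotMod I).le)
    (n := 1) Nat.one_pos
  have hsurj : Function.Surjective (mapK k π 0) := fun y =>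
    (exactK₃ k hS 0 1 rfl y).mp (Subsingleton.elim _ _)
  exact LinearMap.finrank_le_finrank_of_surjective hsurj

variable [IsIntegral X] [IsProper (X ↘ Spec (CommRingCat.of k))]
  (hfinC : Chi.CohFinite k X) (hdim : topologicalKrullDim X = 2)

include hfinC hdim

omit [IsProper (X ↘ Spec (CommRingCat.of k))] [LocallyOfFiniteType (X ↘ Spec (CommRingCat.of k))] in
/-- `O(-Z(s))` is the inverse of `H`. -/
theorem intNum_zeroScheme {H N : X.Modules} (hH : PicF.IsInvertible H)
    (s : Coh.structureModule X ⟶ H) (hs : s ≠ 0) (hN : PicF.IsInvertible N) :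
    FGA.intNum k X 2 ![_root_.ClSub.idealMod (PicF2.zeroScheme H s), N] (Coh.structureModule X) =
      - FGA.intNum k X 2 ![H, N] (Coh.structureModule X) := by
  obtain ⟨hZ, ⟨e⟩, -, -⟩ := Div.divisor_spec hH s hs
  exact IntNum.intNum_pair_inverse hfinC hdim.le hH (Effective.isInvertible_idealMod hZ) e hN
    (Twist.isCoh_structureModule X)

variable [Infinite k] (hreg : ∀ x : X, IsRegularLocalRing (X.presheaf.stalk x))
  {H : X.Modules} (hH : PicF.IsInvertible H) (s₁ s₂ : Coh.structureModule X ⟶ H)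
  (hs₁ : s₁ ≠ 0) (hs₂ : s₂ ≠ 0)
  (hfinB : ((PicF2.zeroScheme H s₁ ⊔ PicF2.zeroScheme H s₂).support : Set X).Finite)

include hreg hH hs₁ hs₂ hfinB

/-- The self intersection of `H` is the length of the base scheme of the pencil. -/
theorem intNum_self :
    FGA.intNum k X 2 ![_root_.ClSub.idealMod (PicF2.zeroScheme H s₁),
        _root_.ClSub.idealMod (PicF2.zeroScheme H s₂)] (Coh.structureModule X) =
      FGA.intNum k X 2 ![H, H] (Coh.structureModule X) := by
  have h2 := Effective.isInvertible_idealMod (Div.divisor_spec hH s₂ hs₂).1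
  rw [intNum_zeroScheme hfinC hdim hH s₁ hs₁ h2, IntNum.intNum_pair_comm,
    intNum_zeroScheme hfinC hdim hH s₂ hs₂ hH, neg_neg]

/-- `h⁰(M) ≤ (ν+1)(ν+2)/2 · H²` once `(M·H) < (ν+1) H²`. -/
theorem two_mul_h0_le {M : X.Modules} (hM : PicF.IsInvertible M) (ν : ℕ)
    (hν : FGA.intNum k X 2 ![M, H] (Coh.structureModule X) <
      ((ν + 1 : ℕ) : ℤ) * FGA.intNum k X 2 ![H, H] (Coh.structureModule X)) :
    2 * (Module.finrank k (Coh.HH X M 0) : ℤ) ≤ ((ν + 1 : ℕ) : ℤ) * ((ν + 2 : ℕ) : ℤ) *
      FGA.intNum k X 2 ![H, H] (Coh.structureModule X) := by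
  set F₁ := PicF2.zeroScheme H s₁ with hF₁
  set F₂ := PicF2.zeroScheme H s₂ with hF₂
  set J := (F₁ ⊔ F₂) ^ (ν + 1) with hJ
  have h₁ := (Div.divisor_spec hH s₁ hs₁).1
  have h₂ := (Div.divisor_spec hH s₂ hs₂).1
  have hCM : ∀ x : X, LocCoh.IsCohenMacaulayLocalRing (X.presheaf.stalk x) := fun x =>
    haveI := hreg x
    JacCrit.FlatRegular.isCohenMacaulayLocalRing _
  have hJfin : (J.support : Set X).Finite := by
    rw [hJ, Scheme.IdealSheafData.support_pow_succ]; exact hfinB
  have hS := Twist.twistSeq_shortExact hM (ClSub.Quot.idealSeq_shortExact J)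
  -- the first term has no section
  have hzero : Module.finrank k (Coh.HH X (CohB1.tensorMod M (_root_.ClSub.idealMod J)) 0) = 0 := by
    by_contra hne
    obtain ⟨s', hs'⟩ := exists_hom_of_finrank_ne_zero _ hne
    haveI := Div.mono_gMap J hM
    have hs : s' ≫ Div.gMap J M ≠ 0 := fun h => hs' (by
      rw [← cancel_mono (Div.gMap J M), h, zero_comp])
    obtain ⟨hD, ⟨e⟩, -, hle⟩ := Div.divisor_spec hM _ hs
    set D := PicF2.zeroScheme M (s' ≫ Div.gMap J M) with hD'
    obtain ⟨t, ht, hDfin, hsup⟩ :=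
      Pencil.exists_transversal (k := k) hdim hH s₁ s₂ hs₁ hs₂ hfinB hD
    set F := PicF2.zeroScheme H t with hF
    have hFe := (Div.divisor_spec hH t ht).1
    have hDI := Effective.isInvertible_idealMod hD
    have hFI := Effective.isInvertible_idealMod hFe
    -- `D · F = M · H`
    have hMH : FGA.intNum k X 2 ![_root_.ClSub.idealMod D, _root_.ClSub.idealMod F]
        (Coh.structureModule X) = FGA.intNum k X 2 ![M, H] (Coh.structureModule X) := by
      rw [intNum_zeroScheme hfinC hdim hM _ hs hFI, IntNum.intNum_pair_comm,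
        intNum_zeroScheme hfinC hdim hH t ht hM, neg_neg, IntNum.intNum_pair_comm]
    -- `D · F` is a length
    rw [Effective.intNum_ideals_of_finite hfinC hdim.le (Surface.forall_component hdim) hCM hD hFe
      hDfin] at hMH
    have hle' : D ⊔ F ≤ F₂ ^ (ν + 1) ⊔ F := by
      refine sup_le ((Pencil.le_of_stalkIdeal_le (hle J ⟨s', rfl⟩)).trans ?_) le_sup_right
      have : J ≤ F ⊔ J := le_sup_right
      rw [hJ, ← hsup, sup_comm F F₂, JPow.sup_pow_eq] at this
      rwa [hJ, ← hsup, sup_comm F F₂]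
    have hmono := finrank_quotMod_le hfinC hle' hDfin
    have hfin' : ((F₂ ^ (ν + 1) ⊔ F).support : Set X).Finite :=
      hDfin.subset (Scheme.IdealSheafData.support_antitone hle')
    have hlen := Effective.intNum_ideals_of_finite hfinC hdim.le (Surface.forall_component hdim)
      hCM (Ideal.EffCartier.isEffCartier_pow h₂ (ν + 1)) hFe hfin'
    rw [JPow.intNum_pow hfinC hdim h₂ hFI ν, intNum_zeroScheme hfinC hdim hH s₂ hs₂ hFI,
      IntNum.intNum_pair_comm, intNum_zeroScheme hfinC hdim hH t ht hH, neg_neg] at hlen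
    have : ((Module.finrank k (Coh.HH X (_root_.ClSub.quotMod (F₂ ^ (ν + 1) ⊔ F)) 0) : ℕ) : ℤ) ≤
        (Module.finrank k (Coh.HH X (_root_.ClSub.quotMod (D ⊔ F)) 0) : ℕ) := by
      exact_mod_cast hmono
    linarith
  have hq := Effective.isCoh_quotMod (X := X) J
  haveI : FiniteDimensional k (Coh.HH X ((Twist.twistSeq M (ClSub.Quot.idealSeq J)).X₂) 0) :=
    hfinC _ (Twist.isCoh_twist hM (Twist.isCoh_structureModule X)) 0
  haveI : FiniteDimensional k (Coh.HH X ((Twist.twistSeq M (ClSub.Quot.idealSeq J)).X₁) 0) :=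
    FiniteDimensional.of_injective (mapK k (Twist.twistSeq M (ClSub.Quot.idealSeq J)).f 0)
      (haveI := hS.mono_f; Curves.LES.mapK_injective_of_mono k _)
  haveI : FiniteDimensional k (Coh.HH X ((Twist.twistSeq M (ClSub.Quot.idealSeq J)).X₃) 0) :=
    hfinC _ (Twist.isCoh_twist hM hq) 0
  have hle := finrank_h0_le (k := k) hS
  have hM0 : Module.finrank k (Coh.HH X M 0) ≤
      Module.finrank k (Coh.HH X (CohB1.tensorMod M (_root_.ClSub.idealMod J)) 0) +
        Module.finrank k (Coh.HH X (CohB1.tensorMod M (_root_.ClSub.quotMod J)) 0) := by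
    rw [← (Curves.LES.isoK k (rightUnit M) 0).finrank_eq]
    exact hle
  rw [hzero, zero_add] at hM0
  have hchi := JPow.two_mul_chi hfinC hdim h₁ h₂
    (JPow.regPair (X ↘ Spec (CommRingCat.of k)) hdim hreg h₁ h₂ hfinB) hfinB ν
  rw [← hJ, ← JPow.chi_twist_of_finite hfinC hdim J hJfin hM,
    eulerCharLE_of_finite _ J.support.isClosed hJfin
      ((Twist.support_twist hM _).trans (ClSub.Quot.support_quotMod J)).le,
    intNum_self hfinC hdim hreg hH s₁ s₂ hs₁ hs₂ hfinB] at hchi
  have : (Module.finrank k (Coh.HH X M 0) : ℤ) ≤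
      (Module.finrank k (Coh.HH X (CohB1.tensorMod M (_root_.ClSub.quotMod J)) 0) : ℤ) := by
    exact_mod_cast hM0
  linarith

end Groth.Agent.Lib.SurfInt.Bound
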