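import Groth.Agent.Lib.SurfInt.AmpleVanish
import Groth.Agent.Lib.SurfInt.Effective
import Groth.Agent.Lib.PushClosed.Unit
import Groth.Agent.H34.GlobGen
import Groth.Agent.H34.HOne
import Groth.Agent.Lib.DerivedOX.Calculus
import Groth.Agent.Lib.TensorMod.TensorInv

/-!
# A divisor whose restriction to itself is ample is semiample
-/

set_option autoImplicit false
set_option linter.style.haveILetI false
universe u

open CategoryTheory CategoryTheory.Limits AlgebraicGeometry TopologicalSpace Opposite Abelian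

namespace Groth.Agent.Lib.SurfInt.Semiample

open Groth.Agent.Lib Groth.Agent.Lib.Modules Groth.Agent.Lib.Ample.GG
open Groth.Agent.Lib.TensorMod.Basic (comm assoc tensorIso leftUnit rightUnit)
open Groth.Agent.Lib.Curves.LES (mapK δK exactK₁ exactK₂ isoK)

section Gen

variable {X Z : Scheme.{u}}

/-- Generation by global sections passes to direct images along closed immersions. -/
theorem genAt_push (i : Z ⟶ X) [IsClosedImmersion i] {N : Z.Modules} {z : Z} (h : GenAt N z) :
    GenAt ((Coh.push i).obj N) (i.base z) := by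
  have hb := PushClosed.Unit.bijective_pushStalkMap i N z
  refine eq_top_iff.2 fun v _ => ?_
  suffices key : ∀ w ∈ Submodule.span (Z.presheaf.stalk z)
      (Set.range fun t : Γ(N, ⊤) => gm (memTop z) t),
      ∃ v' ∈ Submodule.span (X.presheaf.stalk (i.base z))
        (Set.range fun t : Γ((Coh.push i).obj N, ⊤) => gm (memTop (i.base z)) t),
        DerivedOX.PullbackStalk.pushStalkMap i z N v' = w by
    obtain ⟨v', hv', e⟩ := key (DerivedOX.PullbackStalk.pushStalkMap i z N v) (h ▸ trivial)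
    exact hb.1 e ▸ hv'
  intro w hw
  induction hw using Submodule.span_induction with
  | mem w hw =>
    obtain ⟨t, rfl⟩ := hw
    exact ⟨_, Submodule.subset_span ⟨t, rfl⟩,
      DerivedOX.PullbackStalk.pushStalkMap_germ i z N (U := ⊤) trivial t⟩
  | zero => exact ⟨0, zero_mem _, map_zero _⟩
  | add a b _ _ ha hb' =>
    obtain ⟨a', ha', rfl⟩ := ha
    obtain ⟨b', hb'', rfl⟩ := hb'
    exact ⟨a' + b', add_mem ha' hb'', map_add _ _ _⟩
  | smul c a _ ha =>
    obtain ⟨a', ha', rfl⟩ := ha
    obtain ⟨c', rfl⟩ := i.stalkMap_surjective z c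
    exact ⟨c' • a', Submodule.smul_mem _ c' ha',
      DerivedOX.PullbackStalk.pushStalkMap_smul i z N c' a'⟩

/-- Sections generate an invertible module where those of a nonzero quotient are lifted. -/
theorem genAt_of_lift {M Q : X.Modules} (hM : PicF.IsInvertible M) (g : M ⟶ Q) [Epi g] {x : X}
    (hsurj : Function.Surjective (g.app ⊤)) (hQ : GenAt Q x) (hx : x ∈ CohB1.support Q) :
    GenAt M x := by
  by_contra hne
  obtain ⟨U, e, hxU, he⟩ := TensorMod.Gen.isInvertible_iff.1 hM x
  have hbe := H34.UFDExt.Gen.IsGen.stalk_bijective (M := M) he hxU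
  let p := StalkModule.stalkMapₗ g x
  have hp : Function.Surjective p := (StalkModule.epi_iff_stalkMapₗ_surjective g).1 inferInstance x
  let P := Submodule.span (X.presheaf.stalk x) (Set.range fun t : Γ(M, ⊤) => gm (memTop x) t)
  have hmap : P.map p = ⊤ := by
    rw [eq_top_iff, ← hQ, Submodule.span_le]
    rintro _ ⟨t, rfl⟩
    obtain ⟨t', rfl⟩ := hsurj t
    exact ⟨_, Submodule.subset_span ⟨t', rfl⟩, StalkModule.stalkMapₗ_germ g (memTop x) t'⟩
  obtain ⟨v, hvP, hv⟩ : p (gm hxU e) ∈ P.map p := hmap ▸ trivial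
  obtain ⟨c, hc⟩ := hbe.2 v
  have hcn : ¬ IsUnit c := fun hu => hne (eq_top_iff.2 fun w _ => by
    obtain ⟨a, rfl⟩ := hbe.2 w
    obtain ⟨d, hd⟩ := hu.exists_left_inv
    have : (a * d) • v ∈ P := Submodule.smul_mem _ _ hvP
    rw [← hc] at this
    simpa only [smul_smul, mul_assoc, hd, mul_one] using this)
  have h0 : p (gm hxU e) = 0 := by
    have hu : IsUnit (1 - c) := IsLocalRing.isUnit_one_sub_self_of_mem_nonunits c hcn
    rw [← hu.smul_eq_zero, sub_smul, one_smul, sub_eq_zero]
    refine hv.symm.trans ?_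
    rw [← hc]
    exact map_smul p _ _
  refine hx (subsingleton_of_forall_eq 0 fun q => ?_)
  obtain ⟨w, rfl⟩ := hp q
  obtain ⟨a, rfl⟩ := hbe.2 w
  exact (map_smul p _ _).trans (by rw [show p (gm hxU e) = 0 from h0, smul_zero])

/-- Generation passes along a map whose cokernel vanishes at the point. -/
theorem genAt_of_map {A B : X.Modules} (f : A ⟶ B) {x : X}
    (hf : Function.Surjective (StalkModule.stalkMapₗ f x)) (h : GenAt A x) : GenAt B x := by
  refine eq_top_iff.2 fun v _ => ?_
  obtain ⟨w, rfl⟩ := hf v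
  exact H34.GlobGen.map_gl_le f x ⟨w, (h.ge Submodule.mem_top : _), rfl⟩

end Gen

variable (k : Type u) [Field k] {X : Scheme.{u}} [X.Over (Spec (CommRingCat.of k))]

include k

/-- An injection in degree one makes global sections surjective. -/
theorem app_top_surjective_of_injective {S : ShortComplex X.Modules} (hS : S.ShortExact)
    (h₁ : Function.Injective (mapK k S.f 1)) : Function.Surjective (S.g.app ⊤) := by
  intro s
  have hS' := H34.HOne.shortExact_toAb hS
  let T := S.map (H34.HOne.ab X)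
  let y := (Lib.ZarCoh.Basic.constEquiv T.X₃).symm (show T.X₃.obj.obj (op ⊤) from s)
  have hδ : δK k hS 0 1 rfl (Ext.mk₀ y) = 0 :=
    h₁ (((exactK₁ k hS 0 1 rfl).apply_apply_eq_zero _).trans (map_zero _).symm)
  obtain ⟨x, hx⟩ := Ext.covariant_sequence_exact₃ _ hS' (Ext.mk₀ y) (zero_add 1) hδ
  obtain ⟨x, rfl⟩ := (Ext.mk₀_bijective _ _).2 x
  rw [Ext.mk₀_comp_mk₀] at hx
  have := (Ext.mk₀_bijective _ _).1 hx
  refine ⟨Lib.ZarCoh.Basic.constEquiv T.X₂ x, ?_⟩
  have h2 := Lib.ZarCoh.Basic.constEquiv_comp x T.g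
  rw [this, Equiv.apply_symm_apply] at h2
  exact h2.symm

variable [IsProper (X ↘ Spec (CommRingCat.of k))]

/-- **A divisor whose restriction to itself is ample is semiample.** -/
theorem eventually_genAt (D : X.IdealSheafData)
    {L : X.Modules} (e : CohB1.tensorMod L (_root_.ClSub.idealMod D) ≅ Coh.structureModule X)
    (hA : CohB1.IsAmple ((Scheme.Modules.pullback D.subschemeι).obj L)) :
    ∃ n₀ : ℕ, ∀ n, n₀ ≤ n → ∀ x : X, GenAt (CohB1.tensorPow L n) x := by
  haveI := Curves.GlobalSections.isNoetherian_of_proper k X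
  letI : D.subscheme.Over (Spec (CommRingCat.of k)) :=
    ⟨D.subschemeι ≫ (X ↘ Spec (CommRingCat.of k))⟩
  haveI : IsProper (D.subscheme ↘ Spec (CommRingCat.of k)) :=
    inferInstanceAs (IsProper (D.subschemeι ≫ (X ↘ Spec (CommRingCat.of k))))
  haveI := Curves.GlobalSections.isNoetherian_of_proper k D.subscheme
  set A := (Scheme.Modules.pullback D.subschemeι).obj L
  have hL : PicF.IsInvertible L := TensorMod.TensorInv.isInvertible_of_tensor_iso e
  obtain ⟨a₁, ha₁⟩ := AmpleVanish.exists_subsingleton k hA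
    (Snapper.Twist.isCoh_structureModule D.subscheme)
  obtain ⟨a₂, ha₂⟩ := eventually_genAt_twist hA _
    (Snapper.Twist.isCoh_structureModule D.subscheme)
  let M : ℕ → X.Modules := fun n => CohB1.tensorPow L n
  have hM : ∀ n, PicF.IsInvertible (M n) := TensorMod.Invertible.isInvertible_tensorPow hL
  let S : ℕ → ShortComplex X.Modules := fun n =>
    Snapper.Twist.twistSeq (M (n + 1)) (ClSub.Quot.idealSeq D)
  have hS : ∀ n, (S n).ShortExact := fun n =>
    Snapper.Twist.twistSeq_shortExact (hM (n + 1)) (ClSub.Quot.idealSeq_shortExact D)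
  let e₁ : ∀ n, (S n).X₁ ≅ M n := fun n => assoc _ _ _ ≪≫ tensorIso (Iso.refl _) e ≪≫ rightUnit _
  let e₂ : ∀ n, (S n).X₂ ≅ M (n + 1) := fun n => rightUnit _
  let e₃ : ∀ n, (S n).X₃ ≅ (Coh.push D.subschemeι).obj (CohB1.tensorPow A (n + 1)) := fun n =>
    (Modules.ProjFormula.projIso D.subschemeι (Modules.DualBasis.hasDBases_of_isFinLocFree
      (TensorMod.LocFree.of_rank (TensorMod.LocFree.of_isInvertible (hM (n + 1)))))).app
        (Coh.structureModule D.subscheme) ≪≫
      (Coh.push D.subschemeι).mapIso (rightUnit _ ≪≫ Ample.Pow.pullbackPow D.subschemeι L (n + 1))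
  -- `H¹` of the restriction vanishes
  have hv : ∀ n, a₁ ≤ n → Subsingleton (Coh.HH X (S n).X₃ 1) := fun n hn => by
    haveI := TensorMod.QCohInv.isQCoh_of_isInvertible (TensorMod.Invertible.isInvertible_tensorPow
      (PicLoc.isInvertible_pullback D.subschemeι hL) (n + 1))
    haveI := ha₁ (n + 1) (by omega) 0
    haveI : Subsingleton (Coh.HH D.subscheme (CohB1.tensorPow A (n + 1)) 1) :=
      (isoK k (leftUnit (CohB1.tensorPow A (n + 1))) 1).symm.toEquiv.subsingleton
    haveI : Subsingleton (Coh.HH X ((Coh.push D.subschemeι).obj (CohB1.tensorPow A (n + 1))) 1) :=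
      (ZarCoh.Morph.affineEquiv D.subschemeι (CohB1.tensorPow A (n + 1)) 1).toEquiv.subsingleton
    exact (isoK k (e₃ n) 1).toEquiv.subsingleton
  -- so `H¹(Lⁿ)` stabilises
  let h : ℕ → ℕ := fun n => Module.finrank k (Coh.HH X (M n) 1)
  obtain ⟨n₁, hn₁, hmin⟩ : ∃ n₁, a₁ ≤ n₁ ∧ ∀ n, a₁ ≤ n → h n₁ ≤ h n := by
    classical
    have hex : ∃ d, ∃ n, a₁ ≤ n ∧ h n = d := ⟨_, a₁, le_rfl, rfl⟩
    obtain ⟨n₁, hn₁, e'⟩ := Nat.find_spec hex
    exact ⟨n₁, hn₁, fun n hn => e' ▸ Nat.find_min' hex ⟨n, hn, rfl⟩⟩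
  have hfin : ∀ N : X.Modules, PicF.IsInvertible N → Module.Finite k (Coh.HH X N 1) := fun N hN =>
    Snapper.Finite.cohFinite k X N (isCoh_of_isInvertible hN) 1
  have hsur : ∀ n, a₁ ≤ n → Function.Surjective (mapK k (S n).f 1) := fun n hn y =>
    (exactK₂ k (hS n) 1 y).mp ((hv n hn).elim _ _)
  have hf₁ : ∀ n, FiniteDimensional k (Coh.HH X (S n).X₁ 1) := fun n => by
    haveI := hfin _ (hM n)
    exact Module.Finite.equiv (isoK k (e₁ n) 1).symm
  have hdec : ∀ n, a₁ ≤ n → h (n + 1) ≤ h n := fun n hn => by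
    haveI := hf₁ n
    have := LinearMap.finrank_le_finrank_of_surjective (hsur n hn)
    rwa [(isoK k (e₁ n) 1).finrank_eq, (isoK k (e₂ n) 1).finrank_eq] at this
  have hconst : ∀ n, n₁ ≤ n → h n = h n₁ := fun n hn => by
    refine le_antisymm ?_ (hmin n (hn₁.trans hn))
    induction n, hn using Nat.le_induction with
    | base => exact le_rfl
    | succ n hn ih => exact (hdec n (hn₁.trans hn)).trans ih
  have hinj : ∀ n, n₁ ≤ n → Function.Injective (mapK k (S n).f 1) := fun n hn => by
    haveI := hf₁ n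
    haveI := hfin _ (hM (n + 1))
    haveI : FiniteDimensional k (Coh.HH X (S n).X₂ 1) :=
      Module.Finite.equiv (isoK k (e₂ n) 1).symm
    refine (LinearMap.injective_iff_surjective_of_finrank_eq_finrank ?_).2 (hsur n (hn₁.trans hn))
    rw [(isoK k (e₁ n) 1).finrank_eq, (isoK k (e₂ n) 1).finrank_eq]
    exact (hconst n hn).trans (hconst (n + 1) (by omega)).symm
  -- off `D`
  have hout : ∀ (x : X), x ∉ D.support → ∀ n, GenAt (M n) x := by
    intro x hx n
    induction n with
    | zero => exact H34.GlobGen.gl_eq_top_of_gg (H34.GlobGen.gg_structureModule X) x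
    | succ n ih =>
      have hsub : Subsingleton ((S n).X₃.presheaf.stalk x) := by
        by_contra hc
        have : x ∈ CohB1.support (S n).X₃ := hc
        rw [show (S n).X₃ = CohB1.tensorMod (M (n + 1)) (_root_.ClSub.quotMod D) from rfl,
          Snapper.Twist.support_twist (hM _), ClSub.Quot.support_quotMod] at this
        exact hx this
      have hfs : Function.Surjective (StalkModule.stalkMapₗ (S n).f x) :=
        fun v => ((DerivedOX.Calculus.stalk_shortExact (hS n) x).2.2 v).mp (hsub.elim _ _)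
      exact (genAt_of_map (S n).f hfs (ih.of_iso (e₁ n).symm)).of_iso (e₂ n)
  refine ⟨max n₁ a₂ + 1, fun n hn x => ?_⟩
  obtain ⟨n, rfl⟩ : ∃ m, n = m + 1 := ⟨n - 1, by omega⟩
  by_cases hx : x ∈ D.support
  · obtain ⟨z, rfl⟩ : x ∈ Set.range D.subschemeι := by rw [D.range_subschemeι]; exact hx
    have hQ : GenAt (S n).X₃ (D.subschemeι.base z) :=
      (genAt_push D.subschemeι ((ha₂ (n + 1) (by omega) z).of_iso (leftUnit _))).of_iso (e₃ n).symm
    haveI := (hS n).epi_g
    have hM2 : PicF.IsInvertible (S n).X₂ :=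
      TensorMod.Invertible.isInvertible_tensorMod (hM _)
        (TensorMod.Invertible.isInvertible_tensorPow hL 0)
    refine (genAt_of_lift hM2 (S n).g
      (app_top_surjective_of_injective k (hS n) (hinj n (by omega))) hQ ?_).of_iso (e₂ n)
    rw [show (S n).X₃ = CohB1.tensorMod (M (n + 1)) (_root_.ClSub.quotMod D) from rfl,
      Snapper.Twist.support_twist (hM _), ClSub.Quot.support_quotMod]
    exact hx
  · exact hout x hx (n + 1)

end Groth.Agent.Lib.SurfInt.Semiample
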