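import Groth.Agent.Lib.SurfInt.AmpleVanish
import Groth.Agent.Lib.Curves.Degree
import Groth.Agent.Lib.Snapper.Twist
import Groth.Agent.Lib.TensorMod.Invertible

/-!
# `H¹` vanishes in large degree on an integral projective curve, over any field
-/

set_option autoImplicit false
set_option linter.style.haveILetI false
universe u

open CategoryTheory CategoryTheory.Limits AlgebraicGeometry

namespace Groth.Agent.Lib.SurfInt.CurveH1

open Groth.Agent.Lib Groth.Agent.Lib.Snapper
open Groth.Agent.Lib.TensorMod.Basic (comm assoc tensorIso leftUnit rightUnit)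
open Groth.Agent.Lib.Curves.LES (exactK₂ isoK)

variable (k : Type u) [Field k] {C : Scheme.{u}} [C.Over (Spec (CommRingCat.of k))]
  [IsProper (C ↘ Spec (CommRingCat.of k))] [IsIntegral C]

/-- A degree beyond which `H¹` vanishes. -/
theorem exists_bound (hdim : topologicalKrullDim C ≤ 1) {H : C.Modules} (hH : CohB1.IsAmple H) :
    ∃ b : ℤ, ∀ L : C.Modules, PicF.IsInvertible L → b < Curv2.deg k C L 1 →
      Subsingleton (Coh.HH C L 1) := by
  haveI := Curves.GlobalSections.isNoetherian_of_proper k C
  have hO := PicLoc.isInvertible_structureModule C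
  obtain ⟨n₀, hn₀⟩ := AmpleVanish.exists_subsingleton k hH (Ample.GG.isCoh_of_isInvertible hO)
  let A := CohB1.tensorPow H n₀
  have hA : PicF.IsInvertible A := TensorMod.Invertible.isInvertible_tensorPow hH.1 n₀
  refine ⟨Curv2.deg k C A 1 - Curv2.euler k C (Coh.structureModule C), fun L hL hdeg => ?_⟩
  let A' := TensorMod.Dual.dual A
  have hA' := TensorMod.Invertible.isInvertible_dual hA
  let N := CohB1.tensorMod L A'
  have hN : PicF.IsInvertible N := TensorMod.Invertible.isInvertible_tensorMod hL hA'
  have hdA : Curv2.deg k C A' 1 = - Curv2.deg k C A 1 := by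
    have h := Curves.Degree.deg_tensor (k := k) hdim hA hA'
    rw [Curves.Euler.deg_eq_of_iso (TensorMod.Invertible.tensorDualIso hA) 1] at h
    simp only [Curv2.deg, Nat.cast_one, one_mul, sub_self, A'] at h ⊢
    omega
  have hpos : 0 < Curv2.euler k C N := by
    have h := Curves.Degree.deg_tensor (k := k) hdim hL hA'
    rw [hdA] at h
    simp only [Curv2.deg, Nat.cast_one, one_mul, N, A'] at h hdeg ⊢
    omega
  have gN := Curves.Degree.isGood (k := k) hdim hN
  rw [Curves.Euler.euler_eq gN.vanish] at hpos
  have hnt : Nontrivial (Coh.HH C N 0) := by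
    rw [← not_subsingleton_iff_nontrivial]
    intro hs
    have : Curves.Euler.hdim k C N 0 = 0 := Module.finrank_zero_of_subsingleton
    omega
  obtain ⟨s, hs⟩ := Curves.Positivity.exists_section_of_nontrivial hnt
  haveI := Curves.Positivity.mono_of_ne_zero hO hN hs
  have hS := Twist.twistSeq_shortExact hA (Curves.Positivity.cokerSES_shortExact s)
  have hT : Curves.Positivity.IsTorsion (CohB1.tensorMod A (cokernel s)) := fun x hx => by
    refine Modules.Support.not_mem_support_iff.mp fun h => ?_
    rw [Twist.support_twist hA] at h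
    exact Modules.Support.not_mem_support_iff.mpr (Curves.Positivity.isTorsion_cokernel hO hN hs x hx) h
  haveI : Subsingleton (Coh.HH C (Twist.twistSeq A (Curves.Positivity.cokerSES s)).X₃ 1) :=
    hT.subsingleton_HH_succ hdim 0
  haveI : Subsingleton (Coh.HH C (Twist.twistSeq A (Curves.Positivity.cokerSES s)).X₁ 1) := by
    haveI := hn₀ n₀ le_rfl 0
    exact (isoK k (comm A (Coh.structureModule C)) 1).toEquiv.subsingleton
  have hmid : Subsingleton (Coh.HH C (Twist.twistSeq A (Curves.Positivity.cokerSES s)).X₂ 1) := by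
    refine subsingleton_of_forall_eq 0 fun y => ?_
    obtain ⟨x, hx⟩ := (exactK₂ k hS 1 y).mp (Subsingleton.elim _ _)
    rw [← hx, Subsingleton.elim x 0]
    exact map_zero _
  let e : L ≅ CohB1.tensorMod A N :=
    (rightUnit L).symm ≪≫ tensorIso (Iso.refl L) ((TensorMod.Invertible.tensorDualIso hA).symm ≪≫ comm A A') ≪≫
      (assoc _ _ _).symm ≪≫ comm N A
  exact @Equiv.subsingleton _ _ (isoK k e 1).toEquiv hmid

end Groth.Agent.Lib.SurfInt.CurveH1
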