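import Groth.Agent.Lib.SurfInt.Hodge
import Groth.Agent.Lib.Snapper.Finite
import Groth.Agent.Lib.Curves.Clifford
import Groth.Agent.Lib.SurfInt.CurveH1
import Groth.Agent.Lib.ProjMor.Conv
import Groth.Agent.Lib.ProjSpace.Basic
import Groth.Agent.Lib.ProjSpace.BaseChange
import Groth.Agent.Lib.Ample.Pullback
import Groth.Agent.Lib.HProj.QuasiProj
import Groth.Agent.Lib.Ample.Pow
import Groth.Agent.Lib.ProperFin.Projective
import Groth.Agent.Lib.ProjCoh.Coherent

/-!
# `H²` on a surface: monotonicity, vanishing on curves, Serre vanishing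
-/

set_option autoImplicit false
set_option linter.style.haveILetI false
set_option linter.unusedSectionVars false
universe u

open CategoryTheory CategoryTheory.Limits AlgebraicGeometry

namespace Groth.Agent.Lib.SurfInt.H2Basic

open Groth.Agent.Lib Groth.Agent.Lib.Modules Groth.Agent.Lib.Snapper
open Groth.Agent.Lib.TensorMod.Basic (tmap comm assoc tensorIso leftUnit rightUnit)
open Groth.Agent.Lib.TensorMod.Invertible (isInvertible_tensorPow isInvertible_tensorMod)
open Groth.Agent.Lib.Curves.LES (mapK exactK₁ exactK₂ isoK)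

variable {k : Type u} [Field k] {X : Scheme.{u}} [X.Over (Spec (CommRingCat.of k))]
  [IsIntegral X] [IsNoetherian X] [IsProper (X ↘ Spec (CommRingCat.of k))]

variable (k) in
/-- A proper scheme with an ample module is a closed subscheme of projective space. -/
theorem exists_closedImmersion {H : X.Modules} (hH : CohB1.IsAmple H) :
    ∃ (r : ℕ) (ι : X ⟶ CohB1.ProjSpace r k), IsClosedImmersion ι ∧
      ι ≫ CohB1.ProjSpace.toSpec r k = X ↘ Spec (CommRingCat.of k) := by
  obtain ⟨n₀, hn⟩ := ProjMor.Conv.eventually_veryAmple_pow (X ↘ Spec (CommRingCat.of k)) hH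
  obtain ⟨r, i, hi, hc, -⟩ := hn n₀ le_rfl
  let j := i ≫ (ProjSpace.BaseChange.overSpecIso r k).hom
  have hj : j ≫ CohB1.ProjSpace.toSpec r k = X ↘ Spec (CommRingCat.of k) := by
    rw [Category.assoc, ProjSpace.BaseChange.overSpecIso_hom_toSpec]
    exact hc
  haveI : IsImmersion j := inferInstance
  haveI : IsProper (j ≫ CohB1.ProjSpace.toSpec r k) := by rw [hj]; infer_instance
  haveI : IsProper j := IsProper.of_comp j (CohB1.ProjSpace.toSpec r k)
  exact ⟨r, j, IsClosedImmersion.of_isPreimmersion j (j.isClosedMap.isClosed_range), hj⟩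

variable (hdim : topologicalKrullDim X = 2)

include k hdim

/-- The support of a divisor has dimension at most one. -/
theorem dim_divisor_le (f : X ⟶ Spec (CommRingCat.of k)) [LocallyOfFiniteType f]
    {D : X.IdealSheafData} (hD : BlowUp.IsEffCartierIdeal D) :
    topologicalKrullDim D.subscheme ≤ 1 := by
  rw [Surface.dim_subscheme]
  refine (VarDim.Basic.topologicalKrullDim_le_iff f
    D.support.isClosed.isLocallyClosed _).2 fun x hx => ?_
  have hlt : VarDim.Basic.pdim f x < 2 := by
    by_contra hge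
    refine Ideal.Prime.not_maximalPoint_of_mem_support hD hx fun z hz => ?_
    rw [Curve.eq_genericPoint_of_two_le f hdim (not_lt.mp hge)] at hz ⊢
    exact ((genericPoint_spec X).specializes (Set.mem_univ z)).antisymm hz |>.eq.symm
  exact_mod_cast (show VarDim.Basic.pdim f x ≤ 1 by omega)

/-- `H²` of a module restricted to a divisor vanishes. -/
theorem subsingleton_h2_quot {D : X.IdealSheafData} (hD : BlowUp.IsEffCartierIdeal D)
    {M : X.Modules} (hM : PicF.IsInvertible M) :
    Subsingleton (Coh.HH X (CohB1.tensorMod M (_root_.ClSub.quotMod D)) 2) := by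
  let P := (Scheme.Modules.pullback D.subschemeι).obj M
  have hE := Modules.DualBasis.hasDBases_of_isFinLocFree
    (TensorMod.LocFree.of_rank (TensorMod.LocFree.of_isInvertible hM))
  have e' : CohB1.tensorMod M (_root_.ClSub.quotMod D) ≅ (Coh.push D.subschemeι).obj P :=
    (Modules.ProjFormula.projIso D.subschemeι hE).app (Coh.structureModule D.subscheme) ≪≫
      (Coh.push D.subschemeι).mapIso (rightUnit P)
  haveI : P.IsQuasicoherent :=
    TensorMod.QCohInv.isQCoh_of_isInvertible (PicLoc.isInvertible_pullback D.subschemeι hM)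
  haveI : IsLocallyNoetherian D.subscheme := LocallyOfFiniteType.isLocallyNoetherian D.subschemeι
  haveI : CompactSpace D.subscheme := QuasiCompact.compactSpace_of_compactSpace D.subschemeι
  haveI : IsNoetherian D.subscheme := ⟨⟩
  haveI := Chi.subsingleton_HH_of_lt (d := 1)
    (by exact_mod_cast dim_divisor_le hdim (X ↘ Spec (CommRingCat.of k)) hD) P (p := 2) (by norm_num)
  haveI : Subsingleton (Coh.HH X ((Coh.push D.subschemeι).obj P) 2) :=
    (ZarCoh.Morph.affineEquiv D.subschemeι P 2).toEquiv.subsingleton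
  exact (isoK k e' 2).toEquiv.subsingleton

/-- Adding an effective divisor keeps `H² = 0`. -/
theorem subsingleton_h2_tensor {A M : X.Modules} (hA : PicF.IsInvertible A)
    (hM : PicF.IsInvertible M) (s : Coh.structureModule X ⟶ A) (hs : s ≠ 0)
    (h : Subsingleton (Coh.HH X M 2)) : Subsingleton (Coh.HH X (CohB1.tensorMod M A) 2) := by
  obtain ⟨hD, ⟨e⟩, -, -⟩ := Div.divisor_spec hA s hs
  set D := PicF2.zeroScheme A s
  have hMA := isInvertible_tensorMod hM hA
  have hS := Twist.twistSeq_shortExact hMA (ClSub.Quot.idealSeq_shortExact D)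
  let e₁ : CohB1.tensorMod (CohB1.tensorMod M A) (_root_.ClSub.idealMod D) ≅ M :=
    assoc M A _ ≪≫ tensorIso (Iso.refl M) e ≪≫ rightUnit M
  haveI := h
  haveI : Subsingleton (Coh.HH X (Twist.twistSeq (CohB1.tensorMod M A) (ClSub.Quot.idealSeq D)).X₁ 2) :=
    (isoK k e₁ 2).toEquiv.subsingleton
  haveI : Subsingleton (Coh.HH X (Twist.twistSeq (CohB1.tensorMod M A) (ClSub.Quot.idealSeq D)).X₃ 2) :=
    subsingleton_h2_quot (k := k) hdim hD hMA
  haveI : Subsingleton (Coh.HH X (Twist.twistSeq (CohB1.tensorMod M A) (ClSub.Quot.idealSeq D)).X₂ 2) := by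
    refine subsingleton_of_forall_eq 0 fun y => ?_
    obtain ⟨x, hx⟩ := (exactK₂ k hS 2 y).mp (Subsingleton.elim _ _)
    rw [← hx, Subsingleton.elim x 0]
    exact map_zero _
  exact @Equiv.subsingleton _ _ (isoK k (rightUnit (CohB1.tensorMod M A)) 2).symm.toEquiv
    (inferInstanceAs (Subsingleton
      (Coh.HH X (Twist.twistSeq (CohB1.tensorMod M A) (ClSub.Quot.idealSeq D)).X₂ 2)))

omit hdim in
/-- The degree beyond which `H¹` of a module on an integral curve vanishes. -/
noncomputable def h1Bound (k : Type u) [Field k] {X : Scheme.{u}} [X.Over (Spec (CommRingCat.of k))]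
    (C : X.IdealSheafData) : ℤ :=
  letI := Surface.overSub (k := k) C
  open scoped Classical in
  if h : ∃ b : ℤ, ∀ L : C.subscheme.Modules, PicF.IsInvertible L →
      b < Curv2.deg k C.subscheme L 1 → Subsingleton (Coh.HH C.subscheme L 1) then h.choose else 0

/-- `H¹` of a module on an integral curve vanishes in large degree. -/
theorem subsingleton_h1_curve {H : X.Modules} (hH : CohB1.IsAmple H) (C : X.IdealSheafData)
    [IsIntegral C.subscheme]
    (hCd : topologicalKrullDim (C.support : Set X) = 1)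
    (hI : PicF.IsInvertible (_root_.ClSub.idealMod C)) {M : X.Modules} (hM : PicF.IsInvertible M)
    (h : h1Bound k C <
      - FGA.intNum k X 2 ![_root_.ClSub.idealMod C, M] (Coh.structureModule X)) :
    Subsingleton (Coh.HH X (CohB1.tensorMod M (_root_.ClSub.quotMod C)) 1) := by
  letI := Surface.overSub (k := k) C
  haveI : IsProper (C.subscheme ↘ Spec (CommRingCat.of k)) :=
    inferInstanceAs (IsProper (C.subschemeι ≫ (X ↘ Spec (CommRingCat.of k))))
  let P := (Scheme.Modules.pullback C.subschemeι).obj M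
  have hP := PicLoc.isInvertible_pullback C.subschemeι hM
  have hCd' : topologicalKrullDim C.subscheme ≤ 1 := by rw [Surface.dim_subscheme, hCd]
  rw [Surface.intNum_ideal_eq_neg_deg (Finite.cohFinite k X) (d := 2) hdim.le hI hM, neg_neg] at h
  have hex : ∃ b : ℤ, ∀ L : C.subscheme.Modules, PicF.IsInvertible L →
      b < Curv2.deg k C.subscheme L 1 → Subsingleton (Coh.HH C.subscheme L 1) :=
    CurveH1.exists_bound k hCd' (Ample.Pullback.isAmple_pullback C.subschemeι
      (Ample.Pullback.isQuasiAffine_of_isAffineHom _) hH)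
  rw [h1Bound, dif_pos hex] at h
  haveI : Subsingleton (Coh.HH C.subscheme P 1) := hex.choose_spec P hP h
  have hE := Modules.DualBasis.hasDBases_of_isFinLocFree
    (TensorMod.LocFree.of_rank (TensorMod.LocFree.of_isInvertible hM))
  have e' : CohB1.tensorMod M (_root_.ClSub.quotMod C) ≅ (Coh.push C.subschemeι).obj P :=
    (Modules.ProjFormula.projIso C.subschemeι hE).app (Coh.structureModule C.subscheme) ≪≫
      (Coh.push C.subschemeι).mapIso (rightUnit P)
  haveI : P.IsQuasicoherent := TensorMod.QCohInv.isQCoh_of_isInvertible hP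
  haveI : Subsingleton (Coh.HH X ((Coh.push C.subschemeι).obj P) 1) :=
    (ZarCoh.Morph.affineEquiv C.subschemeι P 1).toEquiv.subsingleton
  exact (isoK k e' 1).toEquiv.subsingleton

/-- Removing a curve on which the degree is large keeps `H² = 0`. -/
theorem subsingleton_h2_sub {H : X.Modules} (hH : CohB1.IsAmple H) (C : X.IdealSheafData)
    [IsIntegral C.subscheme]
    (hCd : topologicalKrullDim (C.support : Set X) = 1)
    (hI : PicF.IsInvertible (_root_.ClSub.idealMod C)) {M : X.Modules} (hM : PicF.IsInvertible M)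
    (h : h1Bound k C <
      - FGA.intNum k X 2 ![_root_.ClSub.idealMod C, M] (Coh.structureModule X))
    (h2 : Subsingleton (Coh.HH X M 2)) :
    Subsingleton (Coh.HH X (CohB1.tensorMod M (_root_.ClSub.idealMod C)) 2) := by
  have hS := Twist.twistSeq_shortExact hM (ClSub.Quot.idealSeq_shortExact C)
  haveI : Subsingleton (Coh.HH X (Twist.twistSeq M (ClSub.Quot.idealSeq C)).X₃ 1) :=
    subsingleton_h1_curve hdim hH C hCd hI hM h
  haveI := h2
  haveI : Subsingleton (Coh.HH X (Twist.twistSeq M (ClSub.Quot.idealSeq C)).X₂ 2) :=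
    (isoK k (rightUnit M) 2).toEquiv.subsingleton
  show Subsingleton (Coh.HH X (Twist.twistSeq M (ClSub.Quot.idealSeq C)).X₁ 2)
  refine subsingleton_of_forall_eq 0 fun y => ?_
  obtain ⟨x, hx⟩ := (exactK₁ k hS 1 2 rfl y).mp (Subsingleton.elim _ _)
  rw [← hx, Subsingleton.elim x 0]
  exact map_zero _

/-- Serre vanishing for `H²` along the powers of an ample module, weak form. -/
theorem exists_subsingleton_h2_twist {H L : X.Modules} (hH : CohB1.IsAmple H)
    (hL : PicF.IsInvertible L) :
    ∃ c : ℕ, 0 < c ∧ ∃ d₀ : ℕ, ∀ d, d₀ ≤ d →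
      Subsingleton (Coh.HH X (CohB1.tensorMod L (CohB1.tensorPow H (c * d))) 2) := by
  obtain ⟨r, ι, hι, hιs⟩ := exists_closedImmersion k hH
  haveI := hι
  set O1 := ProjCoh.Coherent.tw r k 1
  set H₀ := (Scheme.Modules.pullback ι).obj O1
  have hO1 : PicF.IsInvertible O1 := ProjCoh.Coherent.isInvertible_tw 1
  have hH₀ : PicF.IsInvertible H₀ := PicLoc.isInvertible_pullback ι hO1
  -- `H^c = H₀ + effective`
  have hd := TensorMod.Invertible.isInvertible_dual hH₀
  obtain ⟨n₀, hn₀⟩ := Ample.GG.eventually_genAt_twist hH _ (Ample.GG.isCoh_of_isInvertible hd)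
  let c := n₀ + 1
  set A := CohB1.tensorMod (TensorMod.Dual.dual H₀) (CohB1.tensorPow H c) with hAdef
  have hA : PicF.IsInvertible A := isInvertible_tensorMod hd (isInvertible_tensorPow hH.1 c)
  obtain ⟨σ, hσ⟩ :=
    Ample.GG.exists_genLocus_of_genAt hA (hn₀ c (by omega) (genericPoint X))
  let eH : CohB1.tensorPow H c ≅ CohB1.tensorMod H₀ A :=
    (leftUnit _).symm ≪≫ tensorIso (TensorMod.Invertible.tensorDualIso hH₀).symm (Iso.refl _) ≪≫
      assoc _ _ _
  -- vanishing for the powers of `H₀`
  haveI : L.IsQuasicoherent := TensorMod.QCohInv.isQCoh_of_isInvertible hL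
  obtain ⟨d₀, hd₀⟩ := ProjCoh.Coherent.exists_forall_subsingleton_tensorPow
    ((Coh.push ι).obj L) (ProperFin.Projective.isCoh_push_closed ι hL)
  refine ⟨c, Nat.succ_pos _, d₀ + 1, fun d hd' => ?_⟩
  have hbase : Subsingleton (Coh.HH X (CohB1.tensorMod L (CohB1.tensorPow H₀ d)) 2) := by
    have hPd := isInvertible_tensorPow hO1 d
    let N' := CohB1.tensorMod L (CohB1.tensorPow H₀ d)
    let e : CohB1.tensorMod ((Coh.push ι).obj L) (CohB1.tensorPow O1 d) ≅ (Coh.push ι).obj N' :=
      comm _ _ ≪≫ (Modules.ProjFormula.projIso ι (E := CohB1.tensorPow O1 d)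
        (Modules.DualBasis.hasDBases_of_isFinLocFree
          (TensorMod.LocFree.of_rank (TensorMod.LocFree.of_isInvertible hPd)))).app L ≪≫
      (Coh.push ι).mapIso (comm _ _ ≪≫ tensorIso (Iso.refl L) (Ample.Pow.pullbackPow ι O1 d))
    haveI := TensorMod.QCohInv.isQCoh_of_isInvertible
      (isInvertible_tensorMod hL (isInvertible_tensorPow hH₀ d))
    haveI := hd₀ d (by omega) 1
    haveI : Subsingleton (Coh.HH (CohB1.ProjSpace r k) ((Coh.push ι).obj N') 2) :=
      (isoK k e 2).symm.toEquiv.subsingleton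
    exact (ZarCoh.Morph.affineEquiv ι N' 2).toEquiv.symm.subsingleton
  have hAd := isInvertible_tensorPow hA d
  have hσd : SecTwist.powHom σ d ≠ 0 := Pencil.ne_zero_of_mem_genLocus hAd (x := genericPoint X)
    (by rw [Ample.GenLocus.genLocus_powHom hA σ _ (by omega)]; exact hσ)
  haveI := subsingleton_h2_tensor (k := k) hdim hAd
    (isInvertible_tensorMod hL (isInvertible_tensorPow hH₀ d)) (SecTwist.powHom σ d) hσd hbase
  let e : CohB1.tensorMod L (CohB1.tensorPow H (c * d)) ≅
      CohB1.tensorMod (CohB1.tensorMod L (CohB1.tensorPow H₀ d)) (CohB1.tensorPow A d) :=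
    tensorIso (Iso.refl L) ((Ample.Pow.powMul H c d).symm ≪≫
      Ample.Pow.powIso eH d ≪≫ Ample.Pow.powTensor H₀ A d) ≪≫ (assoc _ _ _).symm
  exact (isoK k e 2).toEquiv.subsingleton

end Groth.Agent.Lib.SurfInt.H2Basic
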