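import Groth.Agent.Lib.SurfInt.Stalk
import Mathlib.LinearAlgebra.TensorProduct.RightExactness

/-!
# `0 ⟶ I_C ⊗ O_D ⟶ O_D ⟶ O/(I_C + I_D) ⟶ 0`
-/

set_option autoImplicit false
set_option linter.style.haveILetI false
universe u

open CategoryTheory CategoryTheory.Limits AlgebraicGeometry Opposite TopologicalSpace
open scoped TensorProduct

namespace Groth.Agent.Lib.SurfInt.Seq

open Groth.Agent.Lib Groth.Agent.Lib.Modules Groth.Agent.Lib.SurfInt.Stalk
open Groth.Agent.Lib.Ideal.Prime (stalkIdeal stalkIdeal_eq)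

noncomputable section

variable {X : Scheme.{u}}

theorem stalkIdeal_mono {I J : X.IdealSheafData} (h : I ≤ J) (x : X) :
    stalkIdeal I x ≤ stalkIdeal J x := by
  obtain ⟨U, hU, hxU, -⟩ := exists_isAffineOpen_mem_and_subset
    (show x ∈ (⊤ : X.Opens) from trivial)
  rw [stalkIdeal_eq I ⟨U, hU⟩ hxU, stalkIdeal_eq J ⟨U, hU⟩ hxU]
  exact Ideal.map_mono (h ⟨U, hU⟩)

/-- The surjection `O/I ⟶ O/J` for `I ≤ J`. -/
theorem exists_descend {I J : X.IdealSheafData} (h : I ≤ J) :
    ∃ π : _root_.ClSub.quotMod I ⟶ _root_.ClSub.quotMod J,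
      _root_.ClSub.toSubscheme I ≫ π = _root_.ClSub.toSubscheme J := by
  have w : _root_.ClSub.idealModι I ≫ _root_.ClSub.toSubscheme J = 0 := by
    refine StalkModule.hom_ext_stalkMapₗ fun x => LinearMap.ext fun a => ?_
    rw [StalkModule.stalkMapₗ_comp, StalkModule.stalkMapₗ_zero]
    have hmem : idealStalk I x a ∈ LinearMap.ker (quotStalk J x) := by
      rw [ker_quotStalk]
      exact stalkIdeal_mono h x (range_idealStalk I x ▸ LinearMap.mem_range_self _ a)
    simpa [quotStalk, idealStalk] using LinearMap.mem_ker.mp hmem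
  obtain ⟨l, hl⟩ := CokernelCofork.IsColimit.desc'
    (ClSub.Quot.idealSeq_shortExact I).gIsCokernel (_root_.ClSub.toSubscheme J) w
  exact ⟨l, hl⟩

theorem stalkMapₗ_descend {I J : X.IdealSheafData}
    {π : _root_.ClSub.quotMod I ⟶ _root_.ClSub.quotMod J}
    (hπ : _root_.ClSub.toSubscheme I ≫ π = _root_.ClSub.toSubscheme J) (x : X)
    (r : X.presheaf.stalk x) :
    StalkModule.stalkMapₗ π x (quotStalk I x r) = quotStalk J x r := by
  simp only [quotStalk, ← hπ, StalkModule.stalkMapₗ_comp]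
  rfl

/-- The sequence of a divisor `C` restricted to the subscheme `D`, when an equation of `C` is a
nonzerodivisor on `O_D` at every point. -/
theorem exists_cutSeq (C D : X.IdealSheafData)
    (hreg : ∀ x : X, ∃ c : X.presheaf.stalk x, c ∈ nonZeroDivisors (X.presheaf.stalk x) ∧
      stalkIdeal C x = Ideal.span {c} ∧ ∀ a, c * a ∈ stalkIdeal D x → a ∈ stalkIdeal D x) :
    ∃ (f : CohB1.tensorMod (_root_.ClSub.idealMod C) (_root_.ClSub.quotMod D) ⟶
        _root_.ClSub.quotMod D)
      (g : _root_.ClSub.quotMod D ⟶ _root_.ClSub.quotMod (C ⊔ D)) (w : f ≫ g = 0),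
      (ShortComplex.mk f g w).ShortExact := by
  obtain ⟨π, hπ⟩ := exists_descend (le_sup_right : D ≤ C ⊔ D)
  let ι := _root_.ClSub.idealModι C
  let f := act ι (_root_.ClSub.quotMod D)
  have hf : ∀ (x : X) (c : X.presheaf.stalk x), c ∈ nonZeroDivisors (X.presheaf.stalk x) →
      stalkIdeal C x = Ideal.span {c} →
      ∃ a₀, idealStalk C x a₀ = c ∧ ∀ z, ∃ v, z =
        (DerivedOX.TensorSheaf.tensorStalk x (_root_.ClSub.idealMod C)
          (_root_.ClSub.quotMod D)).symm (a₀ ⊗ₜ v) ∧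
        StalkModule.stalkMapₗ f x z = c • v := by
    intro x c hc he
    obtain ⟨a₀, ha₀⟩ : c ∈ LinearMap.range (idealStalk C x) := by
      rw [range_idealStalk, he]; exact Ideal.mem_span_singleton_self c
    refine ⟨a₀, ha₀, fun z => ?_⟩
    let e := DerivedOX.TensorSheaf.tensorStalk x (_root_.ClSub.idealMod C) (_root_.ClSub.quotMod D)
    have hgen : ∀ t : (_root_.ClSub.idealMod C).presheaf.stalk x ⊗[X.presheaf.stalk x]
        (_root_.ClSub.quotMod D).presheaf.stalk x, ∃ v, t = a₀ ⊗ₜ[X.presheaf.stalk x] v := by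
      intro t
      induction t using TensorProduct.induction_on with
      | zero => exact ⟨0, (TensorProduct.tmul_zero _ _).symm⟩
      | tmul a v =>
        have hmem : idealStalk C x a ∈ Ideal.span {c} :=
          he ▸ range_idealStalk C x ▸ LinearMap.mem_range_self _ a
        obtain ⟨r, hr⟩ := Ideal.mem_span_singleton'.mp hmem
        refine ⟨r • v, ?_⟩
        rw [← TensorProduct.smul_tmul]
        congr 1
        refine idealStalk_injective C x ?_
        rw [map_smul, ha₀, smul_eq_mul, hr]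
      | add t t' h h' =>
        obtain ⟨v, rfl⟩ := h
        obtain ⟨v', rfl⟩ := h'
        exact ⟨v + v', (TensorProduct.tmul_add _ _ _).symm⟩
    obtain ⟨v, hv⟩ := hgen (e z)
    refine ⟨v, by rw [← hv]; exact (e.symm_apply_apply z).symm, ?_⟩
    rw [← e.symm_apply_apply z, hv]
    exact (act_stalk ι _ x a₀ v).trans (congrArg (· • v) ha₀)
  have w : f ≫ π = 0 := by
    refine StalkModule.hom_ext_stalkMapₗ fun x => LinearMap.ext fun z => ?_
    obtain ⟨c, hc, he, -⟩ := hreg x
    obtain ⟨a₀, -, h⟩ := hf x c hc he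
    obtain ⟨v, -, hv⟩ := h z
    obtain ⟨r, rfl⟩ := quotStalk_surjective D x v
    rw [StalkModule.stalkMapₗ_comp, StalkModule.stalkMapₗ_zero, LinearMap.zero_apply,
      LinearMap.comp_apply, hv, ← map_smul, stalkMapₗ_descend hπ]
    refine LinearMap.mem_ker.mp ?_
    rw [ker_quotStalk, stalkIdeal_sup, he, smul_eq_mul]
    exact Submodule.mem_sup_left (Ideal.mul_mem_right _ _ (Ideal.mem_span_singleton_self c))
  refine ⟨f, π, w, ?_⟩
  haveI : Mono f := by
    rw [StalkModule.mono_iff_stalkMapₗ_injective]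
    intro x
    obtain ⟨c, hc, he, hr⟩ := hreg x
    obtain ⟨a₀, -, h⟩ := hf x c hc he
    rw [injective_iff_map_eq_zero]
    intro z hz
    obtain ⟨v, hzv, hv⟩ := h z
    obtain ⟨r, rfl⟩ := quotStalk_surjective D x v
    have h0 : quotStalk D x r = 0 := by
      refine LinearMap.mem_ker.mp ?_
      rw [ker_quotStalk]
      refine hr r ?_
      rw [← ker_quotStalk, LinearMap.mem_ker, ← smul_eq_mul, map_smul, ← hv]
      exact hz
    rw [hzv, h0, TensorProduct.tmul_zero]
    exact map_zero _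
  haveI : Epi π := by
    haveI := ClSub.Quot.epi_toSubscheme (C ⊔ D)
    exact epi_of_epi_fac hπ
  refine { exact := (Stalk.exact_iff_stalk _).mpr fun x => ?_ }
  rw [ShortComplex.ab_exact_iff_function_exact]
  intro y
  change StalkModule.stalkMapₗ π x y = 0 ↔ ∃ z, StalkModule.stalkMapₗ f x z = y
  constructor
  · intro hy
    obtain ⟨r, rfl⟩ := quotStalk_surjective D x y
    rw [stalkMapₗ_descend hπ, ← LinearMap.mem_ker, ker_quotStalk, stalkIdeal_sup] at hy
    obtain ⟨c, hc, he, -⟩ := hreg x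
    obtain ⟨a₀, ha₀, -⟩ := hf x c hc he
    rw [he, Submodule.mem_sup] at hy
    obtain ⟨p, hp, q, hq, rfl⟩ := hy
    obtain ⟨s, rfl⟩ := Ideal.mem_span_singleton'.mp hp
    refine ⟨(DerivedOX.TensorSheaf.tensorStalk x (_root_.ClSub.idealMod C)
      (_root_.ClSub.quotMod D)).symm (a₀ ⊗ₜ quotStalk D x s), ?_⟩
    refine (act_stalk ι _ x a₀ _).trans ?_
    rw [← ker_quotStalk, LinearMap.mem_ker] at hq
    rw [show oStalk x (StalkModule.stalkMapₗ ι x a₀) = c from ha₀, map_add, hq, add_zero,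
      ← map_smul, smul_eq_mul, mul_comm]
  · rintro ⟨z, rfl⟩
    have := LinearMap.congr_fun (congrArg (fun φ => StalkModule.stalkMapₗ φ x) w) z
    simpa [StalkModule.stalkMapₗ_comp, StalkModule.stalkMapₗ_zero] using this

end

end Groth.Agent.Lib.SurfInt.Seq
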