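import Groth.Agent.Lib.SurfInt.Growth
import Groth.Agent.Lib.SurfInt.Semiample
import Groth.Agent.H97.CurveAmple
import Groth.Agent.S7642

/-!
# The Nakai–Moishezon criterion on a surface
-/

set_option autoImplicit false
set_option linter.style.haveILetI false
set_option linter.unusedSectionVars false
universe u

open CategoryTheory CategoryTheory.Limits AlgebraicGeometry

namespace Groth.Agent.Lib.SurfInt.Nakai

open Groth.Agent.Lib Groth.Agent.Lib.Modules Groth.Agent.Lib.Snapper
open Groth.Agent.Lib.TensorMod.Basic (tensorIso rightUnit)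
open Groth.Agent.Lib.TensorMod.Invertible (isInvertible_tensorPow)

variable {k : Type u} [Field k] {X : Scheme.{u}} [X.Over (Spec (CommRingCat.of k))]
  [IsIntegral X] [IsNoetherian X] [IsProper (X ↘ Spec (CommRingCat.of k))]
  (hdim : topologicalKrullDim X = 2) (hreg : ∀ x : X, IsRegularLocalRing (X.presheaf.stalk x))

include k hdim hreg

/-- A module of positive degree on all curves restricts amply to every curve. -/
theorem isAmple_curve {L : X.Modules} (hL : PicF.IsInvertible L)
    (hpos : ∀ C : X.IdealSheafData, IsIntegral C.subscheme →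
      topologicalKrullDim (C.support : Set X) = 1 →
        FGA.intNum k X 2 ![_root_.ClSub.idealMod C, L] (Coh.structureModule X) < 0)
    {Y : Scheme.{u}} (i : Y ⟶ X) [IsClosedImmersion i] [IsIntegral Y]
    (hYd : topologicalKrullDim Y = 1) : CohB1.IsAmple ((Scheme.Modules.pullback i).obj L) := by
  haveI : IsIso i.toImage := inferInstance
  haveI : IsIntegral i.image :=
    haveI : Nonempty i.image := ⟨i.toImage (Classical.arbitrary Y)⟩
    isIntegral_of_isOpenImmersion (CategoryTheory.inv i.toImage)
  haveI : IsIntegral i.ker.subscheme := ‹IsIntegral i.image›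
  have hd1 : topologicalKrullDim i.image = 1 := by
    rw [← hYd]
    exact (IsHomeomorph.topologicalKrullDim_eq _
      (Scheme.homeoOfIso (asIso i.toImage)).isHomeomorph).symm
  have hsupp : topologicalKrullDim (i.ker.support : Set X) = 1 := by
    rw [← Surface.dim_subscheme]; exact hd1
  have hI := Effective.isInvertible_idealMod
    (Curve.isEffCartier (X ↘ Spec (CommRingCat.of k)) hdim hreg i.ker hsupp)
  letI : i.image.Over (Spec (CommRingCat.of k)) := Surface.overSub (k := k) i.ker
  haveI : IsProper (i.image ↘ Spec (CommRingCat.of k)) :=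
    inferInstanceAs (IsProper (i.imageι ≫ (X ↘ Spec (CommRingCat.of k))))
  have h := hpos i.ker ‹_› hsupp
  rw [Surface.intNum_ideal_eq_neg_deg (Finite.cohFinite k X) (d := 2) hdim.le hI hL,
    neg_lt_zero] at h
  have hA : CohB1.IsAmple ((Scheme.Modules.pullback i.imageι).obj L) :=
    H97.CurvePositivity.isAmple_of_deg_pos k hd1 (PicLoc.isInvertible_pullback _ hL) h
  exact Ample.Pow.isAmple_of_iso
    ((Scheme.Modules.pullbackComp i.toImage i.imageι).app L ≪≫
      (Scheme.Modules.pullbackCongr i.toImage_imageι).app L)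
    (Ample.Pullback.isAmple_pullback i.toImage (Ample.Pullback.isQuasiAffine_of_isAffineHom _) hA)

/-- The restriction of such a module to a divisor is ample. -/
theorem isAmple_divisor {L : X.Modules} (hL : PicF.IsInvertible L)
    (hpos : ∀ C : X.IdealSheafData, IsIntegral C.subscheme →
      topologicalKrullDim (C.support : Set X) = 1 →
        FGA.intNum k X 2 ![_root_.ClSub.idealMod C, L] (Coh.structureModule X) < 0)
    {D : X.IdealSheafData} (hD : BlowUp.IsEffCartierIdeal D) :
    CohB1.IsAmple ((Scheme.Modules.pullback D.subschemeι).obj L) := by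
  letI : D.subscheme.Over (Spec (CommRingCat.of k)) :=
    ⟨D.subschemeι ≫ (X ↘ Spec (CommRingCat.of k))⟩
  haveI : IsProper (D.subscheme ↘ Spec (CommRingCat.of k)) :=
    inferInstanceAs (IsProper (D.subschemeι ≫ (X ↘ Spec (CommRingCat.of k))))
  haveI := Curves.GlobalSections.isNoetherian_of_proper k D.subscheme
  haveI : D.subscheme.IsSeparated := ⟨by
    rw [← terminal.comp_from (D.subscheme ↘ Spec (CommRingCat.of k))]; infer_instance⟩
  have hdD := H2Basic.dim_divisor_le (k := k) hdim (X ↘ Spec (CommRingCat.of k)) hD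
  set A := (Scheme.Modules.pullback D.subschemeι).obj L
  have hA := PicLoc.isInvertible_pullback D.subschemeι hL
  obtain ⟨P, hP⟩ := Groth.Agent.S7642.exists_isAmple hdD A hA
  refine H97.CurveAmple.isAmple_of_points k hdD hA hP fun y N hN => ?_
  let J := IntMult.ptIdeal y
  letI : J.subscheme.Over (Spec (CommRingCat.of k)) :=
    ⟨J.subschemeι ≫ (D.subscheme ↘ Spec (CommRingCat.of k))⟩
  haveI : IsProper (J.subscheme ↘ Spec (CommRingCat.of k)) :=
    inferInstanceAs (IsProper (J.subschemeι ≫ (D.subscheme ↘ Spec (CommRingCat.of k))))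
  haveI : IsIntegral J.subscheme :=
    Groth.Agent.S7642.isIntegral_red _ isIrreducible_singleton.closure
  haveI := Curves.GlobalSections.noetherianSpace_of_proper k J.subscheme
  have hd1 : topologicalKrullDim J.subscheme ≤ 1 :=
    (Topology.IsInducing.topologicalKrullDim_le J.subschemeι.isClosedEmbedding.isInducing).trans hdD
  rcases eq_or_lt_of_le hd1 with h1 | h1
  · exact H97.CurveAmple.van_of_isAmple k hd1 (Ample.Pow.isAmple_of_iso
      ((Scheme.Modules.pullbackComp J.subschemeι D.subschemeι).app L).symm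
      (isAmple_curve hdim hreg hL hpos (J.subschemeι ≫ D.subschemeι) h1)) hN
  · exact H97.CurveAmple.van_of_dim_le_zero (Order.le_of_lt_succ h1) _ _

omit hreg in
theorem intNum_pow_neg {L : X.Modules} (hL : PicF.IsInvertible L) (n : ℕ) {M : X.Modules}
    (hM : PicF.IsInvertible M) (h : FGA.intNum k X 2 ![M, L] (Coh.structureModule X) < 0) :
    FGA.intNum k X 2 ![M, CohB1.tensorPow L (n + 1)] (Coh.structureModule X) < 0 := by
  rw [IntNum.intNum_pair_comm, Hodge.intNum_pow_left (Finite.cohFinite k X) hdim hL hM n,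
    IntNum.intNum_pair_comm]
  exact mul_neg_of_pos_of_neg (Int.natCast_pos.mpr n.succ_pos) h

/-- An effective divisor of positive degree on every curve is ample. -/
theorem isAmple_of_effective {L : X.Modules} {D : X.IdealSheafData}
    (hD : BlowUp.IsEffCartierIdeal D)
    (e : CohB1.tensorMod L (_root_.ClSub.idealMod D) ≅ Coh.structureModule X)
    (hpos : ∀ C : X.IdealSheafData, IsIntegral C.subscheme →
      topologicalKrullDim (C.support : Set X) = 1 →
        FGA.intNum k X 2 ![_root_.ClSub.idealMod C, L] (Coh.structureModule X) < 0) :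
    CohB1.IsAmple L := by
  have hL : PicF.IsInvertible L := TensorMod.TensorInv.isInvertible_of_tensor_iso e
  obtain ⟨n₀, hn⟩ := Semiample.eventually_genAt k D e (isAmple_divisor hdim hreg hL hpos hD)
  refine (Ample.Pow.isAmple_tensorPow_iff hL n₀.succ_pos).mpr ?_
  refine GGAmple.isAmple k (isInvertible_tensorPow hL _) (hn (n₀ + 1) n₀.le_succ)
    fun C hC hCd => ?_
  haveI := hC
  exact isAmple_curve hdim hreg (isInvertible_tensorPow hL _)
    (fun C' hC' hC'd => intNum_pow_neg (k := k) hdim hL n₀ (Effective.isInvertible_idealMod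
      (haveI := hC'; Curve.isEffCartier (X ↘ Spec (CommRingCat.of k)) hdim hreg C' hC'd))
      (hpos C' hC' hC'd))
    C.subschemeι ((Surface.dim_subscheme C).trans hCd)

variable [IsAlgClosed k]

/-- **Nakai–Moishezon.** -/
theorem isAmple {H L : X.Modules} (hH : CohB1.IsAmple H) (hL : PicF.IsInvertible L)
    (hLL : 0 < FGA.intNum k X 2 ![L, L] (Coh.structureModule X))
    (hpos : ∀ C : X.IdealSheafData, IsIntegral C.subscheme →
      topologicalKrullDim (C.support : Set X) = 1 →
        FGA.intNum k X 2 ![_root_.ClSub.idealMod C, L] (Coh.structureModule X) < 0) :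
    CohB1.IsAmple L := by
  have hfin := Finite.cohFinite k X
  -- `L · H > 0`
  have hLH : 0 < FGA.intNum k X 2 ![L, H] (Coh.structureModule X) := by
    refine lt_of_le_of_ne ?_ fun h0 => absurd
      (Hodge.intNum_self_nonpos hfin hdim hreg hL hH h0.symm) (not_le.mpr hLL)
    obtain ⟨m, hm, s, -, hs, -, -⟩ :=
      Hodge.exists_two_sections (X ↘ Spec (CommRingCat.of k)) hdim hH
    obtain ⟨m, rfl⟩ : ∃ m', m = m' + 1 := ⟨m - 1, by omega⟩
    have hHm := isInvertible_tensorPow hH.1 (m + 1)
    obtain ⟨hD, -, -, -⟩ := Div.divisor_spec hHm s hs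
    have h := Bound.intNum_zeroScheme hfin hdim hHm s hs hL
    rw [Hodge.intNum_pow_left hfin hdim hH.1 hL m, IntNum.intNum_pair_comm H L] at h
    have h' : FGA.intNum k X 2 ![_root_.ClSub.idealMod (PicF2.zeroScheme _ s), L]
        (Coh.structureModule X) ≤ 0 :=
      Mul.induction (X ↘ Spec (CommRingCat.of k)) hdim hreg
        (P := fun G => FGA.intNum k X 2 ![_root_.ClSub.idealMod G, L] (Coh.structureModule X) ≤ 0)
        (NegDef.intNum_top hfin hdim hL).le
        (fun C hint G hCd hG ih => by
          rw [NegDef.intNum_mul hfin hdim (NegDef.isEff hfin hdim hreg C hCd) hG hL]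
          linarith [hpos C hint hCd]) hD
    rw [h] at h'
    exact nonneg_of_mul_nonneg_right (neg_nonpos.mp h') (Int.natCast_pos.mpr m.succ_pos)
  obtain ⟨m₀, hm⟩ := Growth.exists_growth hdim hreg hH hL hLH hLL
  have hm' := hm (m₀ + 1) m₀.le_succ
  have hne : Module.finrank k (Coh.HH X (CohB1.tensorPow L (m₀ + 1)) 0) ≠ 0 := fun h0 => by
    rw [h0, Nat.cast_zero, mul_zero] at hm'
    exact absurd hm' (not_lt.mpr (mul_nonneg hLL.le (sq_nonneg _)))
  obtain ⟨s, hs⟩ := Bound.exists_hom_of_finrank_ne_zero _ hne
  have hLm := isInvertible_tensorPow hL (m₀ + 1)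
  obtain ⟨hD, ⟨e⟩, -, -⟩ := Div.divisor_spec hLm s hs
  refine (Ample.Pow.isAmple_tensorPow_iff hL m₀.succ_pos).mpr
    (isAmple_of_effective (k := k) hdim hreg hD e fun C hC hCd => ?_)
  haveI := hC
  exact intNum_pow_neg (k := k) hdim hL m₀
    (Effective.isInvertible_idealMod (NegDef.isEff hfin hdim hreg C hCd)) (hpos C hC hCd)

end Groth.Agent.Lib.SurfInt.Nakai
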