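import Groth.Agent.Lib.SurfInt.Polar
import Groth.Agent.Lib.SurfInt.AffineCompl
import Groth.Agent.Lib.SurfInt.Surface
import Groth.Agent.Lib.SurfInt.Nakai
import Groth.Agent.Lib.SurfInt.NegDef
import Groth.Agent.Lib.Regular.UFD
import Groth.Agent.Lib.Devissage.Dim
import Groth.Agent.Lib.Curves.GlobalSections
import Mathlib.RingTheory.DiscreteValuationRing.TFAE

/-!
# An ample divisor supported on the boundary of an affine open of a regular proper surface
-/

set_option autoImplicit false
set_option linter.style.haveILetI false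
universe u

open CategoryTheory CategoryTheory.Limits AlgebraicGeometry TopologicalSpace

namespace Groth.Agent.Lib.SurfInt.AffineBoundary

open Groth.Agent.Lib
open Groth.Agent.Lib.Ideal.Prime (gen gen_mem gen_specializes exists_maximal_generization
  ringKrullDim_stalk_eq_height)
open Groth.Agent.Lib.AssPt.Basic (specializes_iff_primeIdealOf exists_point_of_prime)

noncomputable section

section Valuation

variable (R : Type u) [CommRing R] [IsDomain R] [IsDiscreteValuationRing R]
  {K : Type u} [Field K] [Algebra R K] [IsFractionRing R K]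

theorem exists_inv_mem {g : K} (hg : g ∉ Set.range (algebraMap R K)) :
    ∃ t ∈ IsLocalRing.maximalIdeal R, algebraMap R K t * g = 1 := by
  rcases ValuationRing.isInteger_or_isInteger R g with h | h
  · exact absurd h hg
  · obtain ⟨t, ht⟩ := h
    have hg0 : g ≠ 0 := fun h0 => hg ⟨0, by rw [map_zero, h0]⟩
    refine ⟨t, fun hu => hg ?_, by rw [ht, inv_mul_cancel₀ hg0]⟩
    obtain ⟨w, rfl⟩ := hu
    refine ⟨↑w⁻¹, ?_⟩
    have h1 : algebraMap R K (w : R) * algebraMap R K ↑w⁻¹ = 1 := by
      rw [← map_mul, Units.mul_inv, map_one]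
    rw [ht] at h1
    have := congrArg (g * ·) h1
    rw [← mul_assoc, mul_inv_cancel₀ hg0, one_mul, mul_one] at this
    exact this

theorem exists_pow_mul_mem {t : R} (ht : t ∈ IsLocalRing.maximalIdeal R) (x : K) :
    ∃ N₀ : ℕ, ∀ N, N₀ ≤ N → ∃ m ∈ IsLocalRing.maximalIdeal R,
      algebraMap R K m = algebraMap R K t ^ N * x := by
  obtain ⟨a, b, hb, rfl⟩ := IsFractionRing.div_surjective (A := R) x
  obtain ⟨ϖ, hϖ⟩ := IsDiscreteValuationRing.exists_irreducible R
  obtain ⟨n, hn⟩ := IsDiscreteValuationRing.ideal_eq_span_pow_irreducible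
    (s := _root_.Ideal.span {b})
    (fun h => nonZeroDivisors.ne_zero hb (_root_.Ideal.span_singleton_eq_bot.mp h)) hϖ
  have hbt : b ∣ t ^ n := by
    rw [← _root_.Ideal.mem_span_singleton, hn, _root_.Ideal.mem_span_singleton]
    refine pow_dvd_pow_of_dvd ?_ n
    rw [← _root_.Ideal.mem_span_singleton, ← hϖ.maximalIdeal_eq]
    exact ht
  obtain ⟨c, hc⟩ := hbt
  refine ⟨n + 1, fun N hN => ?_⟩
  obtain ⟨j, rfl⟩ : ∃ j, N = n + (j + 1) := ⟨N - n - 1, by omega⟩
  refine ⟨t ^ (j + 1) * (c * a), Ideal.mul_mem_right _ _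
    (Ideal.pow_mem_of_mem _ ht _ (by omega)), ?_⟩
  have hb0 : algebraMap R K b ≠ 0 := IsFractionRing.to_map_ne_zero_of_mem_nonZeroDivisors hb
  rw [← map_pow, pow_add t n, hc, map_mul, map_mul, map_mul, map_mul, map_pow]
  field_simp

theorem exists_forall_add_notMem {g : K} (hg : g ∉ Set.range (algebraMap R K)) (x : K) :
    ∃ N₀ : ℕ, ∀ N, N₀ ≤ N → g ^ N + x ∉ Set.range (algebraMap R K) := by
  obtain ⟨t, ht, htg⟩ := exists_inv_mem R hg
  obtain ⟨N₀, h⟩ := exists_pow_mul_mem R ht x
  refine ⟨N₀ + 1, fun N hN ⟨r, hr⟩ => ?_⟩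
  obtain ⟨m, hm, hme⟩ := h N (by omega)
  refine (IsLocalRing.maximalIdeal.isMaximal R).ne_top ((_root_.Ideal.eq_top_iff_one _).mpr ?_)
  have h1 : (1 : R) = t ^ N * r - m := IsFractionRing.injective R K (by
    rw [map_one, map_sub, map_mul, map_pow, hr, hme, mul_add, ← mul_pow, htg, one_pow]
    ring)
  rw [h1]
  exact sub_mem (Ideal.mul_mem_right _ _ (Ideal.pow_mem_of_mem _ ht _ (by omega))) hm

theorem exists_forall_mul_notMem {g : K} (hg : g ∉ Set.range (algebraMap R K)) {x : K} (hx : x ≠ 0) :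
    ∃ N₀ : ℕ, ∀ N, N₀ ≤ N → g ^ N * x ∉ Set.range (algebraMap R K) := by
  obtain ⟨t, ht, htg⟩ := exists_inv_mem R hg
  obtain ⟨N₀, h⟩ := exists_pow_mul_mem R ht x⁻¹
  refine ⟨N₀, fun N hN ⟨r, hr⟩ => ?_⟩
  obtain ⟨m, hm, hme⟩ := h N hN
  refine (IsLocalRing.maximalIdeal.isMaximal R).ne_top ((_root_.Ideal.eq_top_iff_one _).mpr ?_)
  have h1 : (1 : R) = m * r := IsFractionRing.injective R K (by
    rw [map_one, map_mul, hr, hme]
    calc (1 : K) = (algebraMap R K t * g) ^ N * (x⁻¹ * x) := by
          rw [htg, one_pow, inv_mul_cancel₀ hx, one_mul]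
      _ = _ := by ring)
  rw [h1]
  exact Ideal.mul_mem_right _ _ hm

end Valuation

variable {X : Scheme.{u}} [IsIntegral X]

theorem isDVR [IsLocallyNoetherian X] {η : X} [UniqueFactorizationMonoid (X.presheaf.stalk η)]
    (h : ringKrullDim (X.presheaf.stalk η) ≤ 1) {g : X.functionField}
    (hg : g ∉ Set.range (algebraMap (X.presheaf.stalk η) X.functionField)) :
    IsDiscreteValuationRing (X.presheaf.stalk η) := by
  let R := X.presheaf.stalk η
  have hnf : ¬ IsField R := fun hf => by
    letI := hf.toField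
    obtain ⟨a, b, -, hab⟩ := IsFractionRing.div_surjective (A := R) g
    exact hg ⟨a / b, by rw [map_div₀]; exact hab⟩
  haveI : Ring.KrullDimLE 1 R := Ring.krullDimLE_iff.mpr h
  haveI : Ring.DimensionLEOne R :=
    ⟨fun hp hP => Ring.krullDimLE_one_iff_of_noZeroDivisors.1 ‹_› _ hp hP⟩
  haveI : IsDedekindDomain R := {}
  exact ((IsDiscreteValuationRing.TFAE R hnf).out 2 0 (rfl) (rfl)).mp inferInstance

/-- The regular functions on `U` as rational functions. -/
abbrev fn (U : X.Opens) (hη : genericPoint X ∈ U) : Γ(X, U) →+* X.functionField :=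
  Polar.gK U hη

theorem notMem_support_polar {U : X.Opens} (hη : genericPoint X ∈ U) (b : Γ(X, U)) {x : X}
    (hx : x ∈ U) : x ∉ (Polar.polar (fn U hη b)).support := by
  rw [Polar.mem_support_iff, not_not]
  exact ⟨X.presheaf.germ U x hx b, Polar.algebraMap_germ hx b⟩

/-- Some function on `U` has a pole at each point outside `U`. -/
theorem exists_notMem_range [X.IsSeparated] {U : X.Opens} (hU : IsAffineOpen U)
    (hη : genericPoint X ∈ U) {y : X} (hy : y ∉ U) :
    ∃ b : Γ(X, U), fn U hη b ∉ Set.range (algebraMap (X.presheaf.stalk y) X.functionField) := by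
  by_contra! h
  let R := X.presheaf.stalk y
  have hinj : Function.Injective (algebraMap R X.functionField) := IsFractionRing.injective R _
  choose φ hφ using h
  let φ' : Γ(X, U) →+* R :=
    { toFun := φ
      map_one' := hinj (by rw [hφ, map_one, map_one])
      map_mul' := fun a b => hinj (by rw [hφ, map_mul, map_mul, hφ, hφ])
      map_zero' := hinj (by rw [hφ, map_zero, map_zero])
      map_add' := fun a b => hinj (by rw [hφ, map_add, map_add, hφ, hφ]) }
  have hs : genericPoint X ⤳ y := (genericPoint_spec X).specializes trivial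
  let j : Spec R ⟶ X := Spec.map (CommRingCat.ofHom φ') ≫ hU.fromSpec
  let σ : Spec X.functionField ⟶ Spec R := Spec.map (X.presheaf.stalkSpecializes hs)
  have hcomp : CommRingCat.ofHom φ' ≫ X.presheaf.stalkSpecializes hs =
      X.presheaf.germ U (genericPoint X) hη := by
    refine CommRingCat.hom_ext (RingHom.ext fun a => ?_)
    exact hφ a
  have h1 : σ ≫ j = X.fromSpecStalk (genericPoint X) := by
    rw [← hU.fromSpecStalk_eq_fromSpecStalk hη]
    show Spec.map _ ≫ Spec.map _ ≫ hU.fromSpec = _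
    exact (Spec.map_comp_assoc _ _ hU.fromSpec).symm.trans
      (congrArg (fun t => Spec.map t ≫ hU.fromSpec) hcomp)
  have h2 : σ ≫ X.fromSpecStalk y = X.fromSpecStalk (genericPoint X) :=
    Scheme.SpecMap_stalkSpecializes_fromSpecStalk hs
  haveI : IsDominant σ := by
    rw [isDominant_iff, denseRange_iff_closure_range]
    exact ((PrimeSpectrum.denseRange_comap_iff_ker_le_nilRadical _).mpr
      (le_of_eq_of_le ((RingHom.injective_iff_ker_eq_bot _).mp hinj) bot_le)).closure_range
  have heq : j = X.fromSpecStalk y :=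
    ext_of_isDominant_of_isSeparated (terminal.from X) (terminal.hom_ext _ _) σ (h1.trans h2.symm)
  refine hy ?_
  have hc := Scheme.fromSpecStalk_closedPoint (X := X) (x := y)
  rw [← heq] at hc
  rw [← hc]
  exact (hU.range_fromSpec ▸ Set.mem_range_self _ : _ ∈ (U : Set X))

/-- One function with poles along all points of a finite subset of the boundary. -/
theorem exists_poles [IsLocallyNoetherian X] [X.IsSeparated] {U : X.Opens} (hU : IsAffineOpen U)
    (hη : genericPoint X ∈ U) (hufd : ∀ x : X, UniqueFactorizationMonoid (X.presheaf.stalk x))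
    (S : Finset X) (hS : ∀ y ∈ S, y ∉ U ∧ ringKrullDim (X.presheaf.stalk y) ≤ 1) :
    ∃ b : Γ(X, U), ∀ y ∈ S,
      fn U hη b ∉ Set.range (algebraMap (X.presheaf.stalk y) X.functionField) := by
  classical
  induction S using Finset.induction with
  | empty => exact ⟨0, fun y hy => absurd hy (Finset.notMem_empty y)⟩
  | insert z S hz ih =>
    obtain ⟨g, hg⟩ := ih fun y hy => hS y (Finset.mem_insert_of_mem hy)
    obtain ⟨g', hg'⟩ := exists_notMem_range hU hη (hS z (Finset.mem_insert_self z S)).1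
    by_cases hgz : fn U hη g ∈ Set.range (algebraMap (X.presheaf.stalk z) X.functionField)
    swap
    · refine ⟨g, fun y hy => ?_⟩
      rcases Finset.mem_insert.mp hy with rfl | hy
      · exact hgz
      · exact hg y hy
    have hN : ∀ y : S, ∃ N₀, ∀ N, N₀ ≤ N → fn U hη g ^ N + fn U hη g' ∉
        Set.range (algebraMap (X.presheaf.stalk (y : X)) X.functionField) := fun y => by
      haveI := hufd y.1
      haveI := isDVR (hS _ (Finset.mem_insert_of_mem y.2)).2 (hg _ y.2)
      exact exists_forall_add_notMem _ (hg _ y.2) _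
    choose N₀ hN₀ using hN
    refine ⟨g ^ (Finset.univ.sup N₀) + g', fun y hy => ?_⟩
    rw [map_add, map_pow]
    rcases Finset.mem_insert.mp hy with rfl | hy
    · intro hmem
      obtain ⟨r, hr⟩ := hmem
      obtain ⟨w, hw⟩ := hgz
      refine hg' ⟨r - w ^ (Finset.univ.sup N₀), ?_⟩
      rw [map_sub, map_pow, hr, hw]
      ring
    · exact hN₀ ⟨y, hy⟩ _ (Finset.le_sup (Finset.mem_univ _))

variable {k : Type u} [Field k] [X.Over (Spec (CommRingCat.of k))]
  [IsProper (X ↘ Spec (CommRingCat.of k))] [IsNoetherian X]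
  (hdim : topologicalKrullDim X = 2)
  (hreg : ∀ x : X, IsRegularLocalRing (X.presheaf.stalk x))

include k hdim hreg in
/-- A curve meets properly and positively a divisor it meets but is not contained in. -/
theorem intNum_pos (C : X.IdealSheafData) [IsIntegral C.subscheme]
    (hCd : topologicalKrullDim (C.support : Set X) = 1) {F : X.IdealSheafData}
    (hF : FGA.IsEffCartier F) (h : ¬ (C.support : Set X) ⊆ (F.support : Set X))
    (hne : ((C.support : Set X) ∩ (F.support : Set X)).Nonempty) :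
    0 < FGA.intNum k X 2 ![_root_.ClSub.idealMod C, _root_.ClSub.idealMod F]
      (Coh.structureModule X) := by
  have hfin := Snapper.Finite.cohFinite k X
  rw [Effective.intNum_ideals_of_finite hfin hdim.le (Surface.forall_component hdim)
    (fun x => haveI := hreg x; JacCrit.FlatRegular.isCohenMacaulayLocalRing _)
    (Curve.isEffCartier (X ↘ Spec (CommRingCat.of k)) hdim hreg C hCd) hF
    (Surface.finite_sup (X ↘ Spec (CommRingCat.of k)) C hCd F h)]
  haveI : FiniteDimensional k (Coh.HH X (_root_.ClSub.quotMod (C ⊔ F)) 0) :=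
    hfin _ (Effective.isCoh_quotMod _) 0
  obtain ⟨x, hx⟩ := hne
  haveI : Nonempty (C ⊔ F).subscheme := by
    have : x ∈ Set.range (C ⊔ F).subschemeι := by
      rw [Scheme.IdealSheafData.range_subschemeι, Scheme.IdealSheafData.support_sup]
      exact hx
    exact ⟨this.choose⟩
  haveI : Nontrivial (Coh.HH X (_root_.ClSub.quotMod (C ⊔ F)) 0) := by
    refine (Curves.GlobalSections.h0Equiv (_root_.ClSub.quotMod (C ⊔ F))).toEquiv.nontrivial_congr.mpr ?_
    haveI : Nonempty (((⊤ : (C ⊔ F).subscheme.Opens) : Scheme.{u})) :=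
      ⟨⟨Classical.arbitrary _, trivial⟩⟩
    exact Scheme.component_nontrivial (C ⊔ F).subscheme ⊤
  exact_mod_cast Module.finrank_pos

include k in
/-- An affine open contains no complete curve. -/
theorem not_subset_affine [X.IsSeparated] {U : X.Opens} (hU : IsAffineOpen U) (C : X.IdealSheafData)
    (hCd : topologicalKrullDim (C.support : Set X) = 1) : ¬ (C.support : Set X) ⊆ (U : Set X) := by
  intro hsub
  haveI : IsAffine U := hU
  let j : C.subscheme ⟶ U := IsOpenImmersion.lift U.ι C.subschemeι (by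
    rw [C.range_subschemeι, Scheme.Opens.range_ι]; exact hsub)
  haveI : IsClosedImmersion (j ≫ U.ι) := by
    rw [IsOpenImmersion.lift_fac]; infer_instance
  haveI : IsClosedImmersion j := IsClosedImmersion.of_comp j U.ι
  haveI : IsAffine C.subscheme := isAffine_of_isAffineHom j
  letI := Surface.overSub (k := k) C
  haveI : IsProper (C.subscheme ↘ Spec (CommRingCat.of k)) :=
    inferInstanceAs (IsProper (C.subschemeι ≫ (X ↘ Spec (CommRingCat.of k))))
  haveI : IsFinite (C.subscheme ↘ Spec (CommRingCat.of k)) :=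
    IsFinite.iff_isProper_and_isAffineHom.mpr ⟨inferInstance, inferInstance⟩
  haveI : Finite C.subscheme := by
    have h := (C.subscheme ↘ Spec (CommRingCat.of k)).finite_preimage_singleton
      (IsLocalRing.closedPoint k : Spec (CommRingCat.of k))
    exact Set.finite_univ_iff.mp (h.subset fun x _ => Subsingleton.elim (α := PrimeSpectrum k) _ _)
  haveI : JacobsonSpace C.subscheme :=
    LocallyOfFiniteType.jacobsonSpace (C.subscheme ↘ Spec (CommRingCat.of k))
  have h := topologicalKrullDim_zero_of_discreteTopology C.subscheme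
  rw [Surface.dim_subscheme, hCd] at h
  exact absurd h (by decide)

include k hdim in
/-- A point of `U` in every boundary component's neighbourhood: it specializes to a point of the
component. -/
theorem exists_point_of_boundary [X.IsSeparated] {U : X.Opens} (hU : IsAffineOpen U)
    (hξ : genericPoint X ∈ U) (η : X) :
    ∃ y ∈ U, y ≠ genericPoint X ∧ ∃ z, η ⤳ z ∧ y ⤳ z := by
  obtain ⟨p, hpcl, hp⟩ := IsClosed.exists_closed_singleton (isClosed_closure (s := ({η} : Set X)))
    ⟨η, subset_closure rfl⟩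
  have hηp : η ⤳ p := specializes_iff_mem_closure.2 hpcl
  obtain ⟨V, hV, hpV, -⟩ := exists_isAffineOpen_mem_and_subset
    (show p ∈ (⊤ : X.Opens) from trivial)
  haveI : IsNoetherianRing Γ(X, V) := IsLocallyNoetherian.component_noetherian ⟨V, hV⟩
  let P := (hV.primeIdealOf ⟨p, hpV⟩).asIdeal
  -- the boundary components through `p`
  have hTfin := Devissage.Dim.finite_maximal (X := X) U.isOpen.isClosed_compl
  let T : Set (_root_.Ideal Γ(X, V)) :=
    (fun y : {y : X // y ∈ V} => (hV.primeIdealOf y).asIdeal) ''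
      {y | y.1 ∈ {x : X | x ∈ (U : Set X)ᶜ ∧ ∀ z ∈ (U : Set X)ᶜ, z ⤳ x → z = x}}
  have hT : T.Finite := Set.Finite.image _ (hTfin.preimage Subtype.val_injective.injOn)
  have hP2 : (2 : ℕ∞) ≤ P.height := by
    have := Transversal.two_le_ringKrullDim_stalk (X ↘ Spec (CommRingCat.of k))
      (Surface.forall_component hdim) hp
    rw [ringKrullDim_stalk_eq_height hV hpV] at this
    exact WithBot.coe_le_coe.mp this
  have hmem : ∀ q ∈ T, q.IsPrime ∧ q.height ≤ 1 ∧ q ≠ ⊥ := by
    rintro _ ⟨⟨y, hyV⟩, ⟨hy, hymax⟩, rfl⟩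
    refine ⟨(hV.primeIdealOf ⟨y, hyV⟩).2, ?_, fun h0 => ?_⟩
    · have := AffineCompl.ringKrullDim_stalk_le_one AffineCompl.inf_affine hU hy
        (fun z hz hzy => hymax z hz hzy)
      rw [ringKrullDim_stalk_eq_height hV hyV] at this
      exact WithBot.coe_le_coe.mp this
    · have hs : y ⤳ genericPoint X := by
        rw [specializes_iff_primeIdealOf hV (Polar.eta_mem hyV) hyV]
        refine le_of_eq_of_le h0 ?_
        exact bot_le
      have := hs.antisymm ((genericPoint_spec X).specializes trivial)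
      obtain rfl := this.eq
      exact hy hξ
  -- an element of `P` outside all of them
  have hnot : ¬ ((P : Set Γ(X, V)) ⊆ ⋃ q ∈ insert ⊥ hT.toFinset, (q : Set Γ(X, V))) := by
    rw [show (⋃ q ∈ insert ⊥ hT.toFinset, (q : Set Γ(X, V))) =
      ⋃ q ∈ ((insert ⊥ hT.toFinset : Finset _) : Set (_root_.Ideal Γ(X, V))), (q : Set Γ(X, V))
      from rfl]
    haveI : Nonempty V := ⟨⟨p, hpV⟩⟩
    rw [_root_.Ideal.subset_union_prime ⊥ ⊥ fun q hq _ _ => ?_]
    · rintro ⟨q, hq, hle⟩
      have hh := _root_.Ideal.height_mono hle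
      rcases Finset.mem_insert.mp hq with rfl | hq
      · rw [_root_.Ideal.height_bot] at hh
        exact absurd (hP2.trans hh) (by decide)
      · exact absurd (hP2.trans (hh.trans (hmem q (hT.mem_toFinset.mp hq)).2.1)) (by decide)
    · rcases Finset.mem_insert.mp hq with rfl | hq
      · exact _root_.Ideal.isPrime_bot
      · exact (hmem q (hT.mem_toFinset.mp hq)).1
  obtain ⟨h, hhP, hh⟩ := Set.not_subset.mp hnot
  simp only [Set.mem_iUnion, SetLike.mem_coe, not_exists] at hh
  obtain ⟨q, hq, hqP⟩ := _root_.Ideal.exists_minimalPrimes_le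
    ((_root_.Ideal.span_singleton_le_iff_mem P).mpr hhP)
  haveI : q.IsPrime := hq.1.1
  have hhq : h ∈ q := hq.1.2 (_root_.Ideal.mem_span_singleton_self h)
  obtain ⟨y, hyV, rfl⟩ := exists_point_of_prime hV q
  refine ⟨y, by_contra fun hy => ?_, ?_, p, hηp,
    (specializes_iff_primeIdealOf hV hpV hyV).mpr hqP⟩
  · obtain ⟨w, hwT, hwy, hwmax⟩ := exists_maximal_generization U.isOpen.isClosed_compl hy
    have hwV : w ∈ V := hwy.mem_open V.isOpen hyV
    have hwT' : (hV.primeIdealOf ⟨w, hwV⟩).asIdeal ∈ T := ⟨⟨w, hwV⟩, ⟨hwT, hwmax⟩, rfl⟩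
    obtain ⟨hwp, -, hw0⟩ := hmem _ hwT'
    have hle := (specializes_iff_primeIdealOf hV hyV hwV).mp hwy
    refine hh _ (Finset.mem_insert_of_mem (hT.mem_toFinset.mpr hwT')) ?_
    rcases eq_or_lt_of_le hle with he | hlt
    · exact he ▸ hhq
    · exfalso
      have h1 : ((hV.primeIdealOf ⟨y, hyV⟩).asIdeal).height ≤ 1 :=
        _root_.Ideal.height_le_one_of_isPrincipal_of_mem_minimalPrimes _ _ hq
      have h2 := Order.add_one_le_of_lt (_root_.Ideal.height_strict_mono_of_isPrime hlt)
      have h3 : (1 : ℕ∞) ≤ ((hV.primeIdealOf ⟨w, hwV⟩).asIdeal).height := by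
        rw [Order.one_le_iff_ne_zero, Ne, _root_.Ideal.height_eq_zero_iff]
        intro hmin
        haveI : Nonempty V := ⟨⟨p, hpV⟩⟩
        rw [IsDomain.minimalPrimes_eq_singleton_bot] at hmin
        exact hw0 hmin
      exact absurd ((add_le_add_left h3 1).trans (h2.trans h1)) (by decide)
  · rintro rfl
    haveI : Nonempty V := ⟨⟨p, hpV⟩⟩
    refine hh ⊥ (Finset.mem_insert_self _ _) ?_
    rw [_root_.Ideal.mem_bot]
    refine Polar.gK_injective (Polar.eta_mem hpV) ?_
    rw [map_zero]
    have hm : ¬ IsUnit (X.presheaf.germ V (genericPoint X) hyV h) := fun hu => by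
      exact (Groth.Agent.Lib.Ideal.EffCartier.mem_basicOpen_iff_notMem_prime hV hyV h).mp
        ((X.mem_basicOpen h _ hyV).mpr hu) hhq
    by_contra h0
    exact hm (isUnit_iff_ne_zero.mpr h0 :)

include k hdim hreg in
/-- **Goodman's theorem on surfaces.** -/
theorem exists_ample_boundary [X.IsSeparated] {U : X.Opens} (hU : IsAffineOpen U)
    (hξ : genericPoint X ∈ U) :
    ∃ I : X.IdealSheafData, BlowUp.IsEffCartierIdeal I ∧ (I.support : Set X) = (U : Set X)ᶜ ∧
      ∀ L : X.Modules, PicF.IsInvertible L →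
        ClSub.IsInverseOf L (_root_.ClSub.idealMod I) → CohB1.IsAmple L := by
  classical
  have hufd : ∀ x : X, UniqueFactorizationMonoid (X.presheaf.stalk x) := fun x =>
    haveI := hreg x; Regular.UFD.uniqueFactorizationMonoid _
  have hTfin := Devissage.Dim.finite_maximal (X := X) U.isOpen.isClosed_compl
  let S := hTfin.toFinset
  have hS : ∀ η ∈ S, η ∉ U ∧ ringKrullDim (X.presheaf.stalk η) ≤ 1 := fun η hη => by
    obtain ⟨h1, h2⟩ := hTfin.mem_toFinset.mp hη
    exact ⟨h1, AffineCompl.ringKrullDim_stalk_le_one AffineCompl.inf_affine hU h1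
      fun z hz hzy => h2 z hz hzy⟩
  obtain ⟨g, hg⟩ := exists_poles hU hξ hufd S hS
  have hy : ∀ η : S, ∃ y ∈ U, y ≠ genericPoint X ∧ ∃ z, η.1 ⤳ z ∧ y ⤳ z := fun η => by
    exact exists_point_of_boundary (k := k) hdim hU hξ η.1
  choose y hyU hy0 z hηz hyz using hy
  -- a function vanishing at every `y η`
  have hb : ∀ η : S, ∃ b : Γ(X, U), b ≠ 0 ∧ ¬ IsUnit (X.presheaf.germ U (y η) (hyU η) b) := by
    intro η
    by_contra! hc
    refine hy0 η ((Specializes.antisymm ?_ ((genericPoint_spec X).specializes trivial)).eq)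
    rw [specializes_iff_primeIdealOf hU hξ (hyU η)]
    intro r hr
    by_cases hr0 : r = 0
    · rw [hr0]; exact zero_mem _
    · exact absurd hr ((Groth.Agent.Lib.Ideal.EffCartier.mem_basicOpen_iff_notMem_prime hU (hyU η) r).mp
        ((X.mem_basicOpen r _ (hyU η)).mpr (hc r hr0)))
  choose b hb0 hbu using hb
  haveI : Nonempty U := ⟨⟨_, hξ⟩⟩
  let f₀ : Γ(X, U) := ∏ η, b η
  have hf₀ : f₀ ≠ 0 := Finset.prod_ne_zero_iff.mpr fun η _ => hb0 η
  have hf₀K : fn U hξ f₀ ≠ 0 := fun h => hf₀ (Polar.gK_injective hξ (h.trans (map_zero _).symm))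
  have hN : ∀ η : S, ∃ N₀, ∀ N, N₀ ≤ N → fn U hξ g ^ N * fn U hξ f₀ ∉
      Set.range (algebraMap (X.presheaf.stalk (η : X)) X.functionField) := fun η => by
    haveI := hufd η.1
    haveI := isDVR (hS _ η.2).2 (hg _ η.2)
    exact exists_forall_mul_notMem _ (hg _ η.2) hf₀K
  choose N₀ hN₀ using hN
  let b' : Γ(X, U) := g ^ (Finset.univ.sup N₀) * f₀
  let f := fn U hξ b'
  have hfpole : ∀ η : S, f ∉ Set.range (algebraMap (X.presheaf.stalk (η : X)) X.functionField) :=
    fun η => by
      simp only [f, b', map_mul, map_pow]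
      exact hN₀ η _ (Finset.le_sup (Finset.mem_univ _))
  let I := Polar.polar f
  have hI : BlowUp.IsEffCartierIdeal I := Polar.isEffCartier hufd f
  have hsupp : (I.support : Set X) = (U : Set X)ᶜ := by
    refine Set.Subset.antisymm (fun x hx hxU => notMem_support_polar hξ b' hxU hx) fun x hx => ?_
    obtain ⟨η, h1, h2, h3⟩ := exists_maximal_generization U.isOpen.isClosed_compl hx
    exact h2.mem_closed I.support.isClosed
      ((Polar.mem_support_iff f η).mpr (hfpole ⟨η, hTfin.mem_toFinset.mpr ⟨h1, h3⟩⟩))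
  refine ⟨I, hI, hsupp, fun L hL ⟨e⟩ =>
    Nakai.isAmple_of_effective (k := k) hdim hreg hI e fun C hC hCd => ?_⟩
  haveI := hC
  have hCI := Effective.isInvertible_idealMod
    (Curve.isEffCartier (X ↘ Spec (CommRingCat.of k)) hdim hreg C hCd)
  suffices 0 < FGA.intNum k X 2 ![_root_.ClSub.idealMod C, _root_.ClSub.idealMod I]
      (Coh.structureModule X) by
    have h := Snapper.IntNum.intNum_pair_inverse (Snapper.Finite.cohFinite k X) hdim.le hL
      (Effective.isInvertible_idealMod hI) e hCI (Snapper.Twist.isCoh_structureModule X)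
    rw [Snapper.IntNum.intNum_pair_comm] at this ⊢
    linarith
  by_cases hsub : (C.support : Set X) ⊆ (U : Set X)ᶜ
  swap
  · refine intNum_pos hdim hreg C hCd hI (hsupp ▸ hsub) ?_
    rw [hsupp]
    by_contra he
    exact not_subset_affine (k := k) hU C hCd fun x hx => by_contra fun hxU => he ⟨x, hx, hxU⟩
  -- a boundary curve
  have hgC := gen_mem C
  obtain ⟨η, h1, h2, h3⟩ := exists_maximal_generization U.isOpen.isClosed_compl (hsub hgC)
  have hηC : η = gen C := by
    by_contra hne
    have hlt := VarDim.Basic.pdim_lt (X ↘ Spec (CommRingCat.of k)) h2 hne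
    rw [Curve.pdim_gen (X ↘ Spec (CommRingCat.of k)) C hCd] at hlt
    exact h1 (Curve.eq_genericPoint_of_two_le (X ↘ Spec (CommRingCat.of k)) hdim
      (Nat.succ_le_of_lt hlt) ▸ hξ)
  have hηS : η ∈ S := hTfin.mem_toFinset.mpr ⟨h1, h3⟩
  obtain ⟨e'⟩ := Polar.nonempty_iso (f := f) (fun h => hfpole ⟨η, hηS⟩ ⟨0, by rw [map_zero, h]⟩) hI
  rw [Snapper.IntNum.intNum_pair_comm, NegDef.intNum_congr_left e', Snapper.IntNum.intNum_pair_comm]
  refine intNum_pos hdim hreg C hCd (Polar.isEffCartier hufd f⁻¹) (fun hle => ?_) ?_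
  · have hninv := (Polar.mem_support_iff f⁻¹ η).mp (hle (hηC ▸ hgC))
    haveI := hufd η
    haveI := isDVR (hS _ hηS).2 (hfpole ⟨η, hηS⟩)
    rcases ValuationRing.isInteger_or_isInteger (X.presheaf.stalk η) f with h | h
    · exact hfpole ⟨η, hηS⟩ h
    · exact hninv h
  · refine ⟨z ⟨η, hηS⟩, ?_, ?_⟩
    · exact (hηz ⟨η, hηS⟩).mem_closed C.support.isClosed (hηC ▸ hgC)
    · refine (hyz ⟨η, hηS⟩).mem_closed (Polar.polar f⁻¹).support.isClosed
        ((Polar.mem_support_iff _ _).mpr ?_)
      set w := y ⟨η, hηS⟩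
      rintro ⟨r, hr⟩
      have hwU : w ∈ U := hyU _
      have hu : IsUnit (X.presheaf.germ U w hwU b') := by
        refine IsUnit.of_mul_eq_one r (IsFractionRing.injective (X.presheaf.stalk w) X.functionField ?_)
        rw [map_mul, map_one, hr, Polar.algebraMap_germ hwU]
        exact mul_inv_cancel₀ fun h => hfpole ⟨η, hηS⟩ ⟨0, by rw [map_zero]; exact h.symm⟩
      refine hbu ⟨η, hηS⟩ ?_
      rw [map_mul] at hu
      have hu' := isUnit_of_mul_isUnit_right hu
      rw [map_prod] at hu'
      exact IsUnit.prod_univ_iff.mp hu' ⟨η, hηS⟩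

end

end Groth.Agent.Lib.SurfInt.AffineBoundary
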