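import Groth.Agent.Lib.SurfInt.H2Vanish
import Groth.Agent.Lib.TensorMod.TensorInv

/-!
# Quadratic growth of sections on a surface
-/

set_option autoImplicit false
set_option linter.style.haveILetI false
set_option linter.unusedSectionVars false
universe u

open CategoryTheory CategoryTheory.Limits AlgebraicGeometry

namespace Groth.Agent.Lib.SurfInt.Growth

open Groth.Agent.Lib Groth.Agent.Lib.Modules Groth.Agent.Lib.Snapper

variable {k : Type u} [Field k] {X : Scheme.{u}} [X.Over (Spec (CommRingCat.of k))]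
  [IsIntegral X] [IsNoetherian X] [IsProper (X ↘ Spec (CommRingCat.of k))] [IsAlgClosed k]
  (hdim : topologicalKrullDim X = 2) (hreg : ∀ x : X, IsRegularLocalRing (X.presheaf.stalk x))

include k hdim hreg

/-- Without `H²`, the sections are at least as many as the Euler characteristic. -/
theorem chi_le_h0 {M : X.Modules} (h : Subsingleton (Coh.HH X M 2)) :
    FGA.eulerCharLE k X M 2 ≤ (Module.finrank k (Coh.HH X M 0) : ℤ) := by
  haveI := h
  have h2 : Module.finrank k (Coh.HH X M 2) = 0 := Module.finrank_zero_of_subsingleton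
  unfold FGA.eulerCharLE
  simp [Finset.sum_range_succ, h2]

/-- A class of positive square and positive degree has `h⁰(Lᵐ)` of quadratic growth. -/
theorem exists_growth {H L : X.Modules} (hH : CohB1.IsAmple H) (hL : PicF.IsInvertible L)
    (hLH : 0 < FGA.intNum k X 2 ![L, H] (Coh.structureModule X))
    (hLL : 0 < FGA.intNum k X 2 ![L, L] (Coh.structureModule X)) :
    ∃ m₀ : ℕ, ∀ m : ℕ, m₀ ≤ m → FGA.intNum k X 2 ![L, L] (Coh.structureModule X) * (m : ℤ) ^ 2 <
      4 * (Module.finrank k (Coh.HH X (CohB1.tensorPow L m) 0) : ℤ) := by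
  have hfin := Finite.cohFinite k X
  obtain ⟨n₀, hn₀⟩ := H2Vanish.exists_bound (k := k) hdim hreg hH
  set a := FGA.intNum k X 2 ![L, L] (Coh.structureModule X)
  set χL := FGA.eulerCharLE k X L 2 with hχL
  set χO := FGA.eulerCharLE k X (Coh.structureModule X) 2 with hχO
  refine ⟨n₀.natAbs + 4 * χL.natAbs + 4 * χO.natAbs + 4, fun m hm => ?_⟩
  obtain ⟨n, rfl⟩ : ∃ n, m = n + 1 := ⟨m - 1, by omega⟩
  have hdeg : n₀ < FGA.intNum k X 2 ![CohB1.tensorPow L (n + 1), H] (Coh.structureModule X) := by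
    rw [Hodge.intNum_pow_left hfin hdim hL hH.1 n]
    refine lt_of_lt_of_le (show n₀ < ((n + 1 : ℕ) : ℤ) by omega) ?_
    exact le_mul_of_one_le_right (Int.natCast_nonneg _) hLH
  have h1 := chi_le_h0 (k := k) hdim hreg (hn₀ _ (TensorMod.Invertible.isInvertible_tensorPow hL _) hdeg)
  have h2 := Hodge.two_mul_chi_pow (k := k) hfin hdim hL n
  rw [← hχL, ← hχO] at h2
  have hb : 4 * |χL| + 4 * |χO| + 4 ≤ ((n + 1 : ℕ) : ℤ) := by
    rw [Int.abs_eq_natAbs, Int.abs_eq_natAbs]; omega
  have hn : (0 : ℤ) ≤ n := Int.natCast_nonneg n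
  push_cast at h2 hb ⊢
  nlinarith [mul_le_mul_of_nonneg_right hb (show (0 : ℤ) ≤ (n : ℤ) + 1 by omega),
    mul_le_mul_of_nonneg_right (neg_abs_le χL) (show (0 : ℤ) ≤ (n : ℤ) + 1 by omega),
    mul_le_mul_of_nonneg_right (le_abs_self χO) hn,
    mul_le_mul_of_nonneg_right (show (1 : ℤ) ≤ a from hLL)
      (show (0 : ℤ) ≤ ((n : ℤ) + 1) * ((n : ℤ) - 1) by nlinarith [abs_nonneg χL, abs_nonneg χO]),
    abs_nonneg χL, abs_nonneg χO]

end Groth.Agent.Lib.SurfInt.Growth
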