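import Groth.Agent.Lib.SurfInt.Cones
import Groth.Agent.Lib.SurfInt.Growth

/-!
# Positive classes are effective; nef classes have nonnegative square
-/

set_option autoImplicit false
set_option linter.style.haveILetI false
set_option linter.unusedSectionVars false
universe u

open CategoryTheory CategoryTheory.Limits AlgebraicGeometry

namespace Groth.Agent.Lib.SurfInt.NefSq

open Groth.Agent.Lib Groth.Agent.Lib.Snapper

variable {k : Type u} [Field k] {X : Scheme.{u}} [X.Over (Spec (CommRingCat.of k))]
  [IsIntegral X] [PicGrp.Law X]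

theorem clR_congr {L M : X.Modules} (e : L ≅ M) (hL : PicF.IsInvertible L) (hM : PicF.IsInvertible M) :
    NumR.clR k X L hL = NumR.clR k X M hM := by
  simp only [NumR.clR, NumR.cl]
  rw [(PicGrp.cls_eq_cls_iff hL hM).mpr ⟨e⟩]

theorem clR_structure (h : PicF.IsInvertible (Coh.structureModule X)) :
    NumR.clR k X (Coh.structureModule X) h = 0 := by
  have e : PicGrp.cls (Coh.structureModule X) h = 1 :=
    Eq.trans rfl PicGrp.cls_structureModule_eq_one
  simp only [NumR.clR, NumR.cl]
  rw [e, ofMul_one, map_zero, map_zero]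

variable [IsNoetherian X] [IsProper (X ↘ Spec (CommRingCat.of k))]
  [Smooth (X ↘ Spec (CommRingCat.of k))] [IsAlgClosed k] (hdim : topologicalKrullDim X = 2)
  {B : NumR.N1R k X →ₗ[ℝ] NumR.N1R k X →ₗ[ℝ] ℝ} (hB : NumR.IsIntForm₂ k X B)
  {H : X.Modules} (hH : CohB1.IsAmple H)

include hdim hB

/-- A nef class is nonnegative on effective divisors. -/
theorem nonneg_of_divisor {x : NumR.N1R k X} (hx : x ∈ NumR.nefCone₂ k X B)
    {F : X.IdealSheafData} (hF : BlowUp.IsEffCartierIdeal F)
    (hI : PicF.IsInvertible (_root_.ClSub.idealMod F)) :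
    B x (NumR.clR k X (_root_.ClSub.idealMod F) hI) ≤ 0 := by
  revert hI
  refine Mul.induction (X ↘ Spec (CommRingCat.of k)) hdim (NegDef.regular_of_smooth (k := k))
    (P := fun F => ∀ hI, B x (NumR.clR k X (_root_.ClSub.idealMod F) hI) ≤ 0) ?_ ?_ hF
  · intro hI
    obtain ⟨e⟩ := H2Vanish.nonempty_idealMod_top (X := X)
    rw [clR_congr e hI H2Vanish.isInvertible_structure, clR_structure, map_zero]
  · intro C hint G hCd hG ih hI
    have hC := Effective.isInvertible_idealMod
      (Curve.isEffCartier (X ↘ Spec (CommRingCat.of k)) hdim (NegDef.regular_of_smooth (k := k)) C hCd)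
    have hG' := Effective.isInvertible_idealMod hG
    obtain ⟨e⟩ := Mul.nonempty_idealMod_mul
      (Curve.isEffCartier (X ↘ Spec (CommRingCat.of k)) hdim (NegDef.regular_of_smooth (k := k)) C hCd) G
    rw [clR_congr e.symm hI (TensorMod.Invertible.isInvertible_tensorMod hC hG'),
      Cones.clR_tensor hC hG', map_add]
    have h := hx C hint hCd hC
    rw [NumR.curveCl, map_neg, neg_nonneg] at h
    linarith [ih hG']

include hH

/-- A nef class is nonnegative on integral classes of the positive cone. -/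
theorem nonneg_of_integral {x : NumR.N1R k X} (hx : x ∈ NumR.nefCone₂ k X B) (z : NumR.N1 k X)
    (hz : NumR.toN1R k X z ∈ NumR.posCone k X B H hH.1) : 0 ≤ B x (NumR.toN1R k X z) := by
  obtain ⟨L, hL, rfl⟩ := NumR.exists_eq_cl z
  rw [← NumR.clR_def] at hz ⊢
  obtain ⟨h1, h2⟩ := hz
  rw [hB L L hL hL, Int.cast_pos] at h1
  rw [hB L H hL hH.1, Int.cast_pos] at h2
  obtain ⟨m₀, hm⟩ :=
    Growth.exists_growth hdim (NegDef.regular_of_smooth (k := k)) hH hL h2 h1
  have hm' := hm (m₀ + 1) (Nat.le_succ _)
  have hLm := TensorMod.Invertible.isInvertible_tensorPow hL (m₀ + 1)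
  have hne : Module.finrank k (Coh.HH X (CohB1.tensorPow L (m₀ + 1)) 0) ≠ 0 := fun h0 => by
    rw [h0, Nat.cast_zero, mul_zero] at hm'
    exact absurd hm' (not_lt.mpr (mul_nonneg h1.le (sq_nonneg _)))
  obtain ⟨s, hs⟩ := Bound.exists_hom_of_finrank_ne_zero _ hne
  obtain ⟨hD, ⟨e⟩, -, -⟩ := Div.divisor_spec hLm s hs
  have hI := Effective.isInvertible_idealMod hD
  have h := nonneg_of_divisor hdim hB hx hD hI
  have e0 : NumR.clR k X _ hLm + NumR.clR k X _ hI = 0 := by
    rw [← Cones.clR_tensor hLm hI (TensorMod.Invertible.isInvertible_tensorMod hLm hI),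
      clR_congr e _ H2Vanish.isInvertible_structure, clR_structure]
  rw [eq_neg_of_add_eq_zero_right e0, map_neg, neg_nonpos, Cones.clR_pow hL, map_smul,
    smul_eq_mul] at h
  exact nonneg_of_mul_nonneg_right h (by positivity)

variable [Module.Finite ℝ (NumR.N1R k X)]

/-- A nef class is nonnegative on the positive cone. -/
theorem nonneg_of_posCone {x y : NumR.N1R k X} (hx : x ∈ NumR.nefCone₂ k X B)
    (hy : y ∈ NumR.posCone k X B H hH.1) : 0 ≤ B x y := by
  classical
  by_contra hlt
  set S := {x : NumR.N1R k X | ∃ (L : X.Modules) (hL : PicF.IsInvertible L), x = NumR.clR k X L hL}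
  let b := Module.Basis.ofSpan (K := ℝ) (V := NumR.N1R k X) (s := S) (NumR.span_clR (k := k) (X := X)).ge
  haveI hfi := FiniteDimensional.fintypeBasisIndex b
  choose L hL hbL using show ∀ i, b i ∈ S from fun i =>
    Module.Basis.ofSpan_subset (NumR.span_clR (k := k) (X := X)).ge ⟨i, rfl⟩
  have hd : DenseRange fun q : _ → ℚ => b.equivFun.symm fun i => (q i : ℝ) :=
    (b.equivFun.symm.surjective.denseRange).comp
      (DenseRange.piMap fun _ => Rat.denseRange_cast)
      (IsModuleTopology.continuous_of_linearMap b.equivFun.symm.toLinearMap)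
  obtain ⟨q, hq⟩ := hd.exists_mem_open
    (((Cones.isOpen_convex_posCone hdim hB hH).1).inter
      (isOpen_lt (IsModuleTopology.continuous_of_linearMap (B x)) continuous_const))
    ⟨y, hy, not_le.mp hlt⟩
  obtain ⟨hqP, hqlt⟩ := hq
  set v := b.equivFun.symm fun i => (q i : ℝ)
  let N : ℕ := (@Finset.univ _ hfi).prod fun i => (q i).den
  have hN : 0 < N := Finset.prod_pos fun i _ => (q i).den_pos
  have hm : ∀ i, ∃ m : ℤ, ((q i : ℚ) : ℝ) * N = m := fun i => by
    refine ⟨(q i).num * ∏ j ∈ Finset.univ.erase i, ((q j).den : ℤ), ?_⟩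
    simp only [N]
    rw [← Finset.mul_prod_erase _ _ (Finset.mem_univ i)]
    push_cast
    rw [← mul_assoc, Rat.cast_def, div_mul_cancel₀ _ (by exact_mod_cast (q i).den_ne_zero)]
  choose m hm using hm
  have e : NumR.toN1R k X (∑ i, m i • NumR.cl k X (L i) (hL i)) = (N : ℝ) • v := by
    simp only [v, map_sum, map_zsmul, Module.Basis.equivFun_symm_apply, Finset.smul_sum]
    refine Finset.sum_congr rfl fun i _ => ?_
    rw [smul_smul, mul_comm, hm i, hbL i, ← NumR.clR_def, Int.cast_smul_eq_zsmul]
  have h := nonneg_of_integral hdim hB hH hx _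
    (e.symm ▸ Cones.posCone_smul hdim hB hH (by exact_mod_cast hN) hqP)
  rw [e, map_smul, smul_eq_mul] at h
  exact absurd (nonneg_of_mul_nonneg_right h (by exact_mod_cast hN)) (not_le.mpr hqlt)

/-- Nef classes have nonnegative square. -/
theorem self_nonneg {x : NumR.N1R k X} (hx : x ∈ NumR.nefCone₂ k X B) : 0 ≤ B x x := by
  by_contra hneg
  set h := NumR.clR k X H hH.1
  have hd : 0 < B h h := ConeForm.self_pos hdim hB hH
  have hA : 0 ≤ B x h :=
    nonneg_of_posCone hdim hB hH hx (Cones.pos_ample hdim hB hH hH)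
  set d := B h h
  set A := B x h
  set v := x - (A / d) • h
  have hvh : B v h = 0 := by
    simp only [v, map_sub, map_smul, LinearMap.sub_apply, LinearMap.smul_apply, smul_eq_mul,
      A, d]
    rw [div_mul_cancel₀ _ hd.ne', sub_self]
  set c := -(B x v) with hc
  have hxv : B x v = B x x - A / d * A := by
    simp only [v, map_sub, map_smul, smul_eq_mul, A, d]
  have hvv : B v v = -c := by
    rw [hc, neg_neg]
    have e : B v v = B x v - A / d * B h v := by
      conv_lhs => arg 1; arg 2; unfold v
      simp only [map_sub, map_smul, LinearMap.sub_apply, LinearMap.smul_apply, smul_eq_mul]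
    rw [e, ConeForm.symm hdim hB h v, hvh, mul_zero, sub_zero]
  have hc0 : A ^ 2 / d < c := by
    rw [hc, hxv, div_mul_eq_mul_div, ← pow_two]
    linarith [not_le.mp hneg]
  have hcpos : 0 < c := lt_of_le_of_lt (by positivity) hc0
  have hAd : A ^ 2 < c * d := (div_lt_iff₀ hd).mp hc0
  -- a class of positive square on which `x` is negative
  set ε := min 1 ((d * c - A ^ 2) / (2 * c * (2 * A + c))) with hε
  have h2A : 0 < 2 * A + c := by linarith
  have hε0 : 0 < ε := lt_min one_pos (div_pos (by linarith) (by positivity))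
  have hε1 : ε ≤ 1 := min_le_left _ _
  have hε2 : ε * (2 * c * (2 * A + c)) ≤ d * c - A ^ 2 :=
    (le_div_iff₀ (by positivity)).mp (min_le_right _ _)
  set β := A / c + ε
  have hβc : β * c = A + ε * c := by simp only [β]; field_simp
  have hy : h + β • v ∈ NumR.posCone k X B H hH.1 := by
    constructor
    · simp only [map_add, map_smul, LinearMap.add_apply, LinearMap.smul_apply, smul_eq_mul,
        ConeForm.symm hdim hB h v, hvh, hvv]
      have h3 : ε * (ε * c) ≤ 1 * (ε * c) := mul_le_mul_of_nonneg_right hε1 (by positivity)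
      have h4 : β * (β * c) * c < d * c := by
        rw [show β * (β * c) * c = (β * c) * (β * c) by ring, hβc]
        nlinarith [mul_le_mul_of_nonneg_right hε1 (mul_nonneg hε0.le (mul_nonneg hcpos.le hcpos.le)),
          mul_pos hε0 (mul_pos hcpos h2A)]
      have h5 := lt_of_mul_lt_mul_right h4 hcpos.le
      linarith
    · show 0 < B (h + β • v) h
      simp only [map_add, map_smul, LinearMap.add_apply, LinearMap.smul_apply, smul_eq_mul, hvh]
      linarith
  have h1 := nonneg_of_posCone hdim hB hH hx hy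
  simp only [map_add, map_smul, smul_eq_mul] at h1
  rw [show B x v = -c by rw [hc, neg_neg]] at h1
  nlinarith [mul_pos hε0 hcpos]

end Groth.Agent.Lib.SurfInt.NefSq
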