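import Groth.Agent.Lib.SurfInt.Nakai
import Groth.Agent.Lib.SurfInt.NefSq
import Mathlib.Analysis.Convex.Topology

/-!
# The ample cone of a surface
-/

set_option autoImplicit false
set_option linter.style.haveILetI false
set_option linter.unusedSectionVars false
universe u

open CategoryTheory CategoryTheory.Limits AlgebraicGeometry TopologicalSpace

namespace Groth.Agent.Lib.SurfInt.AmpleCone

open Groth.Agent.Lib Groth.Agent.Lib.Snapper

variable {k : Type u} [Field k] {X : Scheme.{u}} [X.Over (Spec (CommRingCat.of k))]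
  [IsIntegral X] [PicGrp.Law X]

variable (k) in
/-- Rational classes are dense. -/
theorem exists_rational_mem [Module.Finite ℝ (NumR.N1R k X)] {U : Set (NumR.N1R k X)} (hU : IsOpen U)
    (hne : U.Nonempty) :
    ∃ (N : ℕ) (L : X.Modules) (hL : PicF.IsInvertible L), 0 < N ∧
      (N : ℝ)⁻¹ • NumR.clR k X L hL ∈ U := by
  classical
  set S := {x : NumR.N1R k X | ∃ (L : X.Modules) (hL : PicF.IsInvertible L), x = NumR.clR k X L hL}
  let b := Module.Basis.ofSpan (K := ℝ) (V := NumR.N1R k X) (s := S) (NumR.span_clR (k := k) (X := X)).ge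
  haveI hfi := FiniteDimensional.fintypeBasisIndex b
  choose L hL hbL using show ∀ i, b i ∈ S from fun i =>
    Module.Basis.ofSpan_subset (NumR.span_clR (k := k) (X := X)).ge ⟨i, rfl⟩
  have hd : DenseRange fun q : _ → ℚ => b.equivFun.symm fun i => (q i : ℝ) :=
    (b.equivFun.symm.surjective.denseRange).comp
      (DenseRange.piMap fun _ => Rat.denseRange_cast)
      (IsModuleTopology.continuous_of_linearMap b.equivFun.symm.toLinearMap)
  obtain ⟨q, hq⟩ := hd.exists_mem_open hU hne
  set v := b.equivFun.symm fun i => (q i : ℝ)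
  let N : ℕ := (@Finset.univ _ hfi).prod fun i => (q i).den
  have hN : 0 < N := Finset.prod_pos fun i _ => (q i).den_pos
  have hm : ∀ i, ∃ m : ℤ, ((q i : ℚ) : ℝ) * N = m := fun i => by
    refine ⟨(q i).num * ∏ j ∈ Finset.univ.erase i, ((q j).den : ℤ), ?_⟩
    simp only [N]
    rw [← Finset.mul_prod_erase _ _ (Finset.mem_univ i)]
    push_cast
    rw [← mul_assoc, Rat.cast_def, div_mul_cancel₀ _ (by exact_mod_cast (q i).den_ne_zero)]
  choose m hm using hm
  have e : NumR.toN1R k X (∑ i, m i • NumR.cl k X (L i) (hL i)) = (N : ℝ) • v := by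
    simp only [v, map_sum, map_zsmul, Module.Basis.equivFun_symm_apply, Finset.smul_sum]
    refine Finset.sum_congr rfl fun i _ => ?_
    rw [smul_smul, mul_comm, hm i, hbL i, ← NumR.clR_def, Int.cast_smul_eq_zsmul]
  obtain ⟨M, hM, hMe⟩ := NumR.exists_eq_cl (∑ i, m i • NumR.cl k X (L i) (hL i))
  refine ⟨N, M, hM, hN, ?_⟩
  rw [NumR.clR_def, ← hMe, e, inv_smul_smul₀ (by exact_mod_cast hN.ne')]
  exact hq

variable [IsNoetherian X] [IsProper (X ↘ Spec (CommRingCat.of k))]
  [Smooth (X ↘ Spec (CommRingCat.of k))] [IsAlgClosed k] (hdim : topologicalKrullDim X = 2)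
  {B : NumR.N1R k X →ₗ[ℝ] NumR.N1R k X →ₗ[ℝ] ℝ} (hB : NumR.IsIntForm₂ k X B)
  {H : X.Modules} (hH : CohB1.IsAmple H)

include hdim hB

theorem curveCl_apply {L : X.Modules} (hL : PicF.IsInvertible L) (C : X.IdealSheafData)
    (hI : PicF.IsInvertible (_root_.ClSub.idealMod C)) :
    B (NumR.clR k X L hL) (NumR.curveCl k X C hI) =
      - (FGA.intNum k X 2 ![_root_.ClSub.idealMod C, L] (Coh.structureModule X) : ℝ) := by
  rw [NumR.curveCl, map_neg, hB L _ hL hI, IntNum.intNum_pair_comm]

/-- An ample class is positive on curves. -/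
theorem pos_curve {x : NumR.N1R k X} (hx : x ∈ (NumR.ampleCone k X : Set (NumR.N1R k X)))
    (C : X.IdealSheafData) (hC : IsIntegral C.subscheme)
    (hCd : topologicalKrullDim (C.support : Set X) = 1)
    (hI : PicF.IsInvertible (_root_.ClSub.idealMod C)) : 0 < B x (NumR.curveCl k X C hI) := by
  haveI := hC
  let c := NumR.curveCl k X C hI
  let P : ConvexCone ℝ (NumR.N1R k X) :=
    { carrier := {y | 0 < B y c}
      smul_mem' := fun r hr y hy => by
        simpa only [Set.mem_setOf_eq, map_smul, LinearMap.smul_apply, smul_eq_mul] using mul_pos hr hy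
      add_mem' := fun y hy z hz => by
        simpa only [Set.mem_setOf_eq, map_add, LinearMap.add_apply] using add_pos hy hz }
  suffices NumR.ampleCone k X ≤ P from this hx
  refine ConvexCone.hull_le_iff.mpr ?_
  rintro _ ⟨L, -, hL, rfl⟩
  show 0 < B (NumR.clR k X L hL.1) c
  rw [curveCl_apply hdim hB hL.1 C hI, neg_pos, Int.cast_lt_zero]
  exact Surface.intNum_ample_neg (Finite.cohFinite k X) hdim (NegDef.regular_of_smooth (k := k)) C
    hCd hL

omit hB in
/-- An effective divisor is nonnegative on all but finitely many curves. -/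
theorem exists_finset {F : X.IdealSheafData} (hF : BlowUp.IsEffCartierIdeal F) :
    ∃ S : Finset X.IdealSheafData, ∀ C : X.IdealSheafData, C ∉ S → IsIntegral C.subscheme →
      topologicalKrullDim (C.support : Set X) = 1 →
        0 ≤ FGA.intNum k X 2 ![_root_.ClSub.idealMod C, _root_.ClSub.idealMod F]
          (Coh.structureModule X) := by
  classical
  have hfin := Finite.cohFinite k X
  have hreg := NegDef.regular_of_smooth (k := k) (X := X)
  refine Mul.induction (X ↘ Spec (CommRingCat.of k)) hdim hreg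
    (P := fun F => ∃ S : Finset X.IdealSheafData, ∀ C : X.IdealSheafData, C ∉ S →
      IsIntegral C.subscheme → topologicalKrullDim (C.support : Set X) = 1 →
        0 ≤ FGA.intNum k X 2 ![_root_.ClSub.idealMod C, _root_.ClSub.idealMod F]
          (Coh.structureModule X)) ⟨∅, fun C _ hC hCd => ?_⟩ ?_ hF
  · haveI := hC
    rw [IntNum.intNum_pair_comm, NegDef.intNum_top hfin hdim
      (Effective.isInvertible_idealMod (NegDef.isEff hfin hdim hreg C hCd))]
  · rintro A hA G hAd hG ⟨S, hS⟩
    refine ⟨insert A S, fun C hCS hC hCd => ?_⟩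
    haveI := hC
    haveI := hA
    rw [Finset.mem_insert, not_or] at hCS
    rw [IntNum.intNum_pair_comm, NegDef.intNum_mul hfin hdim (NegDef.isEff hfin hdim hreg A hAd) hG
      (Effective.isInvertible_idealMod (NegDef.isEff hfin hdim hreg C hCd)),
      IntNum.intNum_pair_comm _ (_root_.ClSub.idealMod C),
      IntNum.intNum_pair_comm _ (_root_.ClSub.idealMod C)]
    exact add_nonneg (NegDef.intNum_curves_nonneg hfin hdim hreg C A hCd hAd hCS.1)
      (hS C hCS.2 hC hCd)

include hH

/-- Nakai–Moishezon for integral classes. -/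
theorem mem_of_integral {L : X.Modules} (hL : PicF.IsInvertible L)
    (h2 : 0 < B (NumR.clR k X L hL) (NumR.clR k X L hL))
    (hc : ∀ (C : X.IdealSheafData), IsIntegral C.subscheme →
      topologicalKrullDim (C.support : Set X) = 1 →
      ∀ hI : PicF.IsInvertible (_root_.ClSub.idealMod C),
        0 < B (NumR.clR k X L hL) (NumR.curveCl k X C hI)) :
    NumR.clR k X L hL ∈ (NumR.ampleCone k X : Set (NumR.N1R k X)) := by
  rw [hB L L hL hL, Int.cast_pos] at h2
  have hA : CohB1.IsAmple L := Nakai.isAmple hdim (NegDef.regular_of_smooth (k := k)) hH hL h2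
    fun C hC hCd => by
      haveI := hC
      have h := hc C hC hCd (Effective.isInvertible_idealMod
        (NegDef.isEff (Finite.cohFinite k X) hdim (NegDef.regular_of_smooth (k := k)) C hCd))
      rwa [curveCl_apply hdim hB hL C, neg_pos, Int.cast_lt_zero] at h
  exact ConvexCone.subset_hull ⟨L, hA.1, hA, rfl⟩

variable [Module.Finite ℝ (NumR.N1R k X)]

/-- A class of positive degree on curves with positive square lies in the positive cone. -/
theorem mem_posCone {x : NumR.N1R k X} (h2 : 0 < B x x) (hx : x ∈ NumR.nefCone₂ k X B) :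
    x ∈ NumR.posCone k X B H hH.1 :=
  ⟨h2, lt_of_le_of_ne
    (NefSq.nonneg_of_posCone hdim hB hH hx (Cones.pos_ample hdim hB hH hH))
    (Ne.symm (ConeForm.ne_zero_of_pos hdim hB hH h2))⟩

/-- **The ample cone.** -/
theorem mem_iff (x : NumR.N1R k X) :
    x ∈ (NumR.ampleCone k X : Set (NumR.N1R k X)) ↔
      (0 < B x x ∧ ∀ (I : X.IdealSheafData), IsIntegral I.subscheme →
        topologicalKrullDim (I.support : Set X) = 1 →
          ∀ hI : PicF.IsInvertible (_root_.ClSub.idealMod I), 0 < B x (NumR.curveCl k X I hI)) := by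
  refine ⟨fun hx => ⟨(Cones.ampleCone_subset hdim hB hH hx).1,
    fun C hC hCd hI => pos_curve hdim hB hx C hC hCd hI⟩, fun ⟨h2, hc⟩ => ?_⟩
  classical
  set A := (NumR.ampleCone k X : Set (NumR.N1R k X)) with hAdef
  set P := NumR.posCone k X B H hH.1
  set h := NumR.clR k X H hH.1
  have hPo : IsOpen P := (Cones.isOpen_convex_posCone hdim hB hH).1
  have hAo : IsOpen A := Cones.isOpen_ampleCone
  haveI : ContinuousSub (NumR.N1R k X) := by
    constructor
    simp only [sub_eq_add_neg]
    exact continuous_fst.add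
      ((IsModuleTopology.continuous_neg ℝ (NumR.N1R k X)).comp continuous_snd)
  have hxP : x ∈ P := mem_posCone hdim hB hH h2 fun C hC hCd hI => (hc C hC hCd hI).le
  have hhA : h ∈ A := ConvexCone.subset_hull ⟨H, hH.1, hH, rfl⟩
  -- an effective rational class `p` with `x - p` ample
  obtain ⟨ε, hε, hεP⟩ : ∃ ε : ℝ, 0 < ε ∧ x - ε • h ∈ P := by
    have hcont : Continuous fun t : ℝ => x - t • h :=
      continuous_const.sub ((continuous_id.smul (continuous_const (y := h))).congr fun _ => rfl)
    obtain ⟨δ, hδ, hball⟩ := Metric.mem_nhds_iff.mp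
      ((hPo.preimage hcont).mem_nhds (x := (0 : ℝ)) (by simpa using hxP))
    exact ⟨δ / 2, by linarith, hball (by simp [abs_of_pos hδ]; linarith)⟩
  obtain ⟨N, L, hL, hN, hpP, hpA⟩ := exists_rational_mem k
    (hPo.inter (hAo.preimage (continuous_const.sub continuous_id)))
    (U := P ∩ (fun p => x - p) ⁻¹' A)
    ⟨x - ε • h, hεP, by
      show x - (x - ε • h) ∈ A
      rw [sub_sub_cancel]
      exact (NumR.ampleCone k X).smul_mem hε hhA⟩
  set p := (N : ℝ)⁻¹ • NumR.clR k X L hL with hp
  have hN' : (0 : ℝ) < N := by exact_mod_cast hN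
  have hLP : NumR.clR k X L hL ∈ P := by
    have := Cones.posCone_smul hdim hB hH hN' hpP
    rwa [hp, smul_inv_smul₀ hN'.ne'] at this
  obtain ⟨hL1, hL2⟩ := hLP
  rw [hB L L hL hL, Int.cast_pos] at hL1
  rw [hB L H hL hH.1, Int.cast_pos] at hL2
  obtain ⟨m₀, hm⟩ :=
    Growth.exists_growth hdim (NegDef.regular_of_smooth (k := k)) hH hL hL2 hL1
  have hm' := hm (m₀ + 1) m₀.le_succ
  have hne : Module.finrank k (Coh.HH X (CohB1.tensorPow L (m₀ + 1)) 0) ≠ 0 := fun h0 => by
    rw [h0, Nat.cast_zero, mul_zero] at hm'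
    exact absurd hm' (not_lt.mpr (mul_nonneg hL1.le (sq_nonneg _)))
  obtain ⟨s, hs⟩ := Bound.exists_hom_of_finrank_ne_zero _ hne
  have hLm := TensorMod.Invertible.isInvertible_tensorPow hL (m₀ + 1)
  obtain ⟨hD, -, -, -⟩ := Div.divisor_spec hLm s hs
  obtain ⟨S, hS⟩ := exists_finset (k := k) hdim hD
  have hpC : ∀ C, C ∉ S → IsIntegral C.subscheme → topologicalKrullDim (C.support : Set X) = 1 →
      ∀ hI : PicF.IsInvertible (_root_.ClSub.idealMod C), 0 ≤ B p (NumR.curveCl k X C hI) := by
    intro C hCS hC hCd hI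
    have h0 := hS C hCS hC hCd
    rw [IntNum.intNum_pair_comm, Bound.intNum_zeroScheme (Finite.cohFinite k X) hdim hLm s hs hI,
      Hodge.intNum_pow_left (Finite.cohFinite k X) hdim hL hI m₀, IntNum.intNum_pair_comm] at h0
    rw [hp, map_smul, LinearMap.smul_apply, smul_eq_mul, curveCl_apply hdim hB hL C hI]
    refine mul_nonneg (inv_nonneg.mpr hN'.le) ?_
    rw [neg_nonneg, Int.cast_nonpos]
    exact nonpos_of_mul_nonpos_right (neg_nonneg.mp h0) (Int.natCast_pos.mpr m₀.succ_pos)
  -- near `x` the rational classes are ample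
  let O : Set (NumR.N1R k X) := ⋂ C ∈ S, {y | IsIntegral C.subscheme →
    topologicalKrullDim (C.support : Set X) = 1 → ∀ hI : PicF.IsInvertible (_root_.ClSub.idealMod C),
      0 < B y (NumR.curveCl k X C hI)}
  have hO : IsOpen O := isOpen_biInter_finset fun C _ => by
    by_cases hC : IsIntegral C.subscheme ∧ topologicalKrullDim (C.support : Set X) = 1 ∧
        PicF.IsInvertible (_root_.ClSub.idealMod C)
    · obtain ⟨h1, h1', hI⟩ := hC
      convert isOpen_lt (continuous_const (y := (0 : ℝ)))
        (IsModuleTopology.continuous_of_linearMap (B.flip (NumR.curveCl k X C hI))) using 1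
      ext y
      exact ⟨fun h => h h1 h1' hI, fun h _ _ _ => h⟩
    · convert isOpen_univ
      exact Set.eq_univ_of_forall fun y h1 h1' hI => (hC ⟨h1, h1', hI⟩).elim
  set V := P ∩ ((fun y => y - p) ⁻¹' A) ∩ O
  have hV : IsOpen V := (hPo.inter (hAo.preimage (continuous_id.sub continuous_const))).inter hO
  have hxV : x ∈ V := ⟨⟨hxP, hpA⟩,
    Set.mem_iInter₂.mpr fun C _ hC hCd hI => hc C hC hCd hI⟩
  have hVA : V ⊆ closure A := by
    refine fun z hz => mem_closure_iff.mpr fun U hU hzU => ?_
    obtain ⟨n, M, hM, hn, hqU, ⟨hqP, hqA⟩, hqO⟩ :=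
      exists_rational_mem k (hU.inter hV) ⟨z, hzU, hz⟩
    set q := (n : ℝ)⁻¹ • NumR.clR k X M hM with hq
    have hn' : (0 : ℝ) < n := by exact_mod_cast hn
    have hqM : NumR.clR k X M hM = (n : ℝ) • q := by rw [hq, smul_inv_smul₀ hn'.ne']
    refine ⟨q, hqU, ?_⟩
    refine (NumR.ampleCone k X).smul_mem (inv_pos.mpr hn')
      (mem_of_integral hdim hB hH hM ?_ fun C hC hCd hI => ?_)
    · rw [hqM]
      exact (Cones.posCone_smul hdim hB hH hn' hqP).1
    · rw [hqM, map_smul, LinearMap.smul_apply, smul_eq_mul]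
      refine mul_pos hn' ?_
      by_cases hCS : C ∈ S
      · exact Set.mem_iInter₂.mp hqO C hCS hC hCd hI
      · have h1 := pos_curve hdim hB hqA C hC hCd hI
        rw [map_sub, LinearMap.sub_apply] at h1
        linarith [hpC C hCS hC hCd hI]
  haveI : IsTopologicalAddGroup (NumR.N1R k X) :=
    { continuous_add := continuous_add
      continuous_neg := IsModuleTopology.continuous_neg ℝ (NumR.N1R k X) }
  have hxi : x ∈ interior (closure A) := interior_maximal hVA hV hxV
  rwa [(NumR.ampleCone k X).convex.interior_closure_eq_interior_of_nonempty_interior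
    (by rw [hAo.interior_eq]; exact ⟨h, hhA⟩), hAo.interior_eq] at hxi

/-- A nef class plus an ample class is ample. -/
theorem add_mem {x y : NumR.N1R k X} (hx : x ∈ NumR.nefCone₂ k X B)
    (hy : y ∈ (NumR.ampleCone k X : Set (NumR.N1R k X))) :
    x + y ∈ (NumR.ampleCone k X : Set (NumR.N1R k X)) := by
  obtain ⟨hy2, hyc⟩ := (mem_iff hdim hB hH y).mp hy
  refine (mem_iff hdim hB hH _).mpr ⟨?_, fun C hC hCd hI => ?_⟩
  · simp only [map_add, LinearMap.add_apply, ConeForm.symm hdim hB y x]
    linarith [NefSq.self_nonneg hdim hB hH hx,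
      NefSq.nonneg_of_posCone hdim hB hH hx (Cones.ampleCone_subset hdim hB hH hy)]
  · simp only [map_add, LinearMap.add_apply]
    linarith [hx C hC hCd hI, hyc C hC hCd hI]

/-- The closure of the ample cone. -/
theorem closure_eq :
    closure (NumR.ampleCone k X : Set (NumR.N1R k X)) =
      {x | 0 ≤ B x x ∧ x ∈ NumR.nefCone₂ k X B} := by
  refine Set.Subset.antisymm (closure_minimal
    (fun x hx => ⟨(Cones.ampleCone_subset hdim hB hH hx).1.le,
      fun C hC hCd hI => (pos_curve hdim hB hx C hC hCd hI).le⟩) ?_) ?_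
  · refine (isClosed_le continuous_const
      ((IsModuleTopology.continuous_bilinear_of_finite_left B).comp
        (continuous_id.prodMk continuous_id))).inter ?_
    simp only [NumR.nefCone₂, Set.setOf_forall]
    exact isClosed_iInter fun C => isClosed_iInter fun _ => isClosed_iInter fun _ =>
      isClosed_iInter fun hI => isClosed_le continuous_const
        (IsModuleTopology.continuous_of_linearMap (B.flip (NumR.curveCl k X C hI)))
  · rintro x ⟨-, hx⟩
    set h := NumR.clR k X H hH.1
    have hhA : h ∈ (NumR.ampleCone k X : Set (NumR.N1R k X)) :=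
      ConvexCone.subset_hull ⟨H, hH.1, hH, rfl⟩
    have hcont : Continuous fun t : ℝ => x + t • h :=
      continuous_const.add ((continuous_id.smul (continuous_const (y := h))).congr fun _ => rfl)
    have h0 : (0 : ℝ) ∈ closure (Set.Ioi (0 : ℝ)) := by rw [closure_Ioi]; exact Set.self_mem_Ici
    have := map_mem_closure hcont h0 fun t (ht : 0 < t) =>
      add_mem hdim hB hH hx ((NumR.ampleCone k X).smul_mem ht hhA)
    simpa using this

/-- The closure of the ample cone in the positive cone. -/
theorem closure_inter_eq :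
    closure (NumR.ampleCone k X : Set (NumR.N1R k X)) ∩ NumR.posCone k X B H hH.1 =
      {x | 0 < B x x ∧ x ∈ NumR.nefCone₂ k X B} := by
  rw [closure_eq hdim hB hH]
  ext x
  exact ⟨fun ⟨⟨_, hx⟩, hp⟩ => ⟨hp.1, hx⟩,
    fun ⟨h2, hx⟩ => ⟨⟨h2.le, hx⟩, mem_posCone hdim hB hH h2 hx⟩⟩

end Groth.Agent.Lib.SurfInt.AmpleCone
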