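import Groth.Agent.Lib.SurfInt.Growth

/-!
# The Euler characteristic is numerically invariant on a surface
-/

set_option autoImplicit false
set_option linter.style.haveILetI false
set_option linter.unusedSectionVars false
universe u

open CategoryTheory CategoryTheory.Limits AlgebraicGeometry

namespace Groth.Agent.Lib.SurfInt.ChiNum

open Groth.Agent.Lib Groth.Agent.Lib.Modules Groth.Agent.Lib.Snapper
open Groth.Agent.Lib.TensorMod.Basic (comm rightUnit)
open Groth.Agent.Lib.TensorMod.Invertible (isInvertible_tensorPow isInvertible_tensorMod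
  isInvertible_dual tensorDualIso)

variable {k : Type u} [Field k] {X : Scheme.{u}} [X.Over (Spec (CommRingCat.of k))]
  [IsIntegral X] [IsNoetherian X] [IsProper (X ↘ Spec (CommRingCat.of k))] [IsAlgClosed k]
  (hdim : topologicalKrullDim X = 2) (hreg : ∀ x : X, IsRegularLocalRing (X.presheaf.stalk x))

include k hdim hreg

/-- An ample class with a section has positive square. -/
theorem self_pos {H : X.Modules} (hH : CohB1.IsAmple H) (s : Coh.structureModule X ⟶ H)
    (hs : s ≠ 0) : 0 < FGA.intNum k X 2 ![H, H] (Coh.structureModule X) := by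
  have hfin := Finite.cohFinite k X
  have h := Bound.intNum_zeroScheme hfin hdim hH.1 s hs hH.1
  have hne : PicF2.zeroScheme H s ≠ ⊤ := by
    intro htop
    obtain ⟨C, hC, hCd⟩ := Hodge.exists_curve (X ↘ Spec (CommRingCat.of k)) hdim
    haveI := hC
    have hI := Effective.isInvertible_idealMod
      (Curve.isEffCartier (X ↘ Spec (CommRingCat.of k)) hdim hreg C hCd)
    have h1 := Bound.intNum_zeroScheme hfin hdim hH.1 s hs hI
    rw [htop, NegDef.intNum_top hfin hdim hI] at h1
    have h2 := Surface.intNum_ample_neg hfin hdim hreg C hCd hH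
    rw [IntNum.intNum_pair_comm] at h2
    linarith
  have := NegDef.intNum_eff_ample_neg hfin hdim hreg hH (Div.divisor_spec hH.1 s hs).1 hne
  linarith

/-- `χ(N) ≤ χ(O)` for a numerically trivial `N`. -/
theorem chi_le {H N : X.Modules} (hH : CohB1.IsAmple H) (hN : PicF.IsInvertible N)
    (h0 : ∀ P : X.Modules, PicF.IsInvertible P →
      FGA.intNum k X 2 ![N, P] (Coh.structureModule X) = 0) :
    FGA.eulerCharLE k X N 2 ≤ FGA.eulerCharLE k X (Coh.structureModule X) 2 := by
  have hfin := Finite.cohFinite k X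
  have hO := Twist.isCoh_structureModule X
  obtain ⟨m, hm, s₁, s₂, hs₁, hs₂, hB⟩ :=
    Hodge.exists_two_sections (X ↘ Spec (CommRingCat.of k)) hdim hH
  have hH' : CohB1.IsAmple (CohB1.tensorPow H m) := (Ample.Pow.isAmple_tensorPow_iff hH.1 hm).mp hH
  set d := FGA.intNum k X 2 ![(CohB1.tensorPow H m), (CohB1.tensorPow H m)] (Coh.structureModule X)
  have hd : 0 < d := self_pos hdim hreg hH' s₁ hs₁
  obtain ⟨n₀, hn₀⟩ := H2Vanish.exists_bound (k := k) hdim hreg hH'
  set A := CohB1.tensorPow (CohB1.tensorPow H m) (n₀.natAbs + 1)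
  have hA : PicF.IsInvertible A := isInvertible_tensorPow hH'.1 _
  have hAH : FGA.intNum k X 2 ![A, (CohB1.tensorPow H m)] (Coh.structureModule X) =
      ((n₀.natAbs + 1 : ℕ) : ℤ) * d := Hodge.intNum_pow_left hfin hdim hH'.1 hH'.1 _
  have hn₁ : n₀ < ((n₀.natAbs + 1 : ℕ) : ℤ) * d :=
    lt_of_lt_of_le (show n₀ < ((n₀.natAbs + 1 : ℕ) : ℤ) by omega)
      (le_mul_of_one_le_right (Int.natCast_nonneg _) hd)
  set B := ((n₀.natAbs + 1 + 1 : ℕ) : ℤ) * ((n₀.natAbs + 1 + 2 : ℕ) : ℤ) * d
  by_contra hlt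
  push Not at hlt
  set χA := FGA.eulerCharLE k X A 2 with hχA
  let n : ℕ := (B - 2 * χA).natAbs + 1
  have hNn := isInvertible_tensorPow hN (n + 1)
  have hzero : ∀ P : X.Modules, PicF.IsInvertible P →
      FGA.intNum k X 2 ![CohB1.tensorPow N (n + 1), P] (Coh.structureModule X) = 0 := fun P hP => by
    rw [Hodge.intNum_pow_left hfin hdim hN hP n, h0 P hP, mul_zero]
  set M := CohB1.tensorMod (CohB1.tensorPow N (n + 1)) A
  have hM : PicF.IsInvertible M := isInvertible_tensorMod hNn hA
  have hMH : FGA.intNum k X 2 ![M, (CohB1.tensorPow H m)] (Coh.structureModule X) =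
      ((n₀.natAbs + 1 : ℕ) : ℤ) * d := by
    rw [IntNum.intNum_pair_tensor_left hfin hdim.le hNn hA hH'.1 hO, hzero (CohB1.tensorPow H m) hH'.1, zero_add, hAH]
  have h1 := Growth.chi_le_h0 (k := k) hdim hreg (hn₀ M hM (hMH ▸ hn₁))
  have h2 := Bound.two_mul_h0_le hfin hdim hreg hH'.1 s₁ s₂ hs₁ hs₂ hB hM (n₀.natAbs + 1) (by
    rw [hMH]
    exact mul_lt_mul_of_pos_right (by omega) hd)
  have h3 := Hodge.intNum_expand (k := k) (CohB1.tensorPow N (n + 1)) A
  rw [hzero A hA] at h3
  have h4 := Hodge.two_mul_chi_pow hfin hdim hN n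
  rw [h0 N hN] at h4
  have h5 : ((n : ℤ) + 1) * 1 ≤
      ((n : ℤ) + 1) * (FGA.eulerCharLE k X N 2 - FGA.eulerCharLE k X (Coh.structureModule X) 2) :=
    mul_le_mul_of_nonneg_left (by omega) (by omega)
  have h6 : B - 2 * χA < (n : ℤ) := by simp only [n]; omega
  push_cast at h4
  linarith

/-- A numerically trivial module has the Euler characteristic of `O`. -/
theorem chi_eq {H N : X.Modules} (hH : CohB1.IsAmple H) (hN : PicF.IsInvertible N)
    (h0 : ∀ P : X.Modules, PicF.IsInvertible P →
      FGA.intNum k X 2 ![N, P] (Coh.structureModule X) = 0) :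
    FGA.eulerCharLE k X N 2 = FGA.eulerCharLE k X (Coh.structureModule X) 2 := by
  have hN' := isInvertible_dual hN
  have h0' : ∀ P : X.Modules, PicF.IsInvertible P →
      FGA.intNum k X 2 ![TensorMod.Dual.dual N, P] (Coh.structureModule X) = 0 := fun P hP => by
    rw [IntNum.intNum_pair_inverse (Finite.cohFinite k X) hdim.le hN hN' (tensorDualIso hN) hP
      (Twist.isCoh_structureModule X), h0 P hP, neg_zero]
  have h := Hodge.intNum_expand (k := k) N (TensorMod.Dual.dual N)
  rw [h0 _ hN', Chi.eulerCharLE_of_iso (tensorDualIso hN)] at h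
  have h1 := chi_le (k := k) hdim hreg hH hN h0
  have h2 := chi_le (k := k) hdim hreg hH hN' h0'
  linarith

/-- Numerically equivalent modules have equal Euler characteristics. -/
theorem chi_congr {H L₁ L₂ : X.Modules} (hH : CohB1.IsAmple H) (h₁ : PicF.IsInvertible L₁)
    (h₂ : PicF.IsInvertible L₂)
    (hnum : ∀ P : X.Modules, PicF.IsInvertible P →
      FGA.intNum k X 2 ![L₁, P] (Coh.structureModule X) =
        FGA.intNum k X 2 ![L₂, P] (Coh.structureModule X)) :
    FGA.eulerCharLE k X L₁ 2 = FGA.eulerCharLE k X L₂ 2 := by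
  have hfin := Finite.cohFinite k X
  have hd := isInvertible_dual h₂
  set N := CohB1.tensorMod L₁ (TensorMod.Dual.dual L₂)
  have hN : PicF.IsInvertible N := isInvertible_tensorMod h₁ hd
  have h0 : ∀ P : X.Modules, PicF.IsInvertible P →
      FGA.intNum k X 2 ![N, P] (Coh.structureModule X) = 0 := fun P hP => by
    rw [IntNum.intNum_pair_tensor_left hfin hdim.le h₁ hd hP (Twist.isCoh_structureModule X),
      IntNum.intNum_pair_inverse hfin hdim.le h₂ hd (tensorDualIso h₂) hP
        (Twist.isCoh_structureModule X), hnum P hP, add_neg_cancel]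
  have h := Hodge.intNum_expand (k := k) N L₂
  rw [h0 L₂ h₂, chi_eq hdim hreg hH hN h0, Chi.eulerCharLE_of_iso
    (show CohB1.tensorMod N L₂ ≅ L₁ from TensorMod.Basic.assoc _ _ _ ≪≫
      TensorMod.Basic.tensorIso (Iso.refl L₁) (comm _ _ ≪≫ tensorDualIso h₂) ≪≫ rightUnit L₁)] at h
  linarith

end Groth.Agent.Lib.SurfInt.ChiNum
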