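import Groth.Agent.Lib.SurfInt.NegDef
import Groth.Agent.Lib.Snapper.Finite

/-!
# Configurations of curves on a surface
-/

set_option autoImplicit false
set_option linter.style.haveILetI false
set_option linter.unusedSectionVars false
universe u

open CategoryTheory CategoryTheory.Limits AlgebraicGeometry

namespace Groth.Agent.Lib.SurfInt.Config

open Groth.Agent.Lib Groth.Agent.Lib.Snapper

/-- A nonnegative combination killed by a negative functional vanishes. -/
theorem eq_zero_of_sum_mul_eq_zero {r : ℕ} {p h : Fin r → ℤ} (hp : ∀ i, 0 ≤ p i)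
    (hh : ∀ i, h i < 0) (h0 : ∑ i, p i * h i = 0) : p = 0 := by
  funext i
  have h1 := (Finset.sum_eq_zero_iff_of_nonpos
    fun j _ => mul_nonpos_of_nonneg_of_nonpos (hp j) (hh j).le).mp h0 i (Finset.mem_univ i)
  exact (mul_eq_zero.mp h1).resolve_right (hh i).ne

/-- If `a` pairs trivially with everything, both its parts have nonnegative square. -/
theorem square_posPart {r : ℕ} (G : Fin r → Fin r → ℤ) (hoff : ∀ i j, i ≠ j → 0 ≤ G i j)
    (a : Fin r → ℤ) (h : ∀ j, ∑ i, a i * G i j = 0) :
    0 ≤ ∑ i, ∑ j, max (a i) 0 * max (a j) 0 * G i j := by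
  have e : ∑ i, ∑ j, max (a i) 0 * max (a j) 0 * G i j =
      ∑ j, max (a j) 0 * ∑ i, max (a i) 0 * G i j := by
    rw [Finset.sum_comm]
    refine Finset.sum_congr rfl fun j _ => ?_
    rw [Finset.mul_sum]
    exact Finset.sum_congr rfl fun i _ => by ring
  rw [e]
  refine Finset.sum_nonneg fun j _ => ?_
  have h2 : ∑ i, max (a i) 0 * G i j = ∑ i, max (- a i) 0 * G i j := by
    rw [← sub_eq_zero, ← Finset.sum_sub_distrib]
    exact (Finset.sum_congr rfl fun i _ => by
      rw [← sub_mul, show max (a i) 0 - max (-a i) 0 = a i by omega]).trans (h j)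
  rw [h2, Finset.mul_sum]
  refine Finset.sum_nonneg fun i _ => ?_
  rcases eq_or_ne i j with rfl | hne
  · rcases le_total (a i) 0 with hle | hle
    · simp [max_eq_right hle]
    · simp [max_eq_right (neg_nonpos.mpr hle)]
  · exact mul_nonneg (le_max_right _ _) (mul_nonneg (le_max_right _ _) (hoff i j hne))

variable {k : Type u} [Field k] {X : Scheme.{u}} [X.Over (Spec (CommRingCat.of k))]
  [IsIntegral X] [IsNoetherian X] [IsProper (X ↘ Spec (CommRingCat.of k))]
  [Smooth (X ↘ Spec (CommRingCat.of k))] (hdim : topologicalKrullDim X = 2)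
  {r : ℕ} (C : Fin r → X.IdealSheafData) (hC : Function.Injective C)
  (hCi : ∀ i, IsIntegral (C i).subscheme)
  (hCd : ∀ i, topologicalKrullDim ((C i).support : Set X) = 1)

include hdim hC hCi hCd

include k in
theorem isEff (i : Fin r) : BlowUp.IsEffCartierIdeal (C i) :=
  haveI := hCi i
  NegDef.isEff (Finite.cohFinite k X) hdim (NegDef.regular_of_smooth (k := k)) (C i) (hCd i)

theorem offDiag (i j : Fin r) (h : i ≠ j) :
    0 ≤ FGA.intNum k X 2 ![_root_.ClSub.idealMod (C i), _root_.ClSub.idealMod (C j)]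
      (Coh.structureModule X) :=
  NegDef.offDiag (Finite.cohFinite k X) hdim (NegDef.regular_of_smooth (k := k)) C hC hCi hCd i j h

theorem ample_neg {H : X.Modules} (hH : CohB1.IsAmple H) (i : Fin r) :
    FGA.intNum k X 2 ![_root_.ClSub.idealMod (C i), H] (Coh.structureModule X) < 0 :=
  haveI := hCi i
  Surface.intNum_ample_neg (Finite.cohFinite k X) hdim (NegDef.regular_of_smooth (k := k)) (C i)
    (hCd i) hH

theorem nonneg_of_notComponent {F : X.IdealSheafData} (hF : FGA.IsEffCartier F)
    (hFC : ∀ i, ¬ ((C i).support : Set X) ⊆ (F.support : Set X)) (i : Fin r) :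
    0 ≤ FGA.intNum k X 2 ![_root_.ClSub.idealMod (C i), _root_.ClSub.idealMod F]
      (Coh.structureModule X) :=
  haveI := hCi i
  Surface.intNum_nonneg (Finite.cohFinite k X) hdim (NegDef.regular_of_smooth (k := k)) (C i)
    (hCd i) hF (hFC i)

end Groth.Agent.Lib.SurfInt.Config
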