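import Groth.Agent.Lib.SurfInt.ConeForm
import Groth.Agent.Lib.SurfInt.Config
import Mathlib.LinearAlgebra.Matrix.ToLinearEquiv
import Mathlib.Topology.Algebra.Module.ModuleTopology

/-!
# The ample and positive cones of a surface
-/

set_option autoImplicit false
set_option linter.style.haveILetI false
set_option linter.unusedSectionVars false
universe u

open CategoryTheory CategoryTheory.Limits AlgebraicGeometry

namespace Groth.Agent.Lib.SurfInt.Cones

open Groth.Agent.Lib Groth.Agent.Lib.Snapper

/-- An integral quadratic form negative on integral vectors is negative semidefinite. -/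
theorem real_nonpos {r : ℕ} (G : Fin r → Fin r → ℤ)
    (hneg : ∀ a : Fin r → ℤ, a ≠ 0 → ∑ i, ∑ j, a i * a j * G i j < 0) :
    ∀ a : Fin r → ℝ, ∑ i, ∑ j, a i * a j * (G i j : ℝ) ≤ 0 := by
  have hd : DenseRange (Pi.map fun (_ : Fin r) (q : ℚ) => (q : ℝ)) :=
    DenseRange.piMap fun _ => Rat.denseRange_cast
  intro a
  refine hd.induction_on a (isClosed_le (by fun_prop) continuous_const) fun q => ?_
  simp only [Pi.map_apply]
  let N : ℕ := ∏ i, (q i).den
  have hN : 0 < N := Finset.prod_pos fun i _ => (q i).den_pos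
  have hm : ∀ i, ∃ m : ℤ, ((q i : ℚ) : ℝ) * N = m := fun i => by
    refine ⟨(q i).num * ∏ j ∈ Finset.univ.erase i, ((q j).den : ℤ), ?_⟩
    simp only [N]
    rw [← Finset.mul_prod_erase _ _ (Finset.mem_univ i)]
    push_cast
    rw [← mul_assoc, Rat.cast_def, div_mul_cancel₀ _ (by exact_mod_cast (q i).den_ne_zero)]
  choose m hm using hm
  have hle : ∑ i, ∑ j, m i * m j * G i j ≤ 0 := by
    by_cases hm0 : m = 0
    · simp [hm0]
    · exact (hneg m hm0).le
  have e : ((∑ i, ∑ j, m i * m j * G i j : ℤ) : ℝ) =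
      (N : ℝ) ^ 2 * ∑ i, ∑ j, ((q i : ℚ) : ℝ) * ((q j : ℚ) : ℝ) * (G i j : ℝ) := by
    push_cast
    simp only [← hm, Finset.mul_sum]
    exact Finset.sum_congr rfl fun i _ => Finset.sum_congr rfl fun j _ => by ring
  have h' : (((∑ i, ∑ j, m i * m j * G i j : ℤ)) : ℝ) ≤ 0 := by exact_mod_cast hle
  rw [e] at h'
  exact nonpos_of_mul_nonpos_right h' (by positivity) |> fun h => h

/-- Its radical is trivial. -/
theorem real_ker {r : ℕ} (G : Fin r → Fin r → ℤ)
    (hneg : ∀ a : Fin r → ℤ, a ≠ 0 → ∑ i, ∑ j, a i * a j * G i j < 0) (a : Fin r → ℝ)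
    (h : ∀ i, ∑ j, (G i j : ℝ) * a j = 0) : a = 0 := by
  let M : Matrix (Fin r) (Fin r) ℤ := G
  have hdet : M.det ≠ 0 := fun h0 => by
    obtain ⟨v, hv, hv0⟩ := Matrix.exists_mulVec_eq_zero_iff.mpr h0
    refine absurd (hneg v hv) (not_lt.mpr (le_of_eq ?_))
    refine (Finset.sum_eq_zero fun i _ => ?_).symm
    have := congrFun hv0 i
    simp only [Matrix.mulVec, dotProduct, Pi.zero_apply] at this
    rw [← mul_zero (v i), ← this, Finset.mul_sum]
    exact Finset.sum_congr rfl fun j _ => by ring
  by_contra ha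
  refine hdet ?_
  have h2 : (M.map (Int.castRingHom ℝ)).det = 0 := Matrix.exists_mulVec_eq_zero_iff.mp
    ⟨a, ha, funext fun i => by simpa [Matrix.mulVec, dotProduct, M] using h i⟩
  have h3 := RingHom.map_det (Int.castRingHom ℝ) M
  rw [RingHom.mapMatrix_apply, h2] at h3
  simpa using h3

variable {k : Type u} [Field k] {X : Scheme.{u}} [X.Over (Spec (CommRingCat.of k))]
  [IsIntegral X] [PicGrp.Law X]

theorem clR_tensor {L M : X.Modules} (hL : PicF.IsInvertible L) (hM : PicF.IsInvertible M)
    (hLM : PicF.IsInvertible (CohB1.tensorMod L M)) :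
    NumR.clR k X (CohB1.tensorMod L M) hLM = NumR.clR k X L hL + NumR.clR k X M hM := by
  have e : PicGrp.cls (CohB1.tensorMod L M) hLM = PicGrp.cls L hL * PicGrp.cls M hM :=
    Subtype.ext (PicGrp.cls_mul_cls_val hL hM).symm
  simp only [NumR.clR, NumR.cl]
  rw [e, ofMul_mul, map_add, map_add]

theorem clR_pow {L : X.Modules} (hL : PicF.IsInvertible L) (n : ℕ)
    (hn : PicF.IsInvertible (CohB1.tensorPow L n)) :
    NumR.clR k X (CohB1.tensorPow L n) hn = (n : ℝ) • NumR.clR k X L hL := by
  have e : PicGrp.cls (CohB1.tensorPow L n) hn = PicGrp.cls L hL ^ n :=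
    Subtype.ext (PicGrp.cls_pow_val hL n).symm
  simp only [NumR.clR, NumR.cl]
  rw [e, ofMul_pow, map_nsmul, map_nsmul, Nat.cast_smul_eq_nsmul]

theorem exists_neg {M : X.Modules} (hM : PicF.IsInvertible M) :
    ∃ (M' : X.Modules) (hM' : PicF.IsInvertible M'),
      NumR.clR k X M' hM' = - NumR.clR k X M hM := by
  refine ⟨_, TensorMod.Invertible.isInvertible_dual hM, ?_⟩
  simp only [NumR.clR, NumR.cl]
  rw [← PicGrp.cls_inv_eq_cls hM (TensorMod.Invertible.isInvertible_dual hM)
    ⟨TensorMod.Invertible.tensorDualIso hM⟩, ofMul_inv, map_neg, map_neg]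

variable [IsNoetherian X] [IsProper (X ↘ Spec (CommRingCat.of k))]

/-- An ample class moved slightly in an integral direction stays in the cone. -/
theorem exists_segment {H M : X.Modules} (hH : CohB1.IsAmple H) (hM : PicF.IsInvertible M) :
    ∃ ε : ℝ, 0 < ε ∧ ∀ t : ℝ, |t| ≤ ε →
      NumR.clR k X H hH.1 + t • NumR.clR k X M hM ∈ NumR.ampleCone k X := by
  haveI : QuasiSeparatedSpace X := inferInstance
  obtain ⟨M', hM', hneg⟩ := exists_neg (k := k) hM
  obtain ⟨n₁, hn₁, h₁⟩ := Ample.GG.exists_isAmple_isGloballyGenerated hH hM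
  obtain ⟨n₂, hn₂, h₂⟩ := Ample.GG.exists_isAmple_isGloballyGenerated hH hM'
  set n := n₁ + n₂
  have hn : (0 : ℝ) < n := by exact_mod_cast (by omega : 0 < n)
  have hp := (h₁ n (by omega)).1
  have hq := (h₂ n (by omega)).1
  have hmem : ∀ {A : X.Modules} (hA : CohB1.IsAmple A) {c : ℝ}, 0 < c →
      c • NumR.clR k X A hA.1 ∈ NumR.ampleCone k X := fun hA _ hc =>
    (NumR.ampleCone k X).smul_mem hc (ConvexCone.subset_hull ⟨_, hA.1, hA, rfl⟩)
  refine ⟨1 / (2 * n), by positivity, fun t ht => ?_⟩
  rw [abs_le] at ht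
  have e : NumR.clR k X H hH.1 + t • NumR.clR k X M hM =
      ((1 + n * t) / (2 * n)) • NumR.clR k X _ hp.1 + ((1 - n * t) / (2 * n)) • NumR.clR k X _ hq.1 := by
    rw [clR_tensor (TensorMod.Invertible.isInvertible_tensorPow hH.1 n) hM,
      clR_tensor (TensorMod.Invertible.isInvertible_tensorPow hH.1 n) hM', hneg,
      clR_pow hH.1]
    match_scalars <;> field_simp <;> ring
  rw [e]
  have h3 : (n : ℝ) * (1 / (2 * n)) = 1 / 2 := by field_simp
  exact (NumR.ampleCone k X).add_mem
    (hmem hp (div_pos (by nlinarith [mul_le_mul_of_nonneg_left ht.1 hn.le]) (by positivity)))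
    (hmem hq (div_pos (by nlinarith [mul_le_mul_of_nonneg_left ht.2 hn.le]) (by positivity)))

/-- The ample cone is open. -/
theorem isOpen_ampleCone [Module.Finite ℝ (NumR.N1R k X)] :
    IsOpen (NumR.ampleCone k X : Set (NumR.N1R k X)) := by
  set C := (NumR.ampleCone k X : Set (NumR.N1R k X))
  rw [← subset_interior_iff_isOpen]
  have hsmul : ∀ c : ℝ, 0 < c → ∀ x ∈ interior C, c • x ∈ interior C := by
    intro c hc x hx
    refine interior_maximal ?_ (isOpenMap_smul₀ hc.ne' _ isOpen_interior) ⟨x, hx, rfl⟩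
    rintro _ ⟨y, hy, rfl⟩
    exact (NumR.ampleCone k X).smul_mem hc (interior_subset hy)
  have hadd : ∀ x ∈ interior C, ∀ y ∈ interior C, x + y ∈ interior C := by
    intro x hx y hy
    have hopen : IsOpen ((fun z => z + y) '' interior C) := by
      rw [show (fun z => z + y) '' interior C = (fun z => z + (-1 : ℝ) • y) ⁻¹' interior C by
        ext z
        constructor
        · rintro ⟨w, hw, rfl⟩
          simpa using hw
        · intro hz
          exact ⟨z + (-1 : ℝ) • y, hz, by simp⟩]
      exact isOpen_interior.preimage (continuous_id.add continuous_const)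
    refine interior_maximal ?_ hopen ⟨x, hx, rfl⟩
    rintro _ ⟨z, hz, rfl⟩
    exact (NumR.ampleCone k X).add_mem (interior_subset hz) (interior_subset hy)
  let I : ConvexCone ℝ (NumR.N1R k X) :=
    { carrier := interior C
      smul_mem' := fun c hc x hx => hsmul c hc x hx
      add_mem' := fun x hx y hy => hadd x hx y hy }
  suffices NumR.ampleCone k X ≤ I from this
  refine ConvexCone.hull_le_iff.mpr ?_
  rintro _ ⟨H, -, hH, rfl⟩
  -- a basis of integral classes
  set S := {x : NumR.N1R k X | ∃ (L : X.Modules) (hL : PicF.IsInvertible L), x = NumR.clR k X L hL}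
  let b := Module.Basis.ofSpan (K := ℝ) (V := NumR.N1R k X) (s := S) (NumR.span_clR (k := k) (X := X)).ge
  haveI hfi := FiniteDimensional.fintypeBasisIndex b
  choose L hL hbL using show ∀ i, b i ∈ S from fun i =>
    Module.Basis.ofSpan_subset (NumR.span_clR (k := k) (X := X)).ge ⟨i, rfl⟩
  choose ε hε hseg using fun i => exists_segment (k := k) hH (hL i)
  rw [SetLike.mem_coe]
  set m : ℝ := ((@Finset.univ _ hfi).card : ℝ) + 1 with hm
  have hm0 : 0 < m := by rw [hm]; positivity
  show NumR.clR k X H hH.1 ∈ interior C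
  rw [mem_interior]
  refine ⟨(fun y => b.equivFun (y + (-1 : ℝ) • NumR.clR k X H hH.1)) ⁻¹'
      Set.univ.pi fun i => Set.Ioo (-(ε i / m)) (ε i / m), fun y hy => ?_, ?_, ?_⟩
  · set h := NumR.clR k X H hH.1
    set t := b.equivFun (y + (-1 : ℝ) • h) with ht
    have hsum : ∀ s : Finset _, ∀ c : ℝ, 0 < c →
        (c + (s.card : ℝ) / m) • h + ∑ i ∈ s, t i • b i ∈ NumR.ampleCone k X := by
      intro s
      induction s using Finset.cons_induction with
      | empty =>
        intro c hc
        simpa using (NumR.ampleCone k X).smul_mem hc (ConvexCone.subset_hull ⟨H, hH.1, hH, rfl⟩)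
      | cons i s his ih =>
        intro c hc
        have hi : |t i * m| ≤ ε i := by
          have := hy i (Set.mem_univ i)
          rw [abs_mul, abs_of_pos hm0, ← le_div_iff₀ hm0, abs_le]
          exact ⟨this.1.le, this.2.le⟩
        have h1 := (NumR.ampleCone k X).smul_mem (one_div_pos.mpr hm0) (hseg i _ hi)
        rw [← hbL i] at h1
        convert (NumR.ampleCone k X).add_mem (ih c hc) h1 using 1
        rw [Finset.sum_cons, Finset.card_cons]
        push_cast
        match_scalars <;> field_simp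
        ring
    have h2 := hsum Finset.univ (1 / m) (one_div_pos.mpr hm0)
    rw [show (1 / m + (Finset.univ.card : ℝ) / m) = 1 by
      field_simp; rw [hm]; ring, one_smul, ht, b.sum_equivFun] at h2
    show y ∈ NumR.ampleCone k X
    simpa using h2
  · refine (isOpen_set_pi Set.finite_univ fun i _ => isOpen_Ioo).preimage ?_
    exact (IsModuleTopology.continuous_of_linearMap b.equivFun.toLinearMap).comp
      (continuous_id.add continuous_const)
  · intro i _
    have : NumR.clR k X H hH.1 + (-1 : ℝ) • NumR.clR k X H hH.1 = 0 := by simp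
    simp only [this, map_zero, Pi.zero_apply, Set.mem_Ioo]
    exact ⟨by have := div_pos (hε i) hm0; linarith, div_pos (hε i) hm0⟩

variable [Smooth (X ↘ Spec (CommRingCat.of k))] [Infinite k] (hdim : topologicalKrullDim X = 2)
  {B : NumR.N1R k X →ₗ[ℝ] NumR.N1R k X →ₗ[ℝ] ℝ} (hB : NumR.IsIntForm₂ k X B)
  {H : X.Modules} (hH : CohB1.IsAmple H)

include hdim hB hH

/-- The positive cone as a convex cone. -/
theorem posCone_add {x y : NumR.N1R k X} (hx : x ∈ NumR.posCone k X B H hH.1)
    (hy : y ∈ NumR.posCone k X B H hH.1) : x + y ∈ NumR.posCone k X B H hH.1 := by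
  obtain ⟨hx1, hx2⟩ := hx
  obtain ⟨hy1, hy2⟩ := hy
  have := ConeForm.pos_of_mem hdim hB hH hx1 hx2 hy1.le hy2
  constructor
  · simp only [map_add, LinearMap.add_apply, ConeForm.symm hdim hB y x]
    linarith
  · simp only [map_add, LinearMap.add_apply]
    linarith

omit [Infinite k] in
theorem posCone_smul {x : NumR.N1R k X} {c : ℝ} (hc : 0 < c)
    (hx : x ∈ NumR.posCone k X B H hH.1) : c • x ∈ NumR.posCone k X B H hH.1 := by
  obtain ⟨hx1, hx2⟩ := hx
  constructor <;> simp only [map_smul, LinearMap.smul_apply, smul_eq_mul] <;> positivity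

theorem isOpen_convex_posCone [Module.Finite ℝ (NumR.N1R k X)] :
    IsOpen (NumR.posCone k X B H hH.1) ∧ Convex ℝ (NumR.posCone k X B H hH.1) := by
  constructor
  · have h1 : Continuous fun x => B x x :=
      (IsModuleTopology.continuous_bilinear_of_finite_left B).comp (continuous_id.prodMk continuous_id)
    exact (isOpen_lt continuous_const h1).inter (isOpen_lt continuous_const
      (IsModuleTopology.continuous_of_linearMap (B.flip (NumR.clR k X H hH.1))))
  · intro x hx y hy a b ha hb hab
    rcases ha.eq_or_lt with rfl | ha'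
    · simp only [zero_add] at hab
      simpa [hab] using hy
    rcases hb.eq_or_lt with rfl | hb'
    · simp only [add_zero] at hab
      simpa [hab] using hx
    exact posCone_add hdim hB hH (posCone_smul hdim hB hH ha' hx) (posCone_smul hdim hB hH hb' hy)

/-- An ample class pairs positively with an ample class. -/
theorem pos_ample {L : X.Modules} (hL : CohB1.IsAmple L) :
    NumR.clR k X L hL.1 ∈ NumR.posCone k X B H hH.1 := by
  have h1 := ConeForm.self_pos hdim hB hL
  refine ⟨h1, ?_⟩
  have hne := ConeForm.ne_zero_of_pos hdim hB hH h1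
  refine lt_of_le_of_ne ?_ (Ne.symm hne)
  rw [hB L H hL.1 hH.1]
  -- a section of a power of `L` gives nonnegativity
  obtain ⟨m, hm, s₁, -, hs₁, -, -⟩ :=
    Hodge.exists_two_sections (X ↘ Spec (CommRingCat.of k)) hdim hL
  obtain ⟨m, rfl⟩ : ∃ m', m = m' + 1 := ⟨m - 1, by omega⟩
  have hLi := TensorMod.Invertible.isInvertible_tensorPow hL.1 (m + 1)
  have hfin := Finite.cohFinite k X
  obtain ⟨hD, -, -, -⟩ := Div.divisor_spec hLi s₁ hs₁
  have h := Bound.intNum_zeroScheme hfin hdim hLi s₁ hs₁ hH.1
  rw [Hodge.intNum_pow_left hfin hdim hL.1 hH.1 m] at h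
  have h2 : FGA.intNum k X 2 ![_root_.ClSub.idealMod (PicF2.zeroScheme _ s₁), H]
      (Coh.structureModule X) ≤ 0 := by
    by_cases hne' : PicF2.zeroScheme _ s₁ = ⊤
    · rw [hne', NegDef.intNum_top hfin hdim hH.1]
    · exact (NegDef.intNum_eff_ample_neg hfin hdim (NegDef.regular_of_smooth (k := k)) hH hD hne').le
  rw [h] at h2
  have h3 : (0 : ℤ) < ((m + 1 : ℕ) : ℤ) := by positivity
  exact_mod_cast nonneg_of_mul_nonneg_right (neg_nonpos.mp h2) h3

theorem ampleCone_subset :
    (NumR.ampleCone k X : Set (NumR.N1R k X)) ⊆ NumR.posCone k X B H hH.1 := by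
  let P : ConvexCone ℝ (NumR.N1R k X) :=
    { carrier := NumR.posCone k X B H hH.1
      smul_mem' := fun c hc x hx => posCone_smul hdim hB hH hc hx
      add_mem' := fun x hx y hy => posCone_add hdim hB hH hx hy }
  suffices NumR.ampleCone k X ≤ P from this
  refine ConvexCone.hull_le_iff.mpr ?_
  rintro _ ⟨L, -, hL, rfl⟩
  exact pos_ample hdim hB hH hL

omit hH in
/-- A negative definite configuration of curves and an ample class are independent. -/
theorem card_add_one_le [Module.Finite ℝ (NumR.N1R k X)] (hA : ∃ H : X.Modules, CohB1.IsAmple H)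
    {r : ℕ} (C : Fin r → X.IdealSheafData) (hCinv : ∀ i, PicF.IsInvertible (_root_.ClSub.idealMod (C i)))
    (hneg : ∀ a : Fin r → ℤ, a ≠ 0 → ∑ i, ∑ j, a i * a j *
      FGA.intNum k X 2 ![_root_.ClSub.idealMod (C i), _root_.ClSub.idealMod (C j)]
        (Coh.structureModule X) < 0) :
    r + 1 ≤ Module.finrank ℝ (NumR.N1R k X) := by
  obtain ⟨H, hH⟩ := hA
  set G : Fin r → Fin r → ℤ := fun i j =>
    FGA.intNum k X 2 ![_root_.ClSub.idealMod (C i), _root_.ClSub.idealMod (C j)] (Coh.structureModule X)
  let v : Option (Fin r) → NumR.N1R k X := fun o =>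
    o.elim (NumR.clR k X H hH.1) fun i => NumR.clR k X _ (hCinv i)
  have hli : LinearIndependent ℝ v := by
    rw [Fintype.linearIndependent_iff]
    intro g hg
    rw [Fintype.sum_option] at hg
    set h := NumR.clR k X H hH.1
    set y := ∑ i, g (some i) • NumR.clR k X _ (hCinv i) with hy
    replace hg : g none • h + y = 0 := hg
    have hyy : B y y = ∑ i, ∑ j, g (some i) * g (some j) * (G i j : ℝ) := by
      simp only [hy, map_sum, map_smul, LinearMap.sum_apply, LinearMap.smul_apply, smul_eq_mul,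
        Finset.mul_sum, hB _ _ (hCinv _) (hCinv _), G]
      rw [Finset.sum_comm]
      exact Finset.sum_congr rfl fun i _ => Finset.sum_congr rfl fun j _ => by ring
    have hy' : y = (- g none) • h := by
      rw [neg_smul]; exact eq_neg_of_add_eq_zero_right hg
    have hle := hyy ▸ real_nonpos G hneg fun i => g (some i)
    rw [hy'] at hle
    simp only [map_smul, LinearMap.smul_apply, smul_eq_mul] at hle
    have hh := ConeForm.self_pos hdim hB hH
    have h0 : g none = 0 := by
      by_contra hne
      nlinarith [mul_pos (mul_self_pos.mpr hne) hh]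
    rw [h0, neg_zero, zero_smul] at hy'
    have ha := real_ker G hneg (fun i => g (some i)) fun i => by
      have h1 : B (NumR.clR k X _ (hCinv i)) y = 0 := by rw [hy', map_zero]
      rw [hy] at h1
      simp only [map_sum, map_smul, smul_eq_mul, hB _ _ (hCinv _) (hCinv _)] at h1
      rw [← h1]
      exact Finset.sum_congr rfl fun j _ => mul_comm _ _
    intro o
    cases o with
    | none => exact h0
    | some i => exact congrFun ha i
  simpa using hli.fintype_card_le_finrank

end Groth.Agent.Lib.SurfInt.Cones
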