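import Groth.Agent.Lib.SurfInt.ChiNum
import Groth.Agent.Lib.SurfInt.AmpleCone
import Mathlib.LinearAlgebra.Matrix.Adjugate

/-!
# Negative definite configurations are the orthogonal curves of nef and big classes
-/

set_option autoImplicit false
set_option linter.style.haveILetI false
set_option linter.unusedSectionVars false
universe u

open CategoryTheory CategoryTheory.Limits AlgebraicGeometry

namespace Groth.Agent.Lib.SurfInt.Orth

open Groth.Agent.Lib Groth.Agent.Lib.Snapper

variable {k : Type u} [Field k] {X : Scheme.{u}} [X.Over (Spec (CommRingCat.of k))]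
  [IsIntegral X] [IsNoetherian X] [IsProper (X ↘ Spec (CommRingCat.of k))] [IsAlgClosed k]
  (hdim : topologicalKrullDim X = 2) (hreg : ∀ x : X, IsRegularLocalRing (X.presheaf.stalk x))

include k hdim hreg

/-- The nef and big class orthogonal to exactly the given curves. -/
theorem exists_orth {H : X.Modules} (hH : CohB1.IsAmple H) {r : ℕ} (C : Fin r → X.IdealSheafData)
    (hC : Function.Injective C) (hCi : ∀ i, IsIntegral (C i).subscheme)
    (hCd : ∀ i, topologicalKrullDim ((C i).support : Set X) = 1)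
    (hneg : ∀ a : Fin r → ℤ, a ≠ 0 → ∑ i, ∑ j, a i * a j *
      FGA.intNum k X 2 ![_root_.ClSub.idealMod (C i), _root_.ClSub.idealMod (C j)]
        (Coh.structureModule X) < 0) :
    ∃ L : X.Modules, PicF.IsInvertible L ∧
      0 < FGA.intNum k X 2 ![L, L] (Coh.structureModule X) ∧
      0 < FGA.intNum k X 2 ![L, H] (Coh.structureModule X) ∧
      (∀ i, FGA.intNum k X 2 ![_root_.ClSub.idealMod (C i), L] (Coh.structureModule X) = 0) ∧
      ∀ D : X.IdealSheafData, IsIntegral D.subscheme → topologicalKrullDim (D.support : Set X) = 1 →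
        (∀ i, D ≠ C i) →
          FGA.intNum k X 2 ![_root_.ClSub.idealMod D, L] (Coh.structureModule X) < 0 := by
  have hfin := Finite.cohFinite k X
  have hO := Twist.isCoh_structureModule X
  set num : X.Modules → X.Modules → ℤ := fun A B =>
    FGA.intNum k X 2 ![A, B] (Coh.structureModule X) with hnum
  have hcomm : ∀ A B, num A B = num B A := fun A B => IntNum.intNum_pair_comm A B _
  have hI : ∀ i, PicF.IsInvertible (_root_.ClSub.idealMod (C i)) := fun i =>
    haveI := hCi i
    Effective.isInvertible_idealMod (NegDef.isEff hfin hdim hreg (C i) (hCd i))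
  let G : Matrix (Fin r) (Fin r) ℤ := fun i j =>
    num (_root_.ClSub.idealMod (C i)) (_root_.ClSub.idealMod (C j))
  let h : Fin r → ℤ := fun i => num (_root_.ClSub.idealMod (C i)) H
  have hh : ∀ i, h i < 0 := fun i =>
    haveI := hCi i
    Surface.intNum_ample_neg hfin hdim hreg (C i) (hCd i) hH
  have hdet : G.det ≠ 0 := fun h0 => by
    obtain ⟨v, hv, hv0⟩ := Matrix.exists_mulVec_eq_zero_iff.mpr h0
    refine absurd (hneg v hv) (not_lt.mpr (le_of_eq ?_))
    refine (Finset.sum_eq_zero fun i _ => ?_).symm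
    have := congrFun hv0 i
    simp only [Matrix.mulVec, dotProduct, Pi.zero_apply] at this
    rw [← mul_zero (v i), ← this, Finset.mul_sum]
    exact Finset.sum_congr rfl fun j _ => by simp only [G, hnum]; ring
  set d : ℤ := G.det * G.det with hd
  have hdpos : 0 < d := mul_self_pos.mpr hdet
  let s : Fin r → ℤ := G.det • G.adjugate.mulVec h
  have hGs : ∀ j, ∑ i, G j i * s i = d * h j := fun j => by
    have : G.mulVec s = d • h := by
      rw [Matrix.mulVec_smul, Matrix.mulVec_mulVec, Matrix.mul_adjugate, Matrix.smul_mulVec,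
        Matrix.one_mulVec, smul_smul]
    simpa [Matrix.mulVec, dotProduct] using congrFun this j
  have hoff : ∀ i j, i ≠ j → 0 ≤ G i j := fun i j hij =>
    NegDef.offDiag hfin hdim hreg C hC hCi hCd i j hij
  have hs : ∀ i, 0 ≤ s i := NegDef.nonneg_of_negDef (fun i j => G i j) hoff hneg s fun j => by
    rw [Finset.sum_congr rfl fun i _ => (show s i * G i j = G j i * s i by
      simp only [G]; rw [hcomm]; ring), hGs j]
    exact (mul_neg_of_pos_of_neg hdpos (hh j)).le
  obtain ⟨A, hA, hAP⟩ := H2Vanish.exists_comb (k := k) hdim Finset.univ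
    (fun i => _root_.ClSub.idealMod (C i)) hI fun i => - s i
  obtain ⟨Hd, hHd, hHdP⟩ := ProjSurf.exists_zsmul (k := k) hdim hH.1 d
  set L := CohB1.tensorMod Hd A
  have hL : PicF.IsInvertible L := TensorMod.Invertible.isInvertible_tensorMod hHd hA
  have hLP : ∀ P, PicF.IsInvertible P → num L P =
      d * num H P - ∑ i, s i * num (_root_.ClSub.idealMod (C i)) P := fun P hP => by
    simp only [hnum]
    rw [IntNum.intNum_pair_tensor_left hfin hdim.le hHd hA hP hO, hHdP P hP, hAP P hP]
    simp only [neg_mul, Finset.sum_neg_distrib]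
    ring
  have horth : ∀ j, num (_root_.ClSub.idealMod (C j)) L = 0 := fun j => by
    rw [hcomm, hLP _ (hI j), hcomm H, sub_eq_zero]
    refine (hGs j).symm.trans (Finset.sum_congr rfl fun i _ => ?_)
    simp only [G]; rw [hcomm]; ring
  have hLH : 0 < num L H := by
    rw [hLP H hH.1]
    have h1 : 0 < num H H := by
      obtain ⟨m, hm, s₁, -, hs₁, -, -⟩ :=
        Hodge.exists_two_sections (X ↘ Spec (CommRingCat.of k)) hdim hH
      obtain ⟨m, rfl⟩ : ∃ m', m = m' + 1 := ⟨m - 1, by omega⟩
      have h2 := ChiNum.self_pos (k := k) hdim hreg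
        ((Ample.Pow.isAmple_tensorPow_iff hH.1 hm).mp hH) s₁ hs₁
      have hpow := TensorMod.Invertible.isInvertible_tensorPow hH.1 (m + 1)
      rw [Hodge.intNum_pow_left hfin hdim hH.1 hpow m, IntNum.intNum_pair_comm H,
        Hodge.intNum_pow_left hfin hdim hH.1 hH.1 m, ← mul_assoc] at h2
      exact pos_of_mul_pos_right h2 (mul_self_nonneg _)
    have h2 : ∑ i, s i * h i ≤ 0 :=
      Finset.sum_nonpos fun i _ => mul_nonpos_of_nonneg_of_nonpos (hs i) (hh i).le
    have h3 := mul_pos hdpos h1
    simp only [h] at h2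
    linarith
  refine ⟨L, hL, ?_, hLH, horth, fun D hD hDd hne => ?_⟩
  · show 0 < num L L
    rw [hLP L hL, Finset.sum_eq_zero fun i _ => by rw [horth i, mul_zero], sub_zero, hcomm]
    exact mul_pos hdpos hLH
  · haveI := hD
    show num (_root_.ClSub.idealMod D) L < 0
    have hDI := Effective.isInvertible_idealMod (NegDef.isEff hfin hdim hreg D hDd)
    rw [hcomm, hLP _ hDI]
    have h1 : num H (_root_.ClSub.idealMod D) < 0 := by
      rw [hcomm]; exact Surface.intNum_ample_neg hfin hdim hreg D hDd hH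
    have h2 : 0 ≤ ∑ i, s i * num (_root_.ClSub.idealMod (C i)) (_root_.ClSub.idealMod D) :=
      Finset.sum_nonneg fun i _ => mul_nonneg (hs i) <|
        haveI := hCi i
        NegDef.intNum_curves_nonneg hfin hdim hreg (C i) D (hCd i) hDd fun e => hne i e.symm
    have h3 := mul_neg_of_pos_of_neg hdpos h1
    linarith

omit hreg

variable [PicGrp.Law X] [Smooth (X ↘ Spec (CommRingCat.of k))]
  {B : NumR.N1R k X →ₗ[ℝ] NumR.N1R k X →ₗ[ℝ] ℝ} (hB : NumR.IsIntForm₂ k X B)
  {H : X.Modules} (hH : CohB1.IsAmple H)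

include hB hH

/-- Curves orthogonal to a class of positive square are negative definite. -/
theorem negDef_of_orth {x : NumR.N1R k X} (hx : 0 < B x x) {r : ℕ} (C : Fin r → X.IdealSheafData)
    (hC : Function.Injective C) (hCi : ∀ i, IsIntegral (C i).subscheme)
    (hCd : ∀ i, topologicalKrullDim ((C i).support : Set X) = 1)
    (hCinv : ∀ i, PicF.IsInvertible (_root_.ClSub.idealMod (C i)))
    (horth : ∀ i, B x (NumR.curveCl k X (C i) (hCinv i)) = 0) (a : Fin r → ℤ) (ha : a ≠ 0) :
    ∑ i, ∑ j, a i * a j * FGA.intNum k X 2 ![_root_.ClSub.idealMod (C i), _root_.ClSub.idealMod (C j)]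
      (Coh.structureModule X) < 0 := by
  set G : Fin r → Fin r → ℤ := fun i j =>
    FGA.intNum k X 2 ![_root_.ClSub.idealMod (C i), _root_.ClSub.idealMod (C j)] (Coh.structureModule X)
  set c : Fin r → NumR.N1R k X := fun i => NumR.clR k X _ (hCinv i)
  set h := NumR.clR k X H hH.1
  have hxc : ∀ i, B x (c i) = 0 := fun i => by
    have := horth i
    rwa [NumR.curveCl, map_neg, neg_eq_zero] at this
  let cls : (Fin r → ℤ) → NumR.N1R k X := fun b => ∑ i, (b i : ℝ) • c i
  have hxy : ∀ b, B x (cls b) = 0 := fun b => by simp [cls, hxc]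
  have hsq : ∀ b : Fin r → ℤ, B (cls b) (cls b) = ((∑ i, ∑ j, b i * b j * G i j : ℤ) : ℝ) := fun b => by
    simp only [cls, c, map_sum, map_smul, LinearMap.sum_apply, LinearMap.smul_apply, smul_eq_mul,
      Finset.mul_sum, hB _ _ (hCinv _) (hCinv _), G, Int.cast_sum, Int.cast_mul]
    rw [Finset.sum_comm]
    exact Finset.sum_congr rfl fun i _ => Finset.sum_congr rfl fun j _ => by ring
  have hle : ∀ b : Fin r → ℤ, ∑ i, ∑ j, b i * b j * G i j ≤ 0 := fun b => by
    have := ConeForm.nonpos_of_orth_pos hdim hB hH hx (hxy b)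
    rw [hsq] at this
    exact_mod_cast this
  have hzero : ∀ b : Fin r → ℤ, 0 ≤ ∑ i, ∑ j, b i * b j * G i j → ∀ P (hP : PicF.IsInvertible P),
      ∑ i, b i * FGA.intNum k X 2 ![_root_.ClSub.idealMod (C i), P] (Coh.structureModule X) = 0 := by
    intro b hb P hP
    have h0 : cls b = 0 := ConeForm.eq_zero_of_orth hdim hB hH hx (y := cls b)
      (by rw [hsq]; exact_mod_cast hb) (hxy b)
    have e : B (cls b) (NumR.clR k X P hP) = 0 := by rw [h0, map_zero, LinearMap.zero_apply]
    simp only [cls, c, map_sum, map_smul, LinearMap.sum_apply, LinearMap.smul_apply, smul_eq_mul,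
      hB _ _ (hCinv _) hP] at e
    exact_mod_cast e
  refine lt_of_le_of_ne (hle a) fun he => ha ?_
  have horthG : ∀ j, ∑ i, a i * G i j = 0 := fun j => hzero a he.ge _ (hCinv j)
  have hoff : ∀ i j, i ≠ j → 0 ≤ G i j := Config.offDiag hdim C hC hCi hCd
  have hp : (fun i => max (a i) 0) = 0 :=
    Config.eq_zero_of_sum_mul_eq_zero (fun i => le_max_right _ _)
      (Config.ample_neg hdim C hC hCi hCd hH)
      (hzero _ (Config.square_posPart G hoff a horthG) H hH.1)
  have hm : (fun i => max ((-a) i) 0) = 0 :=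
    Config.eq_zero_of_sum_mul_eq_zero (fun i => le_max_right _ _)
      (Config.ample_neg hdim C hC hCi hCd hH)
      (hzero _ (Config.square_posPart G hoff (-a) fun j => by
        simp only [Pi.neg_apply, neg_mul, Finset.sum_neg_distrib, horthG j, neg_zero]) H hH.1)
  funext i
  have h1 := congrFun hp i
  have h2 := congrFun hm i
  simp only [Pi.zero_apply, Pi.neg_apply] at h1 h2 ⊢
  omega

end Groth.Agent.Lib.SurfInt.Orth
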