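import Groth.Agent.Lib.SurfInt.Stalk
import Groth.Agent.H4.CartierUFD
import Groth.Agent.H4.CartierSection
import Groth.Agent.Lib.TensorMod.HomGlue
import Mathlib.AlgebraicGeometry.FunctionField
import Mathlib.RingTheory.Localization.NumDen

/-!
# The polar divisor of a rational function on a locally factorial scheme

For `f` in the function field, `polar f` is the ideal sheaf of the functions `a` with `a • f`
regular.  On a scheme with factorial local rings it is an effective Cartier divisor, its support is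
the set of points where `f` is not regular, and `polar f ≅ polar f⁻¹` as modules.
-/

set_option autoImplicit false
set_option linter.style.haveILetI false
universe u

open CategoryTheory CategoryTheory.Limits AlgebraicGeometry TopologicalSpace

namespace Groth.Agent.Lib.SurfInt.Polar

open Groth.Agent.Lib
open Groth.Agent.Lib.Ideal.Prime (stalkIdeal stalkIdeal_eq mem_support_iff_le_prime)
open Groth.Agent.Lib.TensorMod.Dual (rs rf)
open Groth.Agent.Lib.TensorMod.Gen (IsGen)

noncomputable section

variable {X : Scheme.{u}} [IsIntegral X]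

theorem eta_mem {U : X.Opens} {x : X} (hx : x ∈ U) : genericPoint X ∈ U :=
  ((genericPoint_spec X).specializes (Set.mem_univ x)).mem_open U.isOpen hx

/-- Germ at the generic point. -/
abbrev gK (U : X.Opens) (h : genericPoint X ∈ U) : Γ(X, U) →+* X.functionField :=
  (X.presheaf.germ U (genericPoint X) h).hom

theorem algebraMap_germ {U : X.Opens} {x : X} (hx : x ∈ U) (a : Γ(X, U)) :
    algebraMap (X.presheaf.stalk x) X.functionField (X.presheaf.germ U x hx a) =
      gK U (eta_mem hx) a :=
  TopCat.Presheaf.germ_stalkSpecializes_apply X.presheaf hx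
    ((genericPoint_spec X).specializes trivial) a

theorem gK_res {U V : X.Opens} (h : V ≤ U) (hV : genericPoint X ∈ V) (a : Γ(X, U)) :
    gK V hV (X.presheaf.map (homOfLE h).op a) = gK U (h hV) a :=
  TopCat.Presheaf.germ_res_apply X.presheaf (homOfLE h) _ hV a

theorem gK_injective {U : X.Opens} (h : genericPoint X ∈ U) : Function.Injective (gK U h) :=
  germ_injective_of_isIntegral X _ h

theorem subsingleton_of_notMem {U : X.Opens} (h : genericPoint X ∉ U) : Subsingleton Γ(X, U) := by
  have : U = ⊥ := by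
    ext x
    exact ⟨fun hx => absurd (eta_mem hx) h, fun hx => absurd hx (by simp)⟩
  subst this
  infer_instance

/-- The sections `a` over `U` with `a • f` regular on `U`. -/
def polarIdeal (f : X.functionField) (U : X.Opens) : _root_.Ideal Γ(X, U) where
  carrier := {a | ∃ c : Γ(X, U), ∀ h : genericPoint X ∈ U, gK U h c = gK U h a * f}
  zero_mem' := ⟨0, fun h => by rw [map_zero, zero_mul]⟩
  add_mem' := by
    rintro a b ⟨c, hc⟩ ⟨d, hd⟩
    exact ⟨c + d, fun h => by rw [map_add, map_add, hc h, hd h, add_mul]⟩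
  smul_mem' := by
    rintro r a ⟨c, hc⟩
    exact ⟨r * c, fun h => by rw [smul_eq_mul, map_mul, map_mul, hc h, mul_assoc]⟩

theorem mem_polarIdeal {f : X.functionField} {U : X.Opens} {a : Γ(X, U)} :
    a ∈ polarIdeal f U ↔ ∃ c : Γ(X, U), ∀ h : genericPoint X ∈ U, gK U h c = gK U h a * f :=
  Iff.rfl

/-- The ideal sheaf of the polar divisor of `f`. -/
def polar (f : X.functionField) : X.IdealSheafData where
  ideal U := polarIdeal f U.1
  map_ideal_basicOpen U g := by
    letI := (X.presheaf.map (homOfLE (X.basicOpen_le g)).op).hom.toAlgebra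
    haveI : IsLocalization.Away g Γ(X, X.basicOpen g) := U.2.isLocalization_basicOpen g
    show _ = polarIdeal f (X.basicOpen g)
    refine le_antisymm ?_ fun b hb => ?_
    · rw [_root_.Ideal.map_le_iff_le_comap]
      rintro a ⟨c, hc⟩
      refine ⟨X.presheaf.map (homOfLE (X.basicOpen_le g)).op c, fun h => ?_⟩
      rw [gK_res, gK_res, hc]
    · by_cases hη : genericPoint X ∈ X.basicOpen g
      swap
      · haveI := subsingleton_of_notMem hη
        rw [Subsingleton.elim b 0]
        exact zero_mem _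
      obtain ⟨c, hc⟩ := hb
      obtain ⟨⟨a', ⟨_, n, rfl⟩⟩, ha⟩ := IsLocalization.surj (Submonoid.powers g) b
      obtain ⟨⟨c', ⟨_, m, rfl⟩⟩, hc'⟩ := IsLocalization.surj (Submonoid.powers g) c
      have hmem : g ^ m * a' ∈ polarIdeal f U.1 := by
        refine ⟨g ^ n * c', fun h => ?_⟩
        have ha' := congrArg (gK (X.basicOpen g) hη) ha
        have hc'' := congrArg (gK (X.basicOpen g) hη) hc'
        simp only [RingHom.algebraMap_toAlgebra, map_mul] at ha' hc''
        erw [gK_res, gK_res] at ha' hc''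
        rw [map_mul, map_mul]
        erw [← ha', ← hc'', hc hη]
        ring
      have hb' : algebraMap Γ(X, U.1) Γ(X, X.basicOpen g) (g ^ m * a') =
          b * algebraMap Γ(X, U.1) Γ(X, X.basicOpen g) (g ^ m * g ^ n) := by
        rw [map_mul, map_mul, ← ha]
        ring
      refine (_root_.Ideal.mul_unit_mem_iff_mem _ ?_).mp (hb' ▸ _root_.Ideal.mem_map_of_mem _ hmem)
      exact IsLocalization.map_units (M := Submonoid.powers g) _ ⟨_, m + n, pow_add g m n⟩

theorem mem_stalkIdeal (f : X.functionField) (x : X) (r : X.presheaf.stalk x) :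
    r ∈ stalkIdeal (polar f) x ↔ ∃ c : X.presheaf.stalk x,
      algebraMap (X.presheaf.stalk x) X.functionField c =
        algebraMap (X.presheaf.stalk x) X.functionField r * f := by
  obtain ⟨U, hU, hxU, -⟩ := exists_isAffineOpen_mem_and_subset
    (show x ∈ (⊤ : X.Opens) from trivial)
  letI := X.presheaf.algebra_section_stalk ⟨x, hxU⟩
  haveI := hU.isLocalization_stalk ⟨x, hxU⟩
  let p := (hU.primeIdealOf ⟨x, hxU⟩).asIdeal
  rw [stalkIdeal_eq _ ⟨U, hU⟩ hxU]
  constructor
  · intro hr
    obtain ⟨⟨⟨a, c, hc⟩, s⟩, hrs⟩ := (IsLocalization.mem_map_algebraMap_iff p.primeCompl _).mp hr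
    obtain ⟨w, hw⟩ := IsLocalization.map_units (X.presheaf.stalk x) s
    refine ⟨algebraMap Γ(X, U) _ c * ↑w⁻¹, ?_⟩
    have hr' : r = algebraMap Γ(X, U) _ a * ↑w⁻¹ := by
      rw [← hrs, ← hw, mul_assoc, Units.mul_inv, mul_one]
    rw [hr', map_mul, map_mul]
    erw [algebraMap_germ hxU c, algebraMap_germ hxU a]
    rw [hc, mul_right_comm]
  · rintro ⟨c, hc⟩
    obtain ⟨⟨a', s⟩, ha⟩ := IsLocalization.surj p.primeCompl r
    obtain ⟨⟨c', t⟩, hc'⟩ := IsLocalization.surj p.primeCompl c
    have hmem : (t : Γ(X, U)) * a' ∈ polarIdeal f U := by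
      refine ⟨(s : Γ(X, U)) * c', fun h => ?_⟩
      have ha' := congrArg (algebraMap (X.presheaf.stalk x) X.functionField) ha
      have hc'' := congrArg (algebraMap (X.presheaf.stalk x) X.functionField) hc'
      rw [map_mul] at ha' hc''
      erw [algebraMap_germ hxU, algebraMap_germ hxU] at ha' hc''
      rw [map_mul, map_mul]
      erw [← ha', ← hc'', hc]
      ring
    have hr : algebraMap Γ(X, U) (X.presheaf.stalk x) ((t : Γ(X, U)) * a') =
        r * algebraMap Γ(X, U) (X.presheaf.stalk x) ((t : Γ(X, U)) * s) := by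
      rw [map_mul, map_mul, ← ha]
      ring
    refine (_root_.Ideal.mul_unit_mem_iff_mem _ ?_).mp
      (hr ▸ _root_.Ideal.mem_map_of_mem _ hmem)
    exact IsLocalization.map_units (X.presheaf.stalk x) (t * s)

theorem stalkIdeal_eq_top_iff (f : X.functionField) (x : X) :
    stalkIdeal (polar f) x = ⊤ ↔ f ∈ Set.range (algebraMap (X.presheaf.stalk x) X.functionField) := by
  rw [_root_.Ideal.eq_top_iff_one, mem_stalkIdeal, map_one]
  simp only [one_mul, Set.mem_range]

theorem mem_support_iff (f : X.functionField) (x : X) :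
    x ∈ (polar f).support ↔ f ∉ Set.range (algebraMap (X.presheaf.stalk x) X.functionField) := by
  rw [← stalkIdeal_eq_top_iff]
  refine ⟨fun hx h => ?_, fun h => by_contra fun hx => h (H4.CartierUFD.stalkIdeal_eq_top hx)⟩
  obtain ⟨U, hU, hxU, -⟩ := exists_isAffineOpen_mem_and_subset
    (show x ∈ (⊤ : X.Opens) from trivial)
  letI := X.presheaf.algebra_section_stalk ⟨x, hxU⟩
  haveI := hU.isLocalization_stalk ⟨x, hxU⟩
  rw [stalkIdeal_eq _ ⟨U, hU⟩ hxU] at h
  have hle := (mem_support_iff_le_prime _ ⟨U, hU⟩ hxU).mp hx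
  have : (_root_.Ideal.map (algebraMap Γ(X, U) (X.presheaf.stalk x)) ((polar f).ideal ⟨U, hU⟩)) ≤
      IsLocalRing.maximalIdeal (X.presheaf.stalk x) := by
    rw [← IsLocalization.AtPrime.map_eq_maximalIdeal (hU.primeIdealOf ⟨x, hxU⟩).asIdeal]
    exact _root_.Ideal.map_mono hle
  exact (IsLocalRing.maximalIdeal.isMaximal _).ne_top (top_le_iff.mp (h ▸ this :))

/-- On a locally factorial scheme the polar ideal is locally principal. -/
theorem isEffCartier [IsLocallyNoetherian X]
    (hufd : ∀ x : X, UniqueFactorizationMonoid (X.presheaf.stalk x)) (f : X.functionField) :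
    BlowUp.IsEffCartierIdeal (polar f) := by
  refine H4.CartierUFD.isEffCartier_of_stalks _ fun x => ?_
  haveI := hufd x
  let R := X.presheaf.stalk x
  let a : R := IsFractionRing.num R f
  let b : R := (IsFractionRing.den R f : R)
  have hb : b ∈ nonZeroDivisors R := (IsFractionRing.den R f).2
  have hab : f * algebraMap R X.functionField b = algebraMap R X.functionField a :=
    IsFractionRing.num_mul_den_eq_num_iff_eq.mpr rfl
  have hbK : algebraMap R X.functionField b ≠ 0 :=
    IsFractionRing.to_map_ne_zero_of_mem_nonZeroDivisors hb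
  refine ⟨b, hb, le_antisymm (fun r hr => ?_) ?_⟩
  · obtain ⟨c, hc⟩ := (mem_stalkIdeal f x r).mp hr
    have h1 : r * a = c * b := IsFractionRing.injective R X.functionField (by
      rw [map_mul, map_mul, ← hab, hc]
      ring)
    exact _root_.Ideal.mem_span_singleton.mpr
      ((IsFractionRing.num_den_reduced R f).symm.dvd_of_dvd_mul_right ⟨c, by rw [h1, mul_comm]⟩)
  · rw [_root_.Ideal.span_singleton_le_iff_mem]
    exact (mem_stalkIdeal f x b).mpr ⟨a, by rw [← hab, mul_comm]⟩

/-- Multiplication by `f` identifies `polar f` with `polar f⁻¹`. -/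
theorem nonempty_iso {f : X.functionField} (hf : f ≠ 0)
    (hc : BlowUp.IsEffCartierIdeal (polar f)) :
    Nonempty (_root_.ClSub.idealMod (polar f) ≅ _root_.ClSub.idealMod (polar f⁻¹)) := by
  choose U hxU b hb hI using hc
  have hη : ∀ x, genericPoint X ∈ (U x).1 := fun x => eta_mem (hxU x)
  have hba : ∀ x, ∃ a : Γ(X, (U x).1), gK _ (hη x) a = gK _ (hη x) (b x) * f := fun x => by
    obtain ⟨a, ha⟩ := mem_polarIdeal.mp
      (show b x ∈ polarIdeal f (U x).1 from (hI x).ge (_root_.Ideal.mem_span_singleton_self _))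
    exact ⟨a, ha _⟩
  choose a ha using hba
  have hb0 : ∀ x, gK _ (hη x) (b x) ≠ 0 := fun x h0 => by
    haveI : Nonempty (U x).1 := ⟨⟨x, hxU x⟩⟩
    exact nonZeroDivisors.ne_zero (hb x) (gK_injective (hη x) (h0.trans (map_zero _).symm))
  have ha0 : ∀ x, a x ∈ nonZeroDivisors Γ(X, (U x).1) := fun x => by
    haveI : Nonempty (U x).1 := ⟨⟨x, hxU x⟩⟩
    refine mem_nonZeroDivisors_of_ne_zero fun h0 => ?_
    have := ha x
    rw [h0, map_zero] at this
    exact mul_ne_zero (hb0 x) hf this.symm
  have hJ : ∀ x, (polar f⁻¹).ideal (U x) = _root_.Ideal.span {a x} := fun x => by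
    refine le_antisymm (fun c hc => ?_) ?_
    · obtain ⟨r, hr⟩ := mem_polarIdeal.mp (show c ∈ polarIdeal f⁻¹ (U x).1 from hc)
      have hrb : r ∈ (polar f).ideal (U x) := ⟨c, fun h => by
        rw [hr h, mul_assoc, inv_mul_cancel₀ hf, mul_one]⟩
      rw [hI x] at hrb
      obtain ⟨t, ht⟩ := _root_.Ideal.mem_span_singleton'.mp hrb
      refine _root_.Ideal.mem_span_singleton'.mpr ⟨t, gK_injective (hη x) ?_⟩
      rw [map_mul, ha x, ← mul_assoc, ← map_mul, ht, hr, mul_assoc, inv_mul_cancel₀ hf, mul_one]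
    · rw [_root_.Ideal.span_singleton_le_iff_mem]
      exact ⟨b x, fun h => by rw [ha x, mul_assoc, mul_inv_cancel₀ hf, mul_one]⟩
  choose m hm using fun x =>
    (Lib.ClSub.Sections.mem_range_idealModι_app_affine_iff (polar f) (U x) (b x)).mpr
      ((hI x) ▸ _root_.Ideal.mem_span_singleton_self (b x))
  choose n hn using fun x =>
    (Lib.ClSub.Sections.mem_range_idealModι_app_affine_iff (polar f⁻¹) (U x) (a x)).mpr
      ((hJ x) ▸ _root_.Ideal.mem_span_singleton_self (a x))
  have hsup : iSup (fun x => (U x).1) = ⊤ :=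
    top_unique fun x _ => Opens.mem_iSup.2 ⟨x, hxU x⟩
  have happ : ∀ (I : X.IdealSheafData) (x : X) (W : X.Opens) (hW : W ≤ (U x).1)
      (v : Γ(_root_.ClSub.idealMod I, (U x).1)) (r : Γ(X, (U x).1)),
      (_root_.ClSub.idealModι I).app (U x).1 v = r →
        (_root_.ClSub.idealModι I).app W (rs (_root_.ClSub.idealMod I) hW v) = rf hW r :=
    fun I x W hW v r h => by
      subst h
      exact Lib.ClSub.Basis.map_app (_root_.ClSub.idealModι I) hW v
  obtain ⟨e, -⟩ := TensorMod.HomGlue.exists_iso_of_gen hsup m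
    (fun x => H4.CartierSection.isGen_idealMod (polar f) (U x) (b x) (hb x) (hI x) (m x) (hm x)) n
    (fun x => H4.CartierSection.isGen_idealMod (polar f⁻¹) (U x) (a x) (ha0 x) (hJ x) (n x) (hn x))
    fun i j W hi hj c hc => by
      have h := congrArg ((_root_.ClSub.idealModι (polar f)).app W) hc
      rw [Scheme.Modules.Hom.app_smul, happ _ i W hi _ _ (hm i), happ _ j W hj _ _ (hm j)] at h
      refine ClSub.Sections.idealModι_app_injective (polar f⁻¹) W ?_
      rw [Scheme.Modules.Hom.app_smul, happ _ i W hi _ _ (hn i), happ _ j W hj _ _ (hn j)]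
      show rf hi (a i) = c * rf hj (a j)
      by_cases hW : genericPoint X ∈ W
      swap
      · haveI := subsingleton_of_notMem hW
        exact Subsingleton.elim _ _
      refine gK_injective hW ?_
      have h' : gK W hW (rf hi (b i)) = gK W hW (c * rf hj (b j)) :=
        congrArg (gK W hW) (show rf hi (b i) = c * rf hj (b j) from h)
      rw [map_mul] at h' ⊢
      erw [gK_res, gK_res] at h' ⊢
      erw [ha i, ha j, h', mul_assoc]
  exact ⟨e⟩

end

end Groth.Agent.Lib.SurfInt.Polar
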