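import Groth.Agent.Lib.SurfInt.Seq
import Groth.Agent.Lib.Depth.CM
import Groth.Agent.Lib.VarDim.Basic
import Mathlib.RingTheory.KrullDimension.Regular
import Mathlib.AlgebraicGeometry.Morphisms.FiniteType

/-!
# Two curves without common component on a Cohen–Macaulay surface: regular sequences
-/

set_option autoImplicit false
set_option linter.style.haveILetI false
universe u

open CategoryTheory AlgebraicGeometry IsLocalRing

namespace Groth.Agent.Lib.SurfInt.Transversal

open Groth.Agent.Lib
open Groth.Agent.Lib.Ideal.Prime (stalkIdeal stalkIdeal_eq)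

theorem mul_mem_span_cancel {R : Type u} [CommRing R] [LocCoh.IsCohenMacaulayLocalRing R]
    (hdim : (2 : WithBot ℕ∞) ≤ ringKrullDim R) {c d : R} (hd : d ∈ nonZeroDivisors R)
    (hdm : d ∈ maximalIdeal R)
    (hP : ∀ P : _root_.Ideal R, P.IsPrime → c ∈ P → d ∈ P → P = maximalIdeal R) {a : R}
    (ha : c * a ∈ _root_.Ideal.span {d}) : a ∈ _root_.Ideal.span {d} := by
  by_contra hna
  haveI : IsLocalRing (R ⧸ _root_.Ideal.span {d}) := by
    haveI : Nontrivial (R ⧸ _root_.Ideal.span {d}) :=
      Ideal.Quotient.nontrivial_iff.mpr fun h => by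
        have := (_root_.Ideal.span_singleton_le_iff_mem (I := maximalIdeal R)).mpr hdm
        rw [h, top_le_iff] at this
        exact (maximalIdeal.isMaximal R).ne_top this
    exact IsLocalRing.of_surjective' (Ideal.Quotient.mk _) Ideal.Quotient.mk_surjective
  have hreg : IsSMulRegular R d := IsSMulRegular.of_right_eq_zero_of_smul fun x hx =>
    mem_nonZeroDivisors_iff_right.mp hd x (by rw [mul_comm]; exact hx)
  have hCM : LocCoh.IsCohenMacaulayModule R (R ⧸ _root_.Ideal.span {d}) :=
    (Depth.CM.isCohenMacaulayLocalRing_quotient_iff_module _).mp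
      ((Depth.CM.isCohenMacaulayLocalRing_quotient_span_singleton_iff hdm hreg).mpr inferInstance)
  have hzd : c ∈ ⋃ P ∈ associatedPrimes R (R ⧸ _root_.Ideal.span {d}), (P : Set R) := by
    rw [biUnion_associatedPrimes_eq_zero_divisors]
    refine ⟨Ideal.Quotient.mk _ a, fun h => hna (Ideal.Quotient.eq_zero_iff_mem.mp h), ?_⟩
    rw [Algebra.smul_def, Ideal.Quotient.algebraMap_eq, ← map_mul]
    exact Ideal.Quotient.eq_zero_iff_mem.mpr ha
  simp only [Set.mem_iUnion, SetLike.mem_coe] at hzd
  obtain ⟨P, hPass, hcP⟩ := hzd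
  have hdP : d ∈ P := hPass.annihilator_le (Submodule.mem_annihilator.mpr fun q _ => by
    obtain ⟨q, rfl⟩ := Ideal.Quotient.mk_surjective q
    rw [Algebra.smul_def, Ideal.Quotient.algebraMap_eq, ← map_mul]
    exact Ideal.Quotient.eq_zero_iff_mem.mpr
      (_root_.Ideal.mul_mem_right _ _ (_root_.Ideal.mem_span_singleton_self d)))
  have hPm := hP P hPass.isPrime hcP hdP
  have h1 := Depth.CM.ringKrullDim_quotient_eq hCM hPass
  rw [Module.supportDim_quotient_eq_ringKrullDim, hPm] at h1
  letI := Ideal.Quotient.field (maximalIdeal R)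
  rw [ringKrullDim_eq_zero_of_field] at h1
  have h2 := ringKrullDim_quotient_span_singleton_succ_eq_ringKrullDim hreg hdm
  rw [← h1, zero_add] at h2
  rw [← h2] at hdim
  exact absurd hdim (by decide)

variable {k : Type u} [Field k] {X : Scheme.{u}} (f : X ⟶ Spec (CommRingCat.of k))
  [LocallyOfFiniteType f]

include f in
/-- The local ring at a closed point on a two dimensional component has dimension at least two. -/
theorem two_le_ringKrullDim_stalk
    (hdim : ∀ Z ∈ irreducibleComponents (X : Type u), topologicalKrullDim Z = 2)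
    {x : X} (hx : IsClosed ({x} : Set X)) :
    (2 : WithBot ℕ∞) ≤ ringKrullDim (X.presheaf.stalk x) := by
  have hirr : IsIrreducible (irreducibleComponent x) := isIrreducible_irreducibleComponent
  obtain ⟨ξ, hξ⟩ := QuasiSober.sober hirr isClosed_irreducibleComponent
  have hd := hdim _ (irreducibleComponent_mem_irreducibleComponents x)
  rw [VarDim.Basic.topologicalKrullDim_isGenericPoint f hξ] at hd
  have hξ2 : VarDim.Basic.pdim f ξ = 2 := by exact_mod_cast hd
  have hx0 := (VarDim.Basic.pdim_eq_zero_iff f x).mpr hx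
  have hξx : ξ ⤳ x := hξ.specializes mem_irreducibleComponent
  obtain ⟨z, h1, h2, h3⟩ := VarDim.Basic.exists_step_below f hξx
    (fun h => by rw [h] at hξ2; omega)
  obtain ⟨U, hU, hxU, -⟩ := exists_isAffineOpen_mem_and_subset
    (show x ∈ (⊤ : X.Opens) from trivial)
  have hzU : z ∈ U := h2.mem_open U.isOpen hxU
  have hξU : ξ ∈ U := hξx.mem_open U.isOpen hxU
  have hlt : ∀ {a b : X} (ha : a ∈ U) (hb : b ∈ U), a ⤳ b → a ≠ b →
      (hU.primeIdealOf ⟨a, ha⟩).asIdeal < (hU.primeIdealOf ⟨b, hb⟩).asIdeal := by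
    intro a b ha hb hab hne
    refine lt_of_le_of_ne ((AssPt.Basic.specializes_iff_primeIdealOf hU hb ha).mp hab)
      fun he => hne ?_
    have := congrArg hU.fromSpec (PrimeSpectrum.ext he)
    rwa [hU.fromSpec_primeIdealOf, hU.fromSpec_primeIdealOf] at this
  have l1 := hlt hξU hzU h1 (fun h => by rw [h] at h3; omega)
  have l2 := hlt hzU hxU h2 (fun h => by rw [h] at h3; omega)
  haveI : IsLocallyNoetherian X := LocallyOfFiniteType.isLocallyNoetherian f
  haveI : IsNoetherianRing Γ(X, U) := IsLocallyNoetherian.component_noetherian ⟨U, hU⟩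
  rw [Ideal.Prime.ringKrullDim_stalk_eq_height hU hxU]
  refine WithBot.coe_le_coe.mpr ?_
  have e1 := Order.add_one_le_of_lt (_root_.Ideal.height_strict_mono_of_isPrime l1)
  have e2 := Order.add_one_le_of_lt (_root_.Ideal.height_strict_mono_of_isPrime l2)
  refine le_trans ?_ (le_trans (add_le_add (le_trans le_add_self e1) le_rfl) e2)
  norm_num

include f in
/-- Equations of two curves with finite intersection form a regular sequence. -/
theorem exists_regular_eq
    (hdim : ∀ Z ∈ irreducibleComponents (X : Type u), topologicalKrullDim Z = 2)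
    (hCM : ∀ x : X, LocCoh.IsCohenMacaulayLocalRing (X.presheaf.stalk x))
    {C D : X.IdealSheafData} (hC : BlowUp.IsEffCartierIdeal C) (hD : BlowUp.IsEffCartierIdeal D)
    (hfin : ((C ⊔ D).support : Set X).Finite) (x : X) :
    ∃ c : X.presheaf.stalk x, c ∈ nonZeroDivisors (X.presheaf.stalk x) ∧
      stalkIdeal C x = _root_.Ideal.span {c} ∧
      ∀ a, c * a ∈ stalkIdeal D x → a ∈ stalkIdeal D x := by
  have hloc : ∀ I : X.IdealSheafData, BlowUp.IsEffCartierIdeal I →
      ∃ c : X.presheaf.stalk x, c ∈ nonZeroDivisors (X.presheaf.stalk x) ∧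
        stalkIdeal I x = _root_.Ideal.span {c} := by
    intro I hI
    obtain ⟨U, hxU, e, he, hIe⟩ := hI x
    exact ⟨_, Ideal.EffCartier.germ_mem_nonZeroDivisors U.2 he x hxU,
      by rw [stalkIdeal_eq I U hxU, hIe, _root_.Ideal.map_span, Set.image_singleton]⟩
  obtain ⟨c, hc, heC⟩ := hloc C hC
  obtain ⟨d, hd, heD⟩ := hloc D hD
  refine ⟨c, hc, heC, fun a ha => ?_⟩
  rw [heD] at ha ⊢
  by_cases hdu : IsUnit d
  · rw [_root_.Ideal.span_singleton_eq_top.mpr hdu]; trivial
  by_cases hcu : IsUnit c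
  · exact (_root_.Ideal.unit_mul_mem_iff_mem _ hcu).mp ha
  obtain ⟨U, hU, hxU, -⟩ := exists_isAffineOpen_mem_and_subset
    (show x ∈ (⊤ : X.Opens) from trivial)
  let algx := X.presheaf.algebra_section_stalk ⟨x, hxU⟩
  haveI := hU.isLocalization_stalk ⟨x, hxU⟩
  -- a prime containing both equations comes from a point of the intersection
  have hpt : ∀ P : _root_.Ideal (X.presheaf.stalk x), P.IsPrime → c ∈ P → d ∈ P →
      ∃ y, ∃ hy : y ∈ U, y ⤳ x ∧ y ∈ ((C ⊔ D).support : Set X) ∧
        (hU.primeIdealOf ⟨y, hy⟩).asIdeal =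
          P.comap (algebraMap Γ(X, U) (X.presheaf.stalk x)) := by
    intro P hP hcP hdP
    obtain ⟨y, hy, hq⟩ := AssPt.Basic.exists_point_of_prime hU
      (P.comap (algebraMap Γ(X, U) (X.presheaf.stalk x)))
    refine ⟨y, hy, ?_, ?_, hq⟩
    · rw [AssPt.Basic.specializes_iff_primeIdealOf hU hxU hy, hq]
      refine (_root_.Ideal.comap_mono (le_maximalIdeal hP.ne_top)).trans ?_
      exact (IsLocalization.AtPrime.under_maximalIdeal _ _).le
    · rw [SetLike.mem_coe, Ideal.Prime.mem_support_iff_le_prime (C ⊔ D) ⟨U, hU⟩ hy, hq,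
        ← _root_.Ideal.map_le_iff_le_comap]
      refine le_trans (le_of_eq (stalkIdeal_eq (C ⊔ D) ⟨U, hU⟩ hxU).symm) ?_
      rw [Stalk.stalkIdeal_sup, heC, heD, sup_le_iff, _root_.Ideal.span_singleton_le_iff_mem,
        _root_.Ideal.span_singleton_le_iff_mem]
      exact ⟨hcP, hdP⟩
  haveI : JacobsonSpace X := LocallyOfFiniteType.jacobsonSpace f
  have hclosed : ∀ y ∈ ((C ⊔ D).support : Set X), IsClosed ({y} : Set X) := by
    intro y hy
    haveI : Finite ((C ⊔ D).support : Set X) := hfin.to_subtype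
    haveI := JacobsonSpace.of_isClosedEmbedding
      (C ⊔ D).support.isClosed.isClosedEmbedding_subtypeVal
    have h1 := ((C ⊔ D).support.isClosed.isClosedEmbedding_subtypeVal).isClosedMap _
      (isClosed_discrete ({⟨y, hy⟩} : Set ((C ⊔ D).support : Set X)))
    rwa [Set.image_singleton] at h1
  obtain ⟨y, hyU, hyx, hyS, hy⟩ := hpt _ (maximalIdeal.isMaximal _).isPrime
    ((mem_maximalIdeal _).mpr hcu) ((mem_maximalIdeal _).mpr hdu)
  have hxcl : IsClosed ({x} : Set X) := by
    have hxy : x = y := hyx.mem_closed (hclosed y hyS) rfl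
    exact hxy ▸ hclosed y hyS
  haveI := hCM x
  refine mul_mem_span_cancel (two_le_ringKrullDim_stalk f hdim hxcl) hd
    ((mem_maximalIdeal _).mpr hdu) (fun P hP hcP hdP => ?_) ha
  obtain ⟨z, hzU, hzx, hzS, hz⟩ := hpt P hP hcP hdP
  have hxz : x = z := hzx.mem_closed (hclosed z hzS) rfl
  subst hxz
  haveI := hP
  rw [← IsLocalization.map_under (hU.primeIdealOf ⟨x, hxU⟩).asIdeal.primeCompl
    (X.presheaf.stalk x) P,
    ← IsLocalization.map_under (hU.primeIdealOf ⟨x, hxU⟩).asIdeal.primeCompl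
    (X.presheaf.stalk x) (maximalIdeal _)]
  refine congrArg _ (hz.symm.trans ?_)
  exact (IsLocalization.AtPrime.under_maximalIdeal _ _).symm

end Groth.Agent.Lib.SurfInt.Transversal
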